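import Cfsg.Agent.Lib.Perm.Zass7
import Cfsg.Agent.Lib.W2.Main
import Cfsg.Agent.Lib.OutS.J1
import Cfsg.Agent.S0992

/-! Groups generated by a class of subgroups of order 11: general tools. -/

set_option autoImplicit false
set_option linter.unusedSectionVars false

namespace Cfsg.Lib.E11

open Cfsg Subgroup MulAction Cfsg.Lib.Transfer Cfsg.Lib.BG Cfsg.Lib.Small Cfsg.Lib.Perm

variable {G Ω : Type*} [Group G] [Finite G] {A K L S : Subgroup G} {g h k s t u v w x y z : G} {p : ℕ}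

theorem exists_lam (hp : p.Prime) (hA : Nat.card A = p) :
    ∃ l : 𝐍(A) →* Multiplicative (ZMod (p - 1)), ∀ g, l g = 1 ↔ g.1 ∈ 𝐂(A) := by
  have := Fact.mk hp
  have hc : IsCyclic A := isCyclic_of_prime_card hA
  have e1 := IsCyclic.mulAutMulEquiv A
  rw [hA] at e1
  have hc2 : IsCyclic (ZMod p)ˣ := inferInstance
  have e2 : Multiplicative (ZMod (Nat.card (ZMod p)ˣ)) ≃* (ZMod p)ˣ := zmodCyclicMulEquiv hc2
  rw [Nat.card_eq_fintype_card, ZMod.card_units] at e2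
  refine ⟨(e1.trans e2.symm).toMonoidHom.comp A.normalizerMonoidHom, fun g => ?_⟩
  rw [MonoidHom.comp_apply, MulEquiv.coe_toMonoidHom, MulEquiv.map_eq_one_iff, ← MonoidHom.mem_ker,
    normalizerMonoidHom_ker, mem_subgroupOf]

theorem cent_of_coprime (hp : p.Prime) (hA : Nat.card A = p) (hg : g ∈ 𝐍(A)) {m : ℕ} (hm : g ^ m ∈ 𝐂(A))
    (hc : m.Coprime (p - 1)) : g ∈ 𝐂(A) := by
  obtain ⟨l, hl⟩ := exists_lam hp hA
  have h1 : l ⟨g, hg⟩ ^ m = 1 := by rw [← map_pow]; exact (hl _).2 hm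
  have h2 : l ⟨g, hg⟩ ^ (p - 1) = 1 := by
    have : NeZero (p - 1) := ⟨by have := hp.two_le; omega⟩
    have := pow_card_eq_one' (x := l ⟨g, hg⟩)
    rwa [Nat.card_eq_fintype_card, Fintype.card_multiplicative, ZMod.card] at this
  exact (hl ⟨g, hg⟩).1 (by simpa [hc] using pow_gcd_eq_one.2 ⟨h1, h2⟩)

theorem comm_mem_cent (hp : p.Prime) (hA : Nat.card A = p) (hg : g ∈ 𝐍(A)) (hk : k ∈ 𝐍(A)) :
    g * k * g⁻¹ * k⁻¹ ∈ 𝐂(A) := by
  obtain ⟨l, hl⟩ := exists_lam hp hA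
  exact (hl (⟨g, hg⟩ * ⟨k, hk⟩ * ⟨g, hg⟩⁻¹ * ⟨k, hk⟩⁻¹)).1 (by
    rw [map_mul, map_mul, map_mul, map_inv, map_inv, mul_inv_cancel_comm, mul_inv_cancel])

theorem pow_mem_cent (hp : p.Prime) (hA : Nat.card A = p) (hg : g ∈ 𝐍(A)) : g ^ (p - 1) ∈ 𝐂(A) := by
  obtain ⟨l, hl⟩ := exists_lam hp hA
  refine (hl (⟨g, hg⟩ ^ (p - 1))).1 ?_
  have : NeZero (p - 1) := ⟨by have := hp.two_le; omega⟩
  have := pow_card_eq_one' (x := l ⟨g, hg⟩)
  rwa [Nat.card_eq_fintype_card, Fintype.card_multiplicative, ZMod.card, ← map_pow] at this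

theorem exists_pow_five (hA : Nat.card A = 11) (hh : h ∈ 𝐍(A)) (h5 : h ^ 5 ∈ 𝐂(A)) (h1 : h ∉ 𝐂(A))
    (hg : g ∈ 𝐍(A)) (g5 : g ^ 5 ∈ 𝐂(A)) : ∃ i : ℕ, (h ^ i)⁻¹ * g ∈ 𝐂(A) := by
  obtain ⟨l, hl⟩ := exists_lam (by norm_num) hA
  have key : ∀ a b : Multiplicative (ZMod (11 - 1)), a ^ 5 = 1 → a ≠ 1 → b ^ 5 = 1 →
      ∃ i : Fin 5, (a ^ i.1)⁻¹ * b = 1 := by decide
  obtain ⟨i, hi⟩ := key (l ⟨h, hh⟩) (l ⟨g, hg⟩) (by rw [← map_pow]; exact (hl _).2 h5)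
    (fun e => h1 ((hl _).1 e)) (by rw [← map_pow]; exact (hl _).2 g5)
  exact ⟨i, (hl ((⟨h, hh⟩ ^ i.1)⁻¹ * ⟨g, hg⟩)).1 (by rw [map_mul, map_inv, map_pow, hi])⟩

theorem mul_mem_cent_two (hA : Nat.card A = 11) (hh : h ∈ 𝐍(A)) (h2 : h * h ∈ 𝐂(A)) (h1 : h ∉ 𝐂(A))
    (hg : g ∈ 𝐍(A)) (g2 : g * g ∈ 𝐂(A)) (g1 : g ∉ 𝐂(A)) : h * g ∈ 𝐂(A) := by
  obtain ⟨l, hl⟩ := exists_lam (by norm_num) hA
  have key : ∀ a b : Multiplicative (ZMod (11 - 1)), a * a = 1 → a ≠ 1 → b * b = 1 → b ≠ 1 →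
      a * b = 1 := by decide
  exact (hl (⟨h, hh⟩ * ⟨g, hg⟩)).1 (by
    rw [map_mul]
    exact key _ _ (by rw [← map_mul]; exact (hl _).2 h2) (fun e => h1 ((hl _).1 e))
      (by rw [← map_mul]; exact (hl _).2 g2) (fun e => g1 ((hl _).1 e)))

theorem inv_of_sq (hp : p.Prime) (hA : Nat.card A = p) (hg : g ∈ 𝐍(A)) (h2 : g * g ∈ 𝐂(A)) (h1 : g ∉ 𝐂(A))
    (hx : x ∈ A) : g * x * g⁻¹ = x⁻¹ := by
  have hc := abelian_iff.1 (abelian_of_cyclic (cyclic_of_prime (hA ▸ hp)))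
  by_contra hne
  have h3 := conj_mem_of_norm hg hx
  have h4 : g * x * g⁻¹ * x ≠ 1 := fun e => hne (eq_inv_of_mul_eq_one_left e)
  have h5 := zpowers_eq_of_prime (hA ▸ hp) (mul_mem h3 hx) h4
  refine h1 ?_
  rw [← h5, cent_zpowers, mem_cent1]
  have e1 := mem_cent.1 h2 x hx
  have e2 := mem_cent.1 (hc h3) x hx
  calc g * (g * x * g⁻¹ * x) = (g * g * x) * g⁻¹ * x := by group
    _ = x * (g * x * g⁻¹) * g := by rw [← e1]; group
    _ = _ := by rw [e2]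

section act
variable [MulAction G Ω] {X : Set Ω}

/-- An invariant set as a sub-action. -/
def sub (S : Subgroup G) (X : Set Ω) (h : ∀ g ∈ S, ∀ x ∈ X, g • x ∈ X) : SubMulAction S Ω where
  carrier := X
  smul_mem' g _ hx := h g g.2 _ hx

theorem card_sub (h : ∀ g ∈ S, ∀ x ∈ X, g • x ∈ X) : Nat.card (sub S X h) = X.ncard := Nat.card_coe_set_eq X

theorem card_fix_sub (h : ∀ g ∈ S, ∀ x ∈ X, g • x ∈ X) (u : S) :
    Nat.card {x : sub S X h // u • x = x} = {x ∈ X | u.1 • x = x}.ncard := by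
  rw [← Nat.card_coe_set_eq]
  exact Nat.card_congr ⟨fun x => ⟨x.1.1, x.1.2, congrArg Subtype.val x.2⟩,
    fun x => ⟨⟨x.1, x.2.1⟩, Subtype.ext x.2.2⟩, fun _ => rfl, fun _ => rfl⟩

variable [Finite Ω]

theorem exists_sgn (h : ∀ g ∈ S, ∀ x ∈ X, g • x ∈ X) : ∃ ε : S →* ℤˣ, ∀ u : S, (∀ x ∈ X, u.1 • u.1 • x = x) →
    ε u = (-1) ^ ((X.ncard - {x ∈ X | u.1 • x = x}.ncard) / 2) := by
  classical
  have := Fintype.ofFinite (sub S X h)
  refine ⟨Equiv.Perm.sign.comp (toPermHom S (sub S X h)), fun u hu => ?_⟩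
  rw [MonoidHom.comp_apply, Equiv.Perm.sign_of_pow_two_eq_one, ← card_sub h, ← card_fix_sub h,
    Nat.card_eq_fintype_card, Nat.card_eq_fintype_card]
  · rfl
  · ext x
    exact hu x.1 x.2

theorem fix_modEq (hp : p.Prime) (h : ∀ g ∈ S, ∀ x ∈ X, g • x ∈ X) (hg : g ∈ S) {n : ℕ}
    (hn : ∀ x ∈ X, g ^ p ^ n • x = x) : {x ∈ X | g • x = x}.ncard ≡ X.ncard [MOD p] := by
  classical
  have := Fintype.ofFinite (sub S X h)
  have := Fact.mk hp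
  have h1 := Equiv.Perm.card_compl_support_modEq (p := p) (n := n) (σ := toPermHom S (sub S X h) ⟨g, hg⟩)
    (by rw [← map_pow]; ext x; exact hn x.1 x.2)
  rw [← card_sub h, ← card_fix_sub h ⟨g, hg⟩, Nat.card_eq_fintype_card, Nat.card_eq_fintype_card,
    Fintype.card_subtype]
  convert h1 using 2
  ext x
  simp

theorem sgn_mod (hL : ⁅L, L⁆ = L) (h : ∀ g ∈ L, ∀ x ∈ X, g • x ∈ X) (hu : u ∈ L) (h2 : u * u = 1) :
    X.ncard % 4 = {x ∈ X | u • x = x}.ncard % 4 := by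
  obtain ⟨ε, hε⟩ := exists_sgn h
  have h1 : ε ⟨u, hu⟩ = 1 := by
    have : commutator L ≤ ε.ker := Abelianization.commutator_subset_ker ε
    refine this ?_
    rw [← mem_map_iff_mem L.subtype_injective, map_subtype_commutator, hL]
    exact hu
  rw [hε _ fun x _ => by rw [← mul_smul, h2, one_smul]] at h1
  have h3 := (neg_one_pow_eq_one_iff_even (by decide)).1 h1
  have h4 := fix_modEq Nat.prime_two h hu (n := 1) fun x _ => by rw [pow_one, pow_two, h2, one_smul]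
  have h5 : {x ∈ X | u • x = x}.ncard ≤ X.ncard := Set.ncard_le_ncard (Set.sep_subset _ _)
  unfold Nat.ModEq at h4
  rw [Nat.even_iff] at h3
  dsimp only at h3
  omega

end act

end Cfsg.Lib.E11
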