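import Cfsg.Agent.Lib.E11.A

/-! Facts on simple groups of order 660 and on `J₁`. -/

set_option autoImplicit false
set_option linter.unusedSectionVars false

namespace Cfsg.Lib.E11

open Cfsg Subgroup MulAction Cfsg.Lib.Transfer Cfsg.Lib.BG Cfsg.Lib.Small Cfsg.Lib.Perm

variable {G Ω : Type*} [Group G] [Finite G] {A K L S : Subgroup G} {g h k s t u v w x y z : G} {p : ℕ}

theorem ord2 (h2 : x * x = 1) (h1 : x ≠ 1) : orderOf x = 2 := orderOf_eq_prime (by rw [pow_two, h2]) h1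

theorem sq2 (h2 : orderOf x = 2) : x * x = 1 := by rw [← pow_two, ← h2, pow_orderOf_eq_one]

theorem ne2 (h2 : orderOf x = 2) : x ≠ 1 := fun e => by simp [e] at h2

theorem oconj (g x : G) : orderOf (g * x * g⁻¹) = orderOf x := (MulAut.conj g).orderOf_eq x

theorem exists_ord (hp : p.Prime) (h : p ∣ Nat.card K) : ∃ x ∈ K, orderOf x = p :=
  have := Fact.mk hp
  let ⟨g, e⟩ := exists_prime_orderOf_dvd_card' p h
  ⟨g, g.2, (orderOf_coe g).trans e⟩

theorem ord_dvd (h : x ∈ K) : orderOf x ∣ Nat.card K := K.orderOf_dvd_natCard h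

theorem norm_of_half (hA : A ≤ K) (h : Nat.card K = Nat.card A * 2) : K ≤ 𝐍(A) := by
  have h1 : A.relIndex K = 2 := Nat.eq_of_mul_eq_mul_left Nat.card_pos ((BG.card_mul_relIndex hA).trans h)
  have := normal_of_index_eq_two h1
  exact (normal_subgroupOf_iff_le_normalizer hA).1 this

theorem not_comm_of_card [IsSimpleGroup G] (h : ¬ (Nat.card G).Prime) : ¬ IsMulCommutative G := fun hc =>
  h (by
    letI : CommGroup G := { (inferInstance : Group G) with mul_comm := hc.1.1 }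
    exact IsSimpleGroup.prime_card)

/-- The structure of a simple group of order 660 used below. -/
structure F11 (K : Subgroup G) : Prop where
  one : ∀ u ∈ K, ∀ v ∈ K, orderOf u = 2 → orderOf v = 2 → ∃ k ∈ K, k * u * k⁻¹ = v
  ninv : {x | x ∈ K ∧ orderOf x = 2}.ncard = 55
  four : ∀ u ∈ K, orderOf u = 2 → ∃ v ∈ K, FourGen u v
  cV : ∀ u ∈ K, ∀ v ∈ K, ∀ h : FourGen u v, ∀ g ∈ K, g ∈ 𝐂[u] → g ∈ 𝐂[v] → g ∈ h.four
  rho : ∀ u ∈ K, ∀ v ∈ K, FourGen u v → ∃ r ∈ K, r * u * r⁻¹ = v ∧ r * v * r⁻¹ = u * v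
  ww : ∀ u ∈ K, ∀ v ∈ K, FourGen u v → ∃ w ∈ K, orderOf w = 3 ∧ w ∈ 𝐂[u] ∧ v * w * v⁻¹ = w⁻¹
  no4 : ∀ x ∈ K, x ^ 4 = 1 → x * x = 1

theorem f11_top [IsSimpleGroup G] (hc : Nat.card G = 660) (h1 : ∀ u v : G, orderOf u = 2 → orderOf v = 2 → IsConj u v)
    (h55 : Nat.card {x : G // orderOf x = 2} = 55) : F11 (⊤ : Subgroup G) := by
  have hS := fun T => Agent.S0992.result (G := G) (not_comm_of_card (by rw [hc]; norm_num)) (by rw [hc]; decide)
    (by rw [hc]; decide) T
  have h12 : ∀ u : G, orderOf u = 2 → Nat.card 𝐂[u] = 12 := fun u hu => by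
    have e1 := FGS.ncard_isConj u
    have e2 : {y | IsConj u y} = {x | orderOf x = 2} := Set.ext fun y =>
      ⟨fun e => by obtain ⟨c, rfl⟩ := isConj_iff.1 e; exact (oconj ..).trans hu, h1 u y hu⟩
    rw [e2, ← Nat.card_coe_set_eq] at e1
    have e3 := 𝐂[u].card_mul_index
    rw [← e1, hc] at e3
    change _ * Nat.card {x : G // orderOf x = 2} = _ at e3
    rw [h55] at e3
    omega
  have syl : ∀ {u v : G} (h : FourGen u v), ∃ T : Sylow 2 G, T.1 = h.four := fun h =>
    exists_sylow_eq_iff.2 ⟨GW.four_pgroup h, by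
      have := h.four.card_mul_index
      rw [h.card_four, hc] at this
      omega⟩
  have hN : ∀ {u v : G} (h : FourGen u v), 𝐂(h.four) = h.four ∧ Nat.card 𝐍(h.four) = 12 := fun {u v} h => by
    obtain ⟨T, hT⟩ := syl h
    have e1 := (hS T).2
    rw [hT] at e1
    have e2 := BG.card_mul_relIndex (cent_le_norm h.four)
    have e3 := card_subgroup_dvd_card 𝐍(h.four)
    have e4 := card_dvd (cent_le_cent1 h.left_mem)
    have e5 := abelian_cent (GW.four_abelian h)
    have e6 := card_dvd e5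
    rw [h12 u h.orderOf_eq] at e4
    rw [h.card_four] at e6
    rw [e1] at e2
    rw [← e2, hc] at e3
    have : Nat.card 𝐂(h.four) = 4 := by
      have := Nat.le_of_dvd (by norm_num) e4
      generalize Nat.card 𝐂(h.four) = m at *
      interval_cases m <;> omega
    exact ⟨(eq_of_le_of_card_le e5 (by rw [this, h.card_four])).symm, by omega⟩
  have hcV : ∀ {u v : G} (h : FourGen u v), ∀ g, g ∈ 𝐂[u] → g ∈ 𝐂[v] → g ∈ h.four := fun h g a b =>
    (hN h).1 ▸ (GW.mem_cent_four h).2 ⟨a, b⟩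
  have o3 : ∀ {u v : G} (h : FourGen u v), ∀ g, orderOf g = 3 → g ∉ h.four := fun h g a b => by
    have := ord_dvd b
    rw [a, h.card_four] at this
    omega
  refine ⟨fun u _ v _ a b => ?_, ?_, fun u _ a => ?_, fun u _ v _ h g _ => hcV h g, fun u _ v _ h => ?_,
    fun u _ v _ h => ?_, fun x _ hx => ?_⟩
  · obtain ⟨c, e⟩ := isConj_iff.1 (h1 u v a b)
    exact ⟨c, trivial, e⟩
  · rw [← h55, ← Nat.card_coe_set_eq]
    exact Nat.card_congr (Equiv.subtypeEquivRight fun x => by simp)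
  · obtain ⟨T, hT⟩ := (IsPGroup.of_card (p := 2) (n := 1) ((Nat.card_zpowers u).trans a)).exists_le_sylow
    obtain ⟨s, hs, -⟩ := exists_fourGen_of_mem (hS T).1 (hT (mem_zpowers u)) (ne2 a)
    exact ⟨s, trivial, hs⟩
  · obtain ⟨r, hr, r3⟩ := exists_ord (K := 𝐍(h.four)) Nat.prime_three (by rw [(hN h).2]; norm_num)
    have nf : ∀ z ∈ h.four, z ≠ 1 → r * z * r⁻¹ ≠ z := fun z hz z1 e => o3 h (r * r) (by
      rw [← pow_two, (Nat.Coprime.orderOf_pow (by rw [r3]; norm_num)), r3]) ((hN h).1 ▸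
        sq_mem_centralizer_of_commute h.isKleinFour hr hz z1 (mul_inv_eq_iff_eq_mul.1 e))
    have a1 := h.mem_four.1 (conj_mem_of_norm hr h.left_mem)
    have a2 := h.mem_four.1 (conj_mem_of_norm hr h.right_mem)
    have b1 := nf _ h.left_mem h.ne_one
    have b2 := nf _ h.right_mem h.ne_one'
    have b3 := nf _ (mul_mem h.left_mem h.right_mem) h.mul_ne_one
    have b4 : r * (u * v) * r⁻¹ = (r * u * r⁻¹) * (r * v * r⁻¹) := by group
    have c := h.conj r
    rcases a1 with a1 | a1 | a1 | a1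
    · exact absurd a1 c.ne_one
    · exact absurd a1 b1
    · rcases a2 with a2 | a2 | a2 | a2
      · exact absurd a2 c.ne_one'
      · exact absurd (by rw [b4, a1, a2, h.comm]) b3
      · exact absurd a2 b2
      · exact ⟨r, trivial, a1, a2⟩
    · rcases a2 with a2 | a2 | a2 | a2
      · exact absurd a2 c.ne_one'
      · refine ⟨r⁻¹, trivial, by rw [← a2]; group, ?_⟩
        rw [a1, a2, h.mul_mul_left'] at b4
        calc _ = r⁻¹ * (r * (u * v) * r⁻¹) * r⁻¹⁻¹ := by rw [b4]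
          _ = _ := by group
      · exact absurd a2 b2
      · exact absurd (a1.trans a2.symm) c.ne
  · obtain ⟨w, hw, w3⟩ := exists_ord (K := 𝐂[u]) Nat.prime_three (by rw [h12 u h.orderOf_eq]; norm_num)
    have c1 : Commute u w := (mem_cent1.1 hw).symm
    have o6 : orderOf (u * w) = 6 := by
      rw [c1.orderOf_mul_eq_mul_orderOf_of_coprime (by rw [h.orderOf_eq, w3]; norm_num), h.orderOf_eq, w3]
    have n1 : v ∈ 𝐍(zpowers (u * w)) := norm_of_half (zpowers_le.2 (mul_mem (self_mem_cent1 u) hw))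
      (by rw [Nat.card_zpowers, o6, h12 u h.orderOf_eq]) (mem_cent1.2 h.comm.symm)
    have n2 : zpowers w ≤ zpowers (u * w) := zpowers_le.2 ⟨4, by
      have : w ^ 3 = 1 := w3 ▸ pow_orderOf_eq_one w
      simp only
      rw [show (4 : ℤ) = (4 : ℕ) from rfl, zpow_natCast, c1.mul_pow, show u ^ 4 = u * u * (u * u) by
        simp [pow_succ, mul_assoc], h.sq, pow_succ, this, one_mul, one_mul, one_mul]⟩
    refine ⟨w, trivial, w3, hw, inv_of_sq Nat.prime_three ((Nat.card_zpowers w).trans w3)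
      (norm_le_of_le_cyclic inferInstance n2 n1) (h.sq' ▸ one_mem _) (fun e => ?_) (mem_zpowers w)⟩
    rw [cent_zpowers] at e
    exact o3 h w w3 (hcV h w hw (mem_cent1_symm e))
  · obtain ⟨T, hT⟩ := (show IsPGroup 2 (zpowers x) from fun g => ⟨2, by
      obtain ⟨_, k, rfl⟩ := g
      exact Subtype.ext (by
        change (x ^ k) ^ 4 = 1
        rw [← zpow_natCast, ← zpow_mul, mul_comm, zpow_mul, zpow_natCast, hx, one_zpow])⟩).exists_le_sylow
    exact mul_self_of_isKleinFour (hS T).1 (hT (mem_zpowers x))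

theorem FourGen_sub {u v : K} (h : FourGen u.1 v.1) : FourGen u v :=
  ⟨fun e => h.1 (congrArg _ e), fun e => h.2 (congrArg _ e), fun e => h.3 (congrArg _ e),
    Subtype.ext h.4, Subtype.ext h.5, Subtype.ext h.6⟩

theorem F11.of_top (h : F11 (⊤ : Subgroup K)) : F11 K := by
  refine ⟨fun u a v b c d => ?_, ?_, fun u a b => ?_, fun u a v b f g c d e => ?_, fun u a v b f => ?_,
    fun u a v b f => ?_, fun x a b => congrArg Subtype.val (h.no4 ⟨x, a⟩ trivial (Subtype.ext b))⟩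
  · obtain ⟨k, -, e⟩ := h.one ⟨u, a⟩ trivial ⟨v, b⟩ trivial ((orderOf_mk ..).trans c) ((orderOf_mk ..).trans d)
    exact ⟨k, k.2, congrArg Subtype.val e⟩
  · rw [← h.ninv, ← Set.ncard_image_of_injective _ K.subtype_injective]
    congr 1
    ext x
    exact ⟨fun a => ⟨⟨x, a.1⟩, ⟨trivial, (orderOf_mk ..).trans a.2⟩, rfl⟩,
      by rintro ⟨y, a, rfl⟩; exact ⟨y.2, (orderOf_coe y).trans a.2⟩⟩
  · obtain ⟨v, -, e⟩ := h.four ⟨u, a⟩ trivial ((orderOf_mk ..).trans b)
    exact ⟨v, v.2, e.map K.subtype_injective⟩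
  · have := h.cV ⟨u, a⟩ trivial ⟨v, b⟩ trivial (FourGen_sub f) ⟨g, c⟩ trivial
      (mem_cent1.2 (Subtype.ext (mem_cent1.1 d))) (mem_cent1.2 (Subtype.ext (mem_cent1.1 e)))
    rw [FourGen.mem_four] at this ⊢
    simpa [Subtype.ext_iff] using this
  · obtain ⟨r, -, e⟩ := h.rho ⟨u, a⟩ trivial ⟨v, b⟩ trivial (FourGen_sub f)
    exact ⟨r, r.2, congrArg Subtype.val e.1, congrArg Subtype.val e.2⟩
  · obtain ⟨r, -, e⟩ := h.ww ⟨u, a⟩ trivial ⟨v, b⟩ trivial (FourGen_sub f)
    exact ⟨r, r.2, (orderOf_coe r).trans e.1, mem_cent1.2 (congrArg Subtype.val (mem_cent1.1 e.2.1)),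
      congrArg Subtype.val e.2.2⟩

/-- Exponent 2 for 2-elements gives abelian Sylow 2-subgroups. -/
theorem ab2_of_no4 (h : ∀ x : G, x ^ 4 = 1 → x * x = 1) : JR.Ab2 G := fun P hP a ha b hb => by
  have key : ∀ x ∈ P, x * x = 1 := fun x hx => by
    obtain ⟨k, hk⟩ := hP ⟨x, hx⟩
    replace hk : x ^ 2 ^ k = 1 := congrArg Subtype.val hk
    clear hx
    induction k generalizing x with
    | zero => simp_all
    | succ k ih => exact h x (by
        have := ih (x * x) (by rw [← pow_two, ← pow_mul, ← pow_succ', hk])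
        simpa [pow_succ, mul_assoc] using this)
  calc a * b = (a * b)⁻¹ := (inv_eq_of_mul_eq_one_right (key _ (mul_mem ha hb))).symm
    _ = b * a := by rw [mul_inv_rev, inv_eq_of_mul_eq_one_right (key a ha), inv_eq_of_mul_eq_one_right (key b hb)]

theorem isoJ1_of [IsSimpleGroup G] (hA : JR.Ab2 G) (ht : orderOf t = 2) (h24 : 24 ∣ Nat.card 𝐂[t])
    (h5 : 5 ∣ Nat.card G) : Spor.IsoJ1 G := by
  have hG : ¬ IsMulCommutative G := not_comm_of_card fun hp => by
    have := (Nat.dvd_prime hp).1 (h24.trans (card_subgroup_dvd_card _))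
    rw [← this.resolve_left (by norm_num)] at hp
    norm_num at hp
  obtain ⟨p, q, m, k, e, h⟩ := W2.exists_rt hG hA ht (Dvd.dvd.trans (by norm_num) h24) (Dvd.dvd.trans (by norm_num) h24)
  rcases (h.main (commutator_eq_top_of_simple hG)).2 with ⟨f, -, rfl, hc⟩ | h
  · exfalso
    have key : ∀ f : ℕ, 3 ^ (2 * f + 1) % 5 = 3 ∨ 3 ^ (2 * f + 1) % 5 = 2 := fun f => by
      induction f with
      | zero => simp
      | succ f ih => rw [show 2 * (f + 1) + 1 = 2 * f + 1 + 2 by ring, pow_add]; omega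
    rw [hc] at h5
    replace key := key f
    generalize 3 ^ (2 * f + 1) = q at *
    have h3 : q ^ 3 % 5 = 2 ∨ q ^ 3 % 5 = 3 := by
      rcases key with e | e <;> simp [Nat.pow_mod, e]
    rcases (Nat.Prime.dvd_mul (by norm_num)).1 h5 with h5 | h5
    · rcases (Nat.Prime.dvd_mul (by norm_num)).1 h5 with h5 | h5 <;> omega
    · omega
  · exact h.2

end Cfsg.Lib.E11
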