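import Cfsg.Agent.Lib.E11.B

/-! Facts on `J₁` as a subgroup. -/

set_option autoImplicit false
set_option linter.unusedSectionVars false

namespace Cfsg.Lib.E11

open Cfsg Subgroup MulAction Cfsg.Lib.Transfer Cfsg.Lib.BG Cfsg.Lib.Small Cfsg.Lib.Perm

variable {G Ω : Type*} [Group G] [Finite G] {A K L S : Subgroup G} {g h k s t u v w x y z : G} {p : ℕ}

open Equiv in
theorem a5 : ∀ h : Perm (Fin 5), h ^ 5 = 1 → h ≠ 1 → (∃ s : Perm (Fin 5), Perm.sign s = 1 ∧ s * h * s⁻¹ = h⁻¹) ∧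
    ∀ g : Perm (Fin 5), g * h = h * g → ∃ i : Fin 5, g = h ^ i.1 ∧ (g * g = 1 → g = 1) := by decide +kernel

theorem za {H : Type*} [Group H] (φ : H ≃* Multiplicative (ZMod 2) × alternatingGroup (Fin 5)) {t h : H}
    (ht : orderOf t = 2) (hh : orderOf h = 5) (c : t * h = h * t) :
    (∃ s, s * h * s⁻¹ = h⁻¹) ∧ ∀ g, g * h = h * g → ∃ i : ℕ, g = h ^ i ∨ g = t * h ^ i := by
  have e5 : φ h ^ 5 = 1 := by rw [← map_pow, orderOf_dvd_iff_pow_eq_one.1 hh.dvd, map_one]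
  have z2 : ∀ a : Multiplicative (ZMod 2), a ^ 5 = 1 → a = 1 := by decide
  have z3 : ∀ a b : Multiplicative (ZMod 2), a ≠ 1 → b = 1 ∨ b = a := by decide
  have e1 : (φ h).1 = 1 := z2 _ (congrArg Prod.fst e5)
  have e2 : (φ h).2.1 ≠ 1 := fun e => by
    have : φ h = 1 := Prod.ext e1 (Subtype.ext e)
    rw [φ.map_eq_one_iff] at this
    simp [this] at hh
  obtain ⟨⟨s, s1, s2⟩, k⟩ := a5 _ (congrArg (fun x => x.2.1) e5) e2
  have k' : ∀ g, g * h = h * g → ∃ i : Fin 5, (φ g).2.1 = (φ h).2.1 ^ i.1 ∧ ((φ g).2.1 * (φ g).2.1 = 1 → (φ g).2.1 = 1) :=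
    fun g e => k _ (by simpa using congrArg (fun x => (φ x).2.1) e)
  have t2 : (φ t).2 = 1 := by
    obtain ⟨i, -, e⟩ := k' t c
    have : t * t = 1 := by rw [← pow_two, ← ht, pow_orderOf_eq_one]
    exact Subtype.ext (e (by simpa using congrArg (fun x => (φ x).2.1) this))
  have t1 : (φ t).1 ≠ 1 := fun e => by
    have : φ t = 1 := Prod.ext e t2
    rw [φ.map_eq_one_iff] at this
    simp [this] at ht
  refine ⟨⟨φ.symm (1, ⟨s, s1⟩), φ.injective ?_⟩, fun g e => ?_⟩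
  · rw [map_mul, map_mul, map_inv, map_inv, φ.apply_symm_apply]
    exact Prod.ext (by simp [e1]) (Subtype.ext s2)
  · obtain ⟨i, hi, -⟩ := k' g e
    refine ⟨i, (z3 _ (φ g).1 t1).imp (fun a => φ.injective ?_) fun a => φ.injective ?_⟩
    · exact Prod.ext (by simp [e1, a]) (Subtype.ext (by simpa using hi))
    · exact Prod.ext (by simp [e1, a]) (Subtype.ext (by simpa [t2] using hi))

/-- The structure of `J₁` used below. -/
structure FJ (K : Subgroup G) : Prop where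
  card : Nat.card K = 175560
  simple : IsSimpleGroup K
  inner : ∀ g ∈ 𝐍(K), ∃ k ∈ K, ∃ z ∈ 𝐂(K), g = k * z
  ord : ∀ x ∈ K, ∃ j ∈ [6, 7, 10, 11, 15, 19], orderOf x ∣ j
  one : ∀ u ∈ K, ∀ v ∈ K, orderOf u = 2 → orderOf v = 2 → ∃ k ∈ K, k * u * k⁻¹ = v
  c120 : ∀ t ∈ K, orderOf t = 2 → Nat.card ↥(K ⊓ 𝐂[t]) = 120
  inv5 : ∀ t ∈ K, orderOf t = 2 → ∀ h ∈ K, orderOf h = 5 → h ∈ 𝐂[t] → (∃ s ∈ K, s ∈ 𝐂[t] ∧ s * h * s⁻¹ = h⁻¹) ∧
    ∀ g ∈ K, g ∈ 𝐂[t] → g ∈ 𝐂[h] → ∃ i : ℕ, g = h ^ i ∨ g = t * h ^ i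

theorem no4_of_ord (h : ∃ j ∈ [6, 7, 10, 11, 15, 19], orderOf x ∣ j) (h4 : x ^ 4 = 1) : x * x = 1 := by
  obtain ⟨j, hj, e⟩ := h
  have := Nat.dvd_gcd e (orderOf_dvd_of_pow_eq_one h4)
  rw [← pow_two]
  refine orderOf_dvd_iff_pow_eq_one.1 (this.trans ?_)
  simp only [List.mem_cons, List.not_mem_nil, or_false] at hj
  rcases hj with rfl | rfl | rfl | rfl | rfl | rfl <;> decide

theorem fj (hK : Spor.IsoJ1 K) : FJ K := by
  obtain ⟨e⟩ := id hK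
  obtain ⟨hs, hc⟩ := JR.isJ1_of_iso hK
  have ord : ∀ x : K, ∃ j ∈ [6, 7, 10, 11, 15, 19], orderOf x ∣ j := fun x =>
    e.orderOf_eq x ▸ (J1.spec_J1.le ⟨e x, rfl⟩ :)
  obtain ⟨t, -, ht, ⟨φ⟩⟩ := J1.exists_centralizer
  obtain ⟨t, rfl⟩ := e.surjective t
  rw [e.orderOf_eq] at ht
  have ψ : 𝐂[t] ≃* 𝐂[e t] := ((𝐂[t]).equivMapOfInjective e.toMonoidHom e.injective).trans
    (MulEquiv.subgroupCongr (by
      ext x
      obtain ⟨x, rfl⟩ := e.surjective x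
      refine (mem_map_iff_mem e.injective).trans ?_
      rw [mem_cent1, mem_cent1, ← map_mul, ← map_mul, e.injective.eq_iff]))
  have c0 : Nat.card 𝐂[t] = 120 := (Nat.card_congr (ψ.trans φ).toEquiv).trans JR.card_ZA
  obtain ⟨p, q, m, k, r, rt⟩ := W2.exists_rt (not_comm_of_card (by rw [hc]; norm_num))
    (ab2_of_no4 fun x => no4_of_ord (ord x)) ht (by rw [c0]; norm_num) (by rw [c0]; norm_num)
  have iso : ∀ u : K, orderOf u = 2 → Nonempty (𝐂[u] ≃* _) := fun u hu => by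
    obtain ⟨g, rfl⟩ := rt.one t u ht hu
    exact ⟨((MulEquiv.subgroupCongr (conj_cent1 g t).symm).trans (conjEquiv g _).symm).trans (ψ.trans φ)⟩
  refine ⟨hc, hs, fun g hg => ?_, fun x a => orderOf_mk (H := K) x a ▸ ord ⟨x, a⟩, fun u a v b c d => ?_,
    fun u a b => ?_, fun u a b h c d f => ?_⟩
  · have h1 : Subsingleton (Out Spor.J1) := (Nat.card_eq_one_iff_unique.1 OutS.J1.card_out).1
    obtain ⟨y, hy⟩ : (e.symm.trans ((K.normalizerMonoidHom ⟨g, hg⟩).trans e) : MulAut Spor.J1) ∈ Inn Spor.J1 :=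
      (QuotientGroup.eq_one_iff _).1 (Subsingleton.elim _ _)
    obtain ⟨y, rfl⟩ := e.surjective y
    refine ⟨y, y.2, (y : G)⁻¹ * g, mem_cent.2 fun x hx => ?_, by group⟩
    have := congrArg (fun f : MulAut Spor.J1 => (e.symm (f (e ⟨x, hx⟩))).1) hy
    simp only [MulAut.conj_apply, ← map_mul, ← map_inv, MulEquiv.trans_apply, MulEquiv.symm_apply_apply] at this
    have h2 : (y : G) * x * (y : G)⁻¹ = g * x * g⁻¹ := this
    calc _ = (y : G)⁻¹ * ((y : G) * x * (y : G)⁻¹) * g := by group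
      _ = _ := by rw [h2]; group
  · obtain ⟨k, e⟩ := rt.one ⟨u, a⟩ ⟨v, b⟩ ((orderOf_mk ..).trans c) ((orderOf_mk ..).trans d)
    exact ⟨k, k.2, congrArg Subtype.val e⟩
  · obtain ⟨χ⟩ := iso ⟨u, a⟩ ((orderOf_mk ..).trans b)
    exact (FGS.card_cent1_subtype K ⟨u, a⟩).symm.trans ((Nat.card_congr χ.toEquiv).trans JR.card_ZA)
  · obtain ⟨χ⟩ := iso ⟨u, a⟩ ((orderOf_mk ..).trans b)
    obtain ⟨⟨s, hs⟩, k⟩ := za χ (t := ⟨⟨u, a⟩, self_mem_cent1 _⟩) (h := ⟨⟨h, c⟩, mem_cent1.2 (Subtype.ext (mem_cent1.1 f))⟩)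
      ((orderOf_mk ..).trans ((orderOf_mk ..).trans b)) ((orderOf_mk ..).trans ((orderOf_mk ..).trans d))
      (Subtype.ext (Subtype.ext (mem_cent1.1 f).symm))
    refine ⟨⟨s.1.1, s.1.2, mem_cent1.2 (congrArg Subtype.val (mem_cent1.1 s.2)), congrArg (·.1.1) hs⟩,
      fun g g1 g2 g3 => ?_⟩
    obtain ⟨i, hi⟩ := k ⟨⟨g, g1⟩, mem_cent1.2 (Subtype.ext (mem_cent1.1 g2))⟩ (Subtype.ext (Subtype.ext (mem_cent1.1 g3)))
    exact ⟨i, hi.imp (fun e => congrArg (·.1.1) e) fun e => congrArg (·.1.1) e⟩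

theorem FJ.no4 (h : FJ K) (hx : x ∈ K) (h4 : x ^ 4 = 1) : x * x = 1 := no4_of_ord (h.ord x hx) h4

theorem FJ.n4 (h : FJ K) (hx : x ∈ K) : ¬ 4 ∣ orderOf x := fun e => by
  obtain ⟨j, hj, d⟩ := h.ord x hx
  have := e.trans d
  simp only [List.mem_cons, List.not_mem_nil, or_false] at hj
  rcases hj with rfl | rfl | rfl | rfl | rfl | rfl <;> omega

theorem FJ.c11 (h : FJ K) (hA : Nat.card A = 11) (hAK : A ≤ K) : K ⊓ 𝐂(A) = A := by
  have : Fact (Nat.Prime 11) := ⟨by norm_num⟩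
  have hAc := abelian_cent (abelian_of_cyclic (cyclic_of_prime (hA ▸ this.out)))
  have hp : IsPGroup 11 ↥(K ⊓ 𝐂(A)) := PiGrp.pgroup fun q hq hd => by
    obtain ⟨x, hx, e⟩ := exists_ord hq hd
    obtain ⟨y, hy, e'⟩ := exists_ord this.out hA.symm.dvd
    by_contra hne
    have c : Commute y x := mem_cent.1 hx.2 y hy
    obtain ⟨j, hj, d⟩ := h.ord _ (mul_mem (hAK hy) hx.1)
    rw [c.orderOf_mul_eq_mul_orderOf_of_coprime (by
      rw [e, e']; exact (Nat.coprime_primes this.out hq).2 (Ne.symm hne)), e, e'] at d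
    have d1 := (dvd_mul_right _ _).trans d
    simp only [List.mem_cons, List.not_mem_nil, or_false] at hj
    have := hq.two_le
    rcases hj with rfl | rfl | rfl | rfl | rfl | rfl <;> first | omega | skip
    have := Nat.le_of_dvd (by norm_num) d
    omega
  refine (Syl.eq_of_le_pgroup (Syl.mk' hAK (IsPGroup.of_card (n := 1) hA) ?_) (le_inf hAK hAc) inf_le_left hp).symm
  have := BG.card_mul_relIndex hAK
  rw [hA, h.card] at this
  omega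

end Cfsg.Lib.E11
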