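import Cfsg.Agent.Lib.E11.C

/-! The geometry of a class of subgroups of order 11: points and blocks. -/

set_option autoImplicit false
set_option linter.unusedSectionVars false

namespace Cfsg.Lib.E11

open Cfsg Subgroup MulAction Cfsg.Lib.Transfer Cfsg.Lib.BG Cfsg.Lib.Small Cfsg.Lib.Perm

variable {G Ω : Type*} [Group G] [Finite G] {A K L S : Subgroup G} {g h k s t u v w x y z : G} {p : ℕ}

/-- Simple of order 660. -/
structure T1 (K : Subgroup G) : Prop where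
  simple : IsSimpleGroup K
  card : Nat.card K = 660

/-- Simple of order 660, or `J₁`. -/
def Blk (K : Subgroup G) : Prop := T1 K ∨ Spor.IsoJ1 K

theorem T1.of_equiv {H : Type*} [Group H] [Finite H] {L : Subgroup H} (h : T1 K) (e : K ≃* L) : T1 L :=
  ⟨(haveI := h.simple; e.symm.isSimpleGroup), (Nat.card_congr e.toEquiv).symm.trans h.card⟩

theorem isoJ1_equiv {H H' : Type*} [Group H] [Group H'] (h : Spor.IsoJ1 H) (e : H ≃* H') : Spor.IsoJ1 H' :=
  ⟨e.symm.trans h.some⟩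

theorem Blk.of_equiv {H : Type*} [Group H] [Finite H] {L : Subgroup H} (h : Blk K) (e : K ≃* L) : Blk L :=
  h.imp (·.of_equiv e) (isoJ1_equiv · e)

theorem T1.conj (h : T1 K) (g : G) : T1 (g ⋆ K) := h.of_equiv (conjEquiv g K)

theorem j1_conj (h : Spor.IsoJ1 K) (g : G) : Spor.IsoJ1 ↥(g ⋆ K) := isoJ1_equiv h (conjEquiv g K)

theorem T1.not_j1 (h : T1 K) (h' : Spor.IsoJ1 K) : False := by
  have := h.card.symm.trans (fj h').card
  omega

namespace Blk
variable (hK : Blk K)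
include hK

theorem simple : IsSimpleGroup K := hK.elim (·.simple) fun h => (fj h).simple

theorem card : Nat.card K = 660 ∨ Nat.card K = 175560 := hK.imp (·.card) fun h => (fj h).card

theorem ncomm : ¬ IsMulCommutative K :=
  have := hK.simple
  not_comm_of_card (by rcases hK.card with e | e <;> rw [e] <;> norm_num)

theorem nml (h : Nml L K) : L = ⊥ ∨ L = K := by
  have := hK.simple
  refine (h.normal.eq_bot_or_eq_top).imp (fun e => ?_) fun e => h.le.antisymm (subgroupOf_eq_top.1 e)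
  rwa [subgroupOf_eq_bot, disjoint_iff, inf_of_le_left h.le] at e

theorem perf : ⁅K, K⁆ = K := (hK.nml (Nml.der_self K)).resolve_left fun e => hK.ncomm (abelian_iff_der.2 e)

theorem inf_cent : K ⊓ 𝐂(K) = ⊥ := (hK.nml (Nml.cent (le_norm K))).resolve_right fun e =>
  hK.ncomm (abelian_iff.2 (e.ge.trans inf_le_right))

theorem eq_one (h1 : x ∈ K) (h2 : x ∈ 𝐂(K)) : x = 1 := mem_bot.1 (hK.inf_cent ▸ ⟨h1, h2⟩)

theorem syl11 (hA : Nat.card A = 11) (h : A ≤ K) : haveI : Fact (Nat.Prime 11) := ⟨by norm_num⟩; Syl 11 A K := by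
  have : Fact (Nat.Prime 11) := ⟨by norm_num⟩
  refine Syl.mk' h (IsPGroup.of_card (n := 1) hA) ?_
  have := BG.card_mul_relIndex h
  rw [hA] at this
  rcases hK.card with e | e <;> omega

theorem eq_of_le (h : T1 L) (hle : K ≤ L) : K = L :=
  eq_of_le_of_card_le hle (by rw [h.card]; rcases hK.card with e | e <;> omega)

theorem eq_of_ge (h : Spor.IsoJ1 L) (hle : L ≤ K) : L = K :=
  eq_of_le_of_card_le hle (by rw [(fj h).card]; rcases hK.card with e | e <;> omega)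

theorem uniq (h1 : k ∈ K) (h2 : z ∈ 𝐂(K)) (h3 : x ∈ K) (h4 : y ∈ 𝐂(K)) (e : k * z = x * y) : k = x ∧ z = y := by
  have : x⁻¹ * k = 1 := hK.eq_one (mul_mem (inv_mem h3) h1) (by
    rw [show x⁻¹ * k = y * z⁻¹ by rw [eq_mul_inv_iff_mul_eq, mul_assoc, e]; group]
    exact mul_mem h4 (inv_mem h2))
  obtain rfl := (inv_mul_eq_one.1 this).symm
  exact ⟨rfl, mul_left_cancel e⟩

/-- An element commuting with `k z` and normalising `K` commutes with both parts. -/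
theorem comm_part (h1 : k ∈ K) (h2 : z ∈ 𝐂(K)) (hg : g ∈ 𝐍(K)) (e : g ∈ 𝐂[k * z]) : g ∈ 𝐂[k] ∧ g ∈ 𝐂[z] := by
  have := hK.uniq (conj_mem_of_norm hg h1) (conj_mem_of_norm (norm_cent le_rfl hg) h2) h1 h2
    (by rw [mul_assoc, mul_assoc, mul_assoc, inv_mul_cancel_left, ← mul_assoc k, ← mul_assoc, mem_cent1.1 e]; group)
  exact ⟨mem_cent1.2 (mul_inv_eq_iff_eq_mul.1 this.1), mem_cent1.2 (mul_inv_eq_iff_eq_mul.1 this.2)⟩

theorem pow_part (h1 : k ∈ K) (h2 : z ∈ 𝐂(K)) {n : ℕ} (e : (k * z) ^ n = 1) : k ^ n = 1 ∧ z ^ n = 1 :=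
  hK.uniq (pow_mem h1 n) (pow_mem h2 n) (one_mem _) (one_mem _)
    (by rw [← Commute.mul_pow (mem_cent.1 h2 k h1), e, one_mul])

theorem sq_part (h1 : k ∈ K) (h2 : z ∈ 𝐂(K)) (e : k * z * (k * z) = 1) : k * k = 1 ∧ z * z = 1 := by
  simpa only [pow_two] using hK.pow_part h1 h2 (n := 2) (by rw [pow_two, e])

end Blk

theorem mem_KC : g ∈ K ⊔ 𝐂(K) ↔ ∃ k ∈ K, ∃ z ∈ 𝐂(K), k * z = g := mem_sup_left_norm (cent_le_norm K)

theorem KC_le : K ⊔ 𝐂(K) ≤ 𝐍(K) := sup_le (le_norm K) (cent_le_norm K)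

theorem relIndex_cent_dvd (hp : p.Prime) (hA : Nat.card A = p) (hS : S ≤ 𝐍(A)) : 𝐂(A).relIndex S ∣ p - 1 := by
  obtain ⟨l, hl⟩ := exists_lam hp hA
  refine (relIndex_dvd_of_norm hS (norm_cent le_rfl)).trans ?_
  have : l.ker = 𝐂(A).subgroupOf 𝐍(A) := Subgroup.ext hl
  have h0 : NeZero (p - 1) := ⟨by have := hp.two_le; omega⟩
  rw [relIndex, ← this, index_ker]
  have := card_subgroup_dvd_card l.range
  rwa [Nat.card_eq_fintype_card (α := Multiplicative _), Fintype.card_multiplicative, ZMod.card] at this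

variable [MulAction G Ω] [Finite Ω] {U : Ω → Subgroup G} {a b c d : Ω} {X : Set Ω}

theorem ncard_orbit (S : Subgroup G) (a : Ω) : (orbit S a).ncard * Nat.card ↥(S ⊓ stabilizer G a) = Nat.card S := by
  rw [← index_stabilizer, ← BG.card_mul_relIndex (inf_le_left (a := S) (b := stabilizer G a)), inf_relIndex_left, mul_comm]
  rfl

theorem mem_orb : b ∈ orbit S a ↔ ∃ g ∈ S, g • a = b :=
  ⟨fun ⟨g, e⟩ => ⟨g, g.2, e⟩, fun ⟨g, h, e⟩ => ⟨⟨g, h⟩, e⟩⟩

theorem fix_of_comm (hg : g ∈ 𝐂[x]) (ha : x • a = a) : x • g • a = g • a := by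
  rw [← mul_smul, ← mem_cent1.1 hg, mul_smul, ha]

theorem conj_fix (ha : x • a = a) (g : G) : (g * x * g⁻¹) • g • a = g • a := by
  rw [mul_smul, mul_smul, inv_smul_smul, ha]

/-- The points in a subgroup. -/
def pts (U : Ω → Subgroup G) (K : Subgroup G) : Set Ω := {c | U c ≤ K}

/-- An equivariant family of subgroups of order 11, any two of which generate a block. -/
structure Geo (U : Ω → Subgroup G) : Prop where
  inj : Function.Injective U
  eqv : ∀ (g : G) a, U (g • a) = g ⋆ U a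
  card : ∀ a, Nat.card (U a) = 11
  blk : ∀ {a b}, a ≠ b → Blk (U a ⊔ U b)

theorem left_pt : a ∈ pts U (U a ⊔ U b) := le_sup_left (a := U a)

theorem right_pt : b ∈ pts U (U a ⊔ U b) := le_sup_right (b := U b)

theorem pts_mono (h : K ≤ L) (ha : a ∈ pts U K) : a ∈ pts U L := le_trans (α := Subgroup G) ha h

theorem p11 : Nat.Prime 11 := by norm_num

namespace Geo
variable (H : Geo U)
include H

theorem fix_iff : g • a = a ↔ g ∈ 𝐍(U a) :=
  ⟨fun e => norm_of_conj_eq (by rw [← H.eqv, e]), fun e => H.inj (by rw [H.eqv, conj_eq_of_norm e])⟩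

theorem nrm (e : g • a = a) : g ∈ 𝐍(U a) := H.fix_iff.1 e

theorem stab (a : Ω) : stabilizer G a = 𝐍(U a) := Subgroup.ext fun _ => H.fix_iff

theorem cfix (hg : g ∈ 𝐂(U a)) : g • a = a := H.fix_iff.2 (cent_le_norm _ hg)

theorem le_cent (a : Ω) : U a ≤ 𝐂(U a) := abelian_cent (abelian_of_cyclic (cyclic_of_prime (H.card a ▸ p11)))

theorem ufix (hg : g ∈ U a) : g • a = a := H.cfix (H.le_cent a hg)

theorem u11 (hg : g ∈ U a) : g ^ 11 = 1 := orderOf_dvd_iff_pow_eq_one.1 (H.card a ▸ ord_dvd hg)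

theorem cent_smul (hx : x ∈ 𝐂(U a)) (g : G) : g * x * g⁻¹ ∈ 𝐂(U (g • a)) := by
  rw [H.eqv, ← conj_centralizer]
  exact conj_mem_conj.2 hx

theorem cent_smul' (hx : x ∈ 𝐂(U a)) (hg : g ∈ 𝐂[x]) : x ∈ 𝐂(U (g • a)) := by
  have := H.cent_smul hx g
  rwa [mem_cent1.1 hg, mul_inv_cancel_right] at this

theorem eq_of_norm (h : U a ≤ 𝐍(U b)) : a = b := by
  by_contra hab
  have hb := H.blk hab
  rcases hb.nml ⟨le_sup_right, sup_le_norm_right h⟩ with e | e
  · exact ne_bot_of_prime (H.card b ▸ p11) e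
  · have := hb.card
    rw [← e, H.card] at this
    omega

theorem eq_of_cent (h : U a ≤ 𝐂(U b)) : a = b := H.eq_of_norm (norm_of_cent h)

theorem semi (hu : u ∈ U a) (h1 : u ≠ 1) (hb : u • b = b) : a = b :=
  H.eq_of_norm (by rw [← zpowers_eq_of_prime (H.card a ▸ p11) hu h1]; exact zpowers_le.2 (H.nrm hb))

theorem smul_pts (ha : a ∈ pts U K) (g : G) : g • a ∈ pts U (g ⋆ K) := by
  change U _ ≤ _
  rw [H.eqv]
  exact conj_mono g ha

theorem smul_mem (hg : g ∈ 𝐍(K)) (ha : a ∈ pts U K) : g • a ∈ pts U K := conj_eq_of_norm hg ▸ H.smul_pts ha g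

theorem smul_mem' (hg : g ∈ K) (ha : a ∈ pts U K) : g • a ∈ pts U K := H.smul_mem (le_norm K hg) ha

theorem conj_pair (g : G) (a b : Ω) : g ⋆ (U a ⊔ U b) = U (g • a) ⊔ U (g • b) := by rw [conj_sup, H.eqv, H.eqv]

theorem norm_pair (h1 : g • a = a) (h2 : g • b = b) : g ∈ 𝐍(U a ⊔ U b) :=
  norm_of_conj_eq (by rw [H.conj_pair, h1, h2])

theorem norm_swap (h1 : g • a = b) (h2 : g • b = a) : g ∈ 𝐍(U a ⊔ U b) :=
  norm_of_conj_eq (by rw [H.conj_pair, h1, h2, sup_comm])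

theorem czfix (hz : z ∈ 𝐂(K)) (ha : a ∈ pts U K) : z • a = a := H.cfix (cent_anti ha hz)

theorem trans (hK : Blk K) (ha : a ∈ pts U K) (hb : b ∈ pts U K) : ∃ k ∈ K, k • a = b := by
  have := Fact.mk p11
  obtain ⟨k, hk, e⟩ := (hK.syl11 (H.card a) ha).exists_conj_eq (hK.syl11 (H.card b) hb)
  exact ⟨k, hk, H.inj (by rw [H.eqv, e])⟩

theorem trans_all (a b : Ω) : ∃ g : G, g • a = b := by
  by_cases e : a = b
  · exact ⟨1, by rw [one_smul, e]⟩
  · obtain ⟨k, -, e⟩ := H.trans (H.blk e) left_pt right_pt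
    exact ⟨k, e⟩

theorem orbit_eq (hK : Blk K) (ha : a ∈ pts U K) : orbit K a = pts U K := Set.ext fun _ =>
  mem_orb.trans ⟨by rintro ⟨k, hk, rfl⟩; exact H.smul_mem' hk ha, H.trans hK ha⟩

theorem exists_ne (hK : Blk K) (ha : a ∈ pts U K) : ∃ b ∈ pts U K, b ≠ a := by
  by_contra! h
  rcases hK.nml ⟨ha, fun k hk => H.nrm (h _ (H.smul_mem' hk ha))⟩ with e | e
  · exact ne_bot_of_prime (H.card a ▸ p11) e
  · have := hK.card
    rw [← e, H.card] at this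
    omega

theorem mod11 (ha : a ∈ X) (h : ∀ g ∈ U a, ∀ x ∈ X, g • x ∈ X) : X.ncard % 11 = 1 := by
  obtain ⟨u, hu, u1⟩ := exists_ne_one (ne_bot_of_prime (H.card a ▸ p11))
  have := fix_modEq p11 h hu (n := 1) fun x _ => by rw [pow_one, H.u11 hu, one_smul]
  rw [show {x ∈ X | u • x = x} = {a} from Set.ext fun x =>
    ⟨fun e => (H.semi hu u1 e.2).symm, by rintro rfl; exact ⟨ha, H.ufix hu⟩⟩, Set.ncard_singleton] at this
  exact this.symm

theorem orb11 (hab : a ≠ b) : (orbit (U a) b).ncard = 11 := by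
  have := ncard_orbit (U a) b
  rwa [show U a ⊓ stabilizer G b = ⊥ from eq_bot_iff.2 fun u hu => by_contra fun e => hab (H.semi hu.1 e hu.2),
    card_bot, mul_one, H.card] at this

theorem card1 (hK : T1 K) (ha : a ∈ pts U K) :
    (pts U K).ncard = 12 ∧ Nat.card ↥(K ⊓ stabilizer G a) = 55 := by
  have h1 := ncard_orbit K a
  have h2 := H.mod11 ha fun g hg x hx => H.smul_mem' (ha hg) hx
  have h3 := card_dvd (le_inf ha fun u hu => H.ufix hu : U a ≤ K ⊓ stabilizer G a)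
  obtain ⟨b, hb, hba⟩ := H.exists_ne (.inl hK) ha
  have h4 : 1 < (pts U K).ncard := (Set.one_lt_ncard (Set.toFinite _)).2 ⟨b, hb, a, ha, hba⟩
  rw [H.orbit_eq (.inl hK) ha, hK.card] at h1
  rw [H.card] at h3
  obtain ⟨m, hm⟩ := h3
  rw [hm] at h1 ⊢
  generalize (pts U K).ncard = n at *
  have h5 : n * m = 60 := by nlinarith
  have := Nat.le_of_dvd (by norm_num) (Dvd.intro _ h5)
  interval_cases n <;> omega

theorem card2 (hK : Spor.IsoJ1 K) (ha : a ∈ pts U K) :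
    (pts U K).ncard = 1596 ∧ Nat.card ↥(K ⊓ stabilizer G a) = 110 := by
  have h1 := ncard_orbit K a
  have h2 := H.mod11 ha fun g hg x hx => H.smul_mem' (ha hg) hx
  have h3 := relIndex_cent_dvd p11 (H.card a) (inf_le_right.trans (H.stab a).le : K ⊓ stabilizer G a ≤ _)
  have h4 := BG.card_mul_relIndex (le_inf ha fun u hu => H.ufix hu : U a ≤ K ⊓ stabilizer G a)
  rw [← inf_relIndex_right, ← inf_assoc, inf_comm _ K, (fj hK).c11 (H.card a) ha,
    inf_of_le_left fun u hu => H.ufix hu] at h3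
  rw [H.orbit_eq (.inr hK) ha, (fj hK).card] at h1
  rw [H.card] at h4
  rw [← h4] at h1 ⊢
  have := Nat.le_of_dvd (by norm_num) h3
  generalize (U a).relIndex _ = m at *
  interval_cases m <;> omega

theorem ncard_even (hK : Blk K) (ha : a ∈ pts U K) : (pts U K).ncard % 2 = 0 := by
  rcases hK with h | h
  · rw [(H.card1 h ha).1]
  · rw [(H.card2 h ha).1]

theorem reg (hK : T1 K) (ha : a ∈ pts U K) (hb : b ∈ pts U K) (hc : c ∈ pts U K) (hab : a ≠ b) (hac : a ≠ c) :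
    ∃ u ∈ U a, u • b = c := by
  have : orbit (U a) b = pts U K \ {a} := Set.eq_of_subset_of_ncard_le (by
    intro x hx
    obtain ⟨u, hu, rfl⟩ := mem_orb.1 hx
    exact ⟨H.smul_mem' (ha hu) hb, fun e => hab (smul_left_cancel u ((H.ufix hu).trans (Eq.symm e)))⟩)
    (by rw [H.orb11 hab, Set.ncard_sdiff_singleton_of_mem ha, (H.card1 hK ha).1])
  exact mem_orb.1 (this ▸ ⟨hc, hac.symm⟩)

theorem pair_eq (hK : T1 K) (ha : a ∈ pts U K) (hb : b ∈ pts U K) (hab : a ≠ b) : U a ⊔ U b = K :=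
  (H.blk hab).eq_of_le hK (sup_le ha hb)

theorem eq_of_two (hK : T1 K) (hL : T1 L) (ha : a ∈ pts U K) (hb : b ∈ pts U K) (ha' : a ∈ pts U L)
    (hb' : b ∈ pts U L) (hab : a ≠ b) : K = L := (H.pair_eq hK ha hb hab).symm.trans (H.pair_eq hL ha' hb' hab)

theorem three (hK : T1 K) (ha : a ∈ pts U K) (hb : b ∈ pts U K) (hc : c ∈ pts U K) (hab : a ≠ b) (hbc : b ≠ c)
    (hac : a ≠ c) (h1 : g • a = a) (h2 : g • b = b) (h3 : g • c = c) : g ∈ 𝐂(K) := by
  have key : ∀ {a b c : Ω}, a ∈ pts U K → b ∈ pts U K → c ∈ pts U K → a ≠ b → b ≠ c → a ≠ c → g • a = a →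
      g • b = b → g • c = c → g ∈ 𝐂(U a) := fun {a b c} ha hb hc hab hbc hac h1 h2 h3 => by
    obtain ⟨u, hu, e⟩ := H.reg hK ha hb hc hab hac
    rw [← cent1_eq_of_prime (H.card a ▸ p11) hu fun e' => hbc (by rw [← e, e', one_smul]), mem_cent1]
    by_contra hne
    refine hab (H.semi (mul_mem (inv_mem hu) (conj_mem_of_norm (H.nrm h1) hu)) (fun e' => hne ?_) ?_)
    · exact mul_inv_eq_iff_eq_mul.1 (inv_mul_eq_one.1 e').symm
    · rw [mul_smul, inv_smul_eq_iff, e, ← h3, ← e, ← h2, mul_smul, mul_smul, inv_smul_smul, h2]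
  rw [← H.pair_eq hK ha hb hab, cent_sup]
  exact ⟨key ha hb hc hab hbc hac h1 h2 h3, key hb ha hc hab.symm hac hbc h2 h1 h3⟩

theorem two (hK : T1 K) (ha : a ∈ pts U K) (hb : b ∈ pts U K) (hc : c ∈ pts U K) (hd : d ∈ pts U K) (hab : a ≠ b)
    (hcd : c ≠ d) : ∃ k ∈ K, k • a = c ∧ k • b = d := by
  obtain ⟨k, hk, rfl⟩ := H.trans (.inl hK) ha hc
  obtain ⟨u, hu, e⟩ := H.reg hK hc (H.smul_mem' hk hb) hd (fun e => hab (smul_left_cancel k e)) hcd
  exact ⟨u * k, mul_mem (hc hu) hk, by rw [mul_smul, H.ufix hu], by rw [mul_smul, e]⟩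

/-- An element normalising a block and centralising one of its points. -/
theorem a3 (hK : Blk K) (ha : a ∈ pts U K) (hg : g ∈ 𝐍(K)) (hc : g ∈ 𝐂(U a)) :
    ∃ u ∈ U a, ∃ z ∈ 𝐂(K), g = u * z := by
  rcases hK with hK | hK
  · obtain ⟨b, hb, hba⟩ := H.exists_ne (.inl hK) ha
    obtain ⟨u, hu, e⟩ := H.reg hK ha hb (H.smul_mem hg hb) hba.symm
      fun e => hba (smul_left_cancel g (e.symm.trans (H.cfix hc).symm))
    obtain ⟨v, hv, v1⟩ := exists_ne_one (ne_bot_of_prime (H.card a ▸ p11))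
    have c1 := mul_mem (H.le_cent a (inv_mem hu)) hc
    have c2 : (u⁻¹ * g) • b = b := by rw [mul_smul, ← e, inv_smul_smul]
    refine ⟨u, hu, u⁻¹ * g, H.three hK ha hb (H.smul_mem' (ha hv) hb) hba.symm
      (fun e => hba (H.semi hv v1 e.symm).symm)
      (fun e => hba (smul_left_cancel v (e.symm.trans (H.ufix hv).symm))) (H.cfix c1) c2
      (fix_of_comm (mem_cent1.2 (mem_cent.1 c1 v hv)) c2), by group⟩
  · obtain ⟨k, hk, z, hz, rfl⟩ := (fj hK).inner g hg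
    refine ⟨k, (fj hK).c11 (H.card a) ha ▸ ⟨hk, ?_⟩, z, hz, rfl⟩
    simpa using mul_mem hc (inv_mem (cent_anti ha hz))

theorem a3' (hK : Blk K) (ha : a ∈ pts U K) (hg : g ∈ 𝐍(K)) (hc : g ∈ 𝐂(U a)) {n : ℕ} (hn : g ^ n = 1)
    (h11 : ¬ 11 ∣ n) : g ∈ 𝐂(K) := by
  obtain ⟨u, hu, z, hz, rfl⟩ := H.a3 hK ha hg hc
  have h1 := (hK.pow_part (ha hu) hz hn).1
  have h2 : u = 1 := by simpa [(p11.coprime_iff_not_dvd.2 h11)] using pow_gcd_eq_one.2 ⟨H.u11 hu, h1⟩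
  rwa [h2, one_mul]

theorem a2 (hab : a ≠ b) (hc : g ∈ 𝐂(U a)) (hb : g • b = b) : g ∈ 𝐂(U a ⊔ U b) := by
  obtain ⟨u, hu, z, hz, rfl⟩ := H.a3 (H.blk hab) left_pt (H.norm_pair (H.cfix hc) hb) hc
  rw [mul_smul, H.czfix hz right_pt] at hb
  obtain rfl : u = 1 := by_contra fun e => hab (H.semi hu e hb)
  rwa [one_mul]

theorem a2' (hc : g ∈ 𝐂(U a)) (hb : g • b = b) : g ∈ 𝐂(U b) := by
  by_cases e : a = b
  · exact e ▸ hc
  · exact cent_anti le_sup_right (H.a2 e hc hb)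

theorem cK (hK : Blk K) (ha : a ∈ pts U K) (hk : k ∈ K) (hc : k ∈ 𝐂(U a)) : k ∈ U a := by
  obtain ⟨u, hu, z, hz, rfl⟩ := H.a3 hK ha (le_norm K hk) hc
  rwa [hK.eq_one ((K.mul_mem_cancel_left (ha hu)).1 hk) hz, mul_one]

theorem not_inv (h1 : g • a = a) (h2 : h • a = a) (e : g * h * g⁻¹ = h⁻¹) (h5 : h ^ 5 = 1) : h ∈ 𝐂(U a) := by
  have := comm_mem_cent p11 (H.card a) (H.nrm h1) (H.nrm h2)
  rw [e] at this
  have := pow_mem (inv_mem this) 3
  rwa [show (h⁻¹ * h⁻¹)⁻¹ ^ 3 = h * h ^ 5 by group, h5, mul_one] at this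

end Geo

end Cfsg.Lib.E11
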