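import Cfsg.Agent.Lib.E11.D

/-! Blocks of order 660: inner and outer automorphisms. -/

set_option autoImplicit false
set_option linter.unusedSectionVars false

namespace Cfsg.Lib.E11

open Cfsg Subgroup MulAction Cfsg.Lib.Transfer Cfsg.Lib.BG Cfsg.Lib.Small Cfsg.Lib.Perm

variable {G Ω : Type*} [Group G] [Finite G] {A K L S V : Subgroup G} {g h k s t u v w x y z : G} {p : ℕ}

theorem f11_zo {X : Type*} [MulAction G X] [IsSimpleGroup G] (h : ZT G X) (hc : Nat.card G = 660)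
    (h12 : Nat.card X = 12) : ZO G X ∧ F11 (⊤ : Subgroup G) := by
  obtain ⟨a⟩ := h.nonempty
  obtain ⟨b, hb⟩ := h.exists_ne a
  have h1 := h.card_zker a
  have h2 := h.card_eq hb.symm
  have h3 : Nat.card (zker G a) = 11 := by omega
  rw [h3, hc] at h2
  have h4 : Nat.card (stab2 G a b) = 5 := by omega
  have zo := ZO.of_simple h hb.symm (by rw [h4]; decide) (ne_bot_of_prime (by rw [h4]; norm_num))
  refine ⟨zo, f11_top hc (fun u v => zo.isConj_inv) ?_⟩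
  rw [zo.card_inv hb.symm, h3, h4]
  decide

theorem T1.syl_four (hK : T1 K) (h : FourGen u v) (hu : u ∈ K) (hv : v ∈ K) : Syl 2 h.four K := by
  have h1 := h.four_le_iff.2 ⟨hu, hv⟩
  refine Syl.mk' h1 (GW.four_pgroup h) ?_
  have := BG.card_mul_relIndex h1
  rw [h.card_four, hK.card] at this
  omega

theorem T1.ex_four (hK : T1 K) (f : F11 K) : ∃ u ∈ K, ∃ v ∈ K, FourGen u v := by
  obtain ⟨u, hu, e⟩ := exists_ord Nat.prime_two (K := K) (by rw [hK.card]; norm_num)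
  exact ⟨u, hu, f.four u hu e⟩

theorem T1.four_of_syl (hK : T1 K) (f : F11 K) (hV : Syl 2 V K) : ∃ u v, ∃ h : FourGen u v, V = h.four := by
  obtain ⟨u, hu, v, hv, h⟩ := hK.ex_four f
  obtain ⟨k, -, e⟩ := (hK.syl_four h hu hv).exists_conj_eq hV
  exact ⟨_, _, h.conj k, e.trans (h.four_conj k).symm⟩

theorem T1.b8 (hK : T1 K) (h : FourGen u v) (hu : u ∈ K) (hv : v ∈ K) (hx : x ∈ 𝐍(K)) {n : ℕ} (hn : x ^ 2 ^ n = 1)
    (h1 : x ∈ 𝐂[u]) (h2 : x ∈ 𝐂[v]) : x ∈ K ⊔ 𝐂(K) := by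
  have := hK.simple
  obtain ⟨P, hP⟩ := Syl.iff_sylow.1 (hK.syl_four h hu hv)
  have hα : K.normalizerMonoidHom ⟨x, hx⟩ ^ 2 ^ n = 1 := by
    rw [← map_pow, show (⟨x, hx⟩ : 𝐍(K)) ^ 2 ^ n = 1 from Subtype.ext hn, map_one]
  obtain ⟨j, -, hj⟩ := (Nat.dvd_prime_pow Nat.prime_two).1 (orderOf_dvd_of_pow_eq_one hα)
  obtain ⟨g, hg⟩ := Cfsg.Agent.S4593.result (JR.center_of_simple (Blk.ncomm (.inl hK)))
    (JR.core_of_simple (by rw [hK.card]; norm_num)) P (abelian_iff.2 fun a ha => mem_cent.2 fun b hb =>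
      Subtype.ext (mem_cent.1 (abelian_cent (GW.four_abelian h) (hP ▸ mem_map_of_mem _ ha)) _
        (hP ▸ mem_map_of_mem _ hb))) _ ⟨j, hj⟩ fun y hy => Subtype.ext (by
    change x * y * x⁻¹ = y
    rw [← mem_cent.1 ((GW.mem_cent_four h).2 ⟨h1, h2⟩) y (hP ▸ mem_map_of_mem _ hy), mul_inv_cancel_right])
  refine mem_KC.2 ⟨g, g.2, (g : G)⁻¹ * x, mem_cent.2 fun y hy => ?_, by group⟩
  have := congrArg Subtype.val (hg ⟨y, hy⟩)
  change x * y * x⁻¹ = g * y * (g : G)⁻¹ at this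
  calc y * ((g : G)⁻¹ * x) = (g : G)⁻¹ * (g * y * (g : G)⁻¹) * x := by group
    _ = _ := by rw [← this]; group

theorem pg_zpowers {n : ℕ} (h : x ^ p ^ n = 1) : IsPGroup p (zpowers x) := fun g => ⟨n, by
  obtain ⟨_, k, rfl⟩ := g
  exact Subtype.ext (by
    change (x ^ k) ^ p ^ n = 1
    rw [← zpow_natCast, ← zpow_mul, mul_comm, zpow_mul, zpow_natCast, h, one_zpow])⟩

theorem pg_inv (h : x * x = 1) : IsPGroup 2 (zpowers x) := pg_zpowers (n := 1) (by rw [pow_one, pow_two, h])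

theorem pg_elt (h : IsPGroup p S) (hx : x ∈ S) : ∃ n, x ^ p ^ n = 1 :=
  let ⟨n, e⟩ := h ⟨x, hx⟩; ⟨n, congrArg Subtype.val e⟩

variable [MulAction G Ω] [Finite Ω] {U : Ω → Subgroup G} {a b c d : Ω} {X : Set Ω}

theorem pow_fix (h : g • a = a) (n : ℕ) : g ^ n • a = a := (stabilizer G a).pow_mem h n

theorem inv_fix (h : g • a = a) : g⁻¹ • a = a := (stabilizer G a).inv_mem h

theorem mul_fix (h : g • a = a) (h' : k • a = a) : (g * k) • a = a := (stabilizer G a).mul_mem h h'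

namespace Geo
variable (H : Geo U)
include H

theorem zo (hK : T1 K) (ha : a ∈ pts U K) :
    ZO K (sub K (pts U K) fun _ hg _ hx => H.smul_mem' hg hx) ∧ F11 K := by
  have := hK.simple
  have h12 := (card_sub (S := K) fun _ hg _ hx => H.smul_mem' hg hx).trans (H.card1 hK ha).1
  refine (f11_zo ⟨fun a b c d h1 h2 => ?_, fun g a b c h1 h2 h3 e1 e2 e3 => ?_, by rw [h12]; norm_num⟩ hK.card h12).imp
    id F11.of_top
  · obtain ⟨k, hk, e1, e2⟩ := H.two hK a.2 b.2 c.2 d.2 (fun e => h1 (Subtype.ext e)) fun e => h2 (Subtype.ext e)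
    exact ⟨⟨k, hk⟩, Subtype.ext e1, Subtype.ext e2⟩
  · exact Subtype.ext (Blk.eq_one (.inl hK) g.2 (H.three hK a.2 b.2 c.2 (fun e => h1 (Subtype.ext e))
      (fun e => h2 (Subtype.ext e)) (fun e => h3 (Subtype.ext e)) (congrArg Subtype.val e1)
      (congrArg Subtype.val e2) (congrArg Subtype.val e3)))

theorem f11 (hK : T1 K) (ha : a ∈ pts U K) : F11 K := (H.zo hK ha).2

theorem fpf (hK : T1 K) (ha : a ∈ pts U K) (hu : u ∈ K) (h2 : orderOf u = 2) : u • a ≠ a := fun e => by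
  have := ord_dvd (show u ∈ K ⊓ stabilizer G a from ⟨hu, e⟩)
  rw [h2, (H.card1 hK ha).2] at this
  omega

theorem fpf' (hK : T1 K) (ha : a ∈ pts U K) (hu : u ∈ K) (h2 : u * u = 1) (e : u • a = a) : u = 1 :=
  by_contra fun h1 => H.fpf hK ha hu (ord2 h2 h1) e

theorem card5 (hK : T1 K) (ha : a ∈ pts U K) (hb : b ∈ pts U K) (hab : a ≠ b) :
    Nat.card ↥(K ⊓ stabilizer G a ⊓ stabilizer G b) = 5 := by
  have h1 := ncard_orbit (K ⊓ stabilizer G a) b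
  have : orbit ↥(K ⊓ stabilizer G a) b = pts U K \ {a} := Set.ext fun x => mem_orb.trans ⟨by
    rintro ⟨k, hk, rfl⟩
    exact ⟨H.smul_mem' hk.1 hb, fun e => hab (smul_left_cancel k (hk.2.trans (Eq.symm e)))⟩, fun hx =>
      let ⟨u, hu, e⟩ := H.reg hK ha hb hx.1 hab (Ne.symm hx.2); ⟨u, ⟨ha hu, H.ufix hu⟩, e⟩⟩
  rw [this, Set.ncard_sdiff_singleton_of_mem ha, (H.card1 hK ha).1, (H.card1 hK ha).2] at h1
  omega

theorem ex5 (hK : T1 K) (ha : a ∈ pts U K) (hb : b ∈ pts U K) (hab : a ≠ b) :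
    ∃ h ∈ K, orderOf h = 5 ∧ h • a = a ∧ h • b = b :=
  let ⟨h, e, e'⟩ := exists_ord Nat.prime_five (H.card5 hK ha hb hab).symm.dvd
  ⟨h, e.1.1, e', e.1.2, e.2⟩

theorem swap1 (hK : T1 K) (ha : a ∈ pts U K) (hb : b ∈ pts U K) (hab : a ≠ b) (hk : k ∈ K) (h1 : k • a = b)
    (h2 : k • b = a) : orderOf k = 2 ∧ ∀ h ∈ K, h • a = a → h • b = b → k * h * k⁻¹ = h⁻¹ := by
  have zo := (H.zo hK ha).1
  have hab' : (⟨a, ha⟩ : sub K (pts U K) fun _ hg _ hx => H.smul_mem' hg hx) ≠ ⟨b, hb⟩ :=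
    fun e => hab (congrArg Subtype.val e)
  refine ⟨(orderOf_mk ..).symm.trans (zo.orderOf_swap (s := ⟨k, hk⟩) hab' (Subtype.ext h1) (Subtype.ext h2)),
    fun h hh e1 e2 => congrArg Subtype.val (zo.inverts (s := ⟨k, hk⟩) hab' (Subtype.ext h1) (Subtype.ext h2) ⟨h, hh⟩
      ⟨Subtype.ext e1, Subtype.ext e2⟩)⟩

theorem ex_swap (hK : T1 K) (ha : a ∈ pts U K) (hb : b ∈ pts U K) (hab : a ≠ b) :
    ∃ s ∈ K, s • a = b ∧ s • b = a := H.two hK ha hb hb ha hab hab.symm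

theorem nc (hK : Blk K) (ha : a ∈ pts U K) (hk : k ∈ K) {n : ℕ} (hn : orderOf k = n) (h1 : ¬ n ∣ 11) :
    k ∉ 𝐂(U a) := fun e => h1 (hn ▸ H.card a ▸ ord_dvd (H.cK hK ha hk e))

theorem outer (hK : T1 K) (ha : a ∈ pts U K) (hg : g ∈ 𝐍(K)) (h1 : g • a = a) :
    g ∈ K ⊔ 𝐂(K) ↔ g ^ 5 ∈ 𝐂(U a) := by
  constructor
  · intro e
    obtain ⟨k, hk, z, hz, rfl⟩ := mem_KC.1 e
    rw [mul_smul, H.czfix hz ha] at h1
    rw [Commute.mul_pow (mem_cent.1 hz k hk)]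
    refine mul_mem (cent_of_coprime p11 (H.card a) (pow_mem (H.nrm h1) 5) (m := 11) ?_ (by norm_num))
      (pow_mem (cent_anti ha hz) 5)
    have := ord_dvd (show k ∈ K ⊓ stabilizer G a from ⟨hk, h1⟩)
    rw [(H.card1 hK ha).2] at this
    rw [← pow_mul, orderOf_dvd_iff_pow_eq_one.1 this]
    exact one_mem _
  · intro e
    obtain ⟨b, hb, hba⟩ := H.exists_ne (.inl hK) ha
    obtain ⟨h, hh, h5, e1, -⟩ := H.ex5 hK ha hb hba.symm
    obtain ⟨i, hi⟩ := exists_pow_five (H.card a) (H.nrm e1) (by rw [← h5, pow_orderOf_eq_one]; exact one_mem _)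
      (H.nc (.inl hK) ha hh h5 (by norm_num)) (H.nrm h1) e
    obtain ⟨u, hu, z, hz, e2⟩ := H.a3 (.inl hK) ha (mul_mem (inv_mem (pow_mem (le_norm K hh) i)) hg) hi
    exact mem_KC.2 ⟨h ^ i * u, mul_mem (pow_mem hh i) (ha hu), z, hz, by rw [mul_assoc, ← e2]; group⟩

theorem idx2 (hK : T1 K) (ha : a ∈ pts U K) (hg : g ∈ 𝐍(K)) (hx : x ∈ 𝐍(K)) (h1 : g ∉ K ⊔ 𝐂(K))
    (h2 : x ∉ K ⊔ 𝐂(K)) : g * x ∈ K ⊔ 𝐂(K) := by
  obtain ⟨k, hk, e1⟩ := H.trans (.inl hK) (H.smul_mem hg ha) ha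
  obtain ⟨k', hk', e2⟩ := H.trans (.inl hK) (H.smul_mem hx ha) ha
  rw [← mul_smul] at e1 e2
  have n1 := mul_mem (le_norm K hk) hg
  have n2 := mul_mem (le_norm K hk') hx
  have c1 := mt (H.outer hK ha n1 e1).2 fun e => h1 ((Subgroup.mul_mem_cancel_left _ (mem_sup_left hk)).1 e)
  have c2 := mt (H.outer hK ha n2 e2).2 fun e => h2 ((Subgroup.mul_mem_cancel_left _ (mem_sup_left hk')).1 e)
  obtain ⟨l, hl⟩ := exists_lam p11 (H.card a)
  have key : ∀ a b : Multiplicative (ZMod (11 - 1)), a ^ 5 ≠ 1 → b ^ 5 ≠ 1 → (a * b) ^ 5 = 1 := by decide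
  have := (H.outer hK ha (mul_mem n1 n2) (by rw [mul_smul, e2, e1])).2
    ((hl ((⟨_, H.nrm e1⟩ * ⟨_, H.nrm e2⟩) ^ 5)).1 (by
      rw [map_pow, map_mul]
      exact key _ _ (fun e => c1 ((hl (⟨_, H.nrm e1⟩ ^ 5)).1 (by rw [map_pow, e])))
        fun e => c2 ((hl (⟨_, H.nrm e2⟩ ^ 5)).1 (by rw [map_pow, e]))))
  rw [show g * x = k⁻¹ * (k * g * (k' * x)) * (x⁻¹ * k'⁻¹ * x) by group]
  exact mul_mem (mul_mem (mem_sup_left (inv_mem hk)) this) (mem_sup_left (conj_mem_of_norm' hx (inv_mem hk')))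

theorem sq_KC (hK : Blk K) (ha : a ∈ pts U K) (hg : g ∈ 𝐍(K)) : g * g ∈ K ⊔ 𝐂(K) := by
  by_cases e : g ∈ K ⊔ 𝐂(K)
  · exact mul_mem e e
  rcases hK with hK | hK
  · exact H.idx2 hK ha hg hg e e
  · obtain ⟨k, hk, z, hz, rfl⟩ := (fj hK).inner g hg
    exact (e (mul_mem_sup hk hz)).elim

theorem odd_KC (hK : Blk K) (ha : a ∈ pts U K) (hg : g ∈ 𝐍(K)) (ho : Odd (orderOf g)) : g ∈ K ⊔ 𝐂(K) := by
  obtain ⟨m, hm⟩ := ho
  have := pow_mem (H.sq_KC hK ha hg) (m + 1)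
  rwa [← pow_two, ← pow_mul, show 2 * (m + 1) = orderOf g + 1 by omega, pow_succ, pow_orderOf_eq_one, one_mul] at this

theorem fix2 (hK : T1 K) (ha : a ∈ pts U K) (hb : b ∈ pts U K) (hab : a ≠ b) (h1 : g • a = a) (h2 : g • b = b)
    (hg : g ∉ 𝐂(K)) : {x ∈ pts U K | g • x = x} = {a, b} := Set.ext fun x =>
  ⟨fun e => by_contra fun hne => hg (H.three hK ha hb e.1 hab (fun e => hne (.inr e.symm))
    (fun e => hne (.inl e.symm)) h1 h2 e.2), by rintro (rfl | rfl); exacts [⟨ha, h1⟩, ⟨hb, h2⟩]⟩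

theorem inner_fpf (hK : T1 K) (ha : a ∈ pts U K) (hx : x ∈ 𝐍(K)) (h2 : x * x ∈ 𝐂(K))
    (hf : ∀ c ∈ pts U K, x • c ≠ c) : x ∈ K ⊔ 𝐂(K) := by
  have hb := H.smul_mem hx ha
  have hab := (hf a ha).symm
  obtain ⟨s, hs, s1, s2⟩ := H.ex_swap hK ha hb hab
  have g1 : (s * x) • a = a := by rw [mul_smul, s2]
  have g2 : (s * x) • x • a = x • a := by rw [mul_smul, ← mul_smul x, H.czfix h2 ha, s1]
  have gn := mul_mem (le_norm K hs) hx
  refine (Subgroup.mul_mem_cancel_left _ (mem_sup_left hs)).1 ((H.outer hK ha gn g1).2 (by_contra fun hne => ?_))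
  obtain ⟨ε, hε⟩ := exists_sgn (S := 𝐍(K)) (X := pts U K) fun g hg x hx => H.smul_mem hg hx
  have f1 : ((s * x) ^ 5) • a = a := pow_fix g1 5
  have f2 : ((s * x) ^ 5) • x • a = x • a := pow_fix g2 5
  have c1 : (s * x) ^ 5 * (s * x) ^ 5 ∈ 𝐂(K) := by
    rw [← H.pair_eq hK ha hb hab]
    exact H.a2 hab (by rw [← pow_add]; exact pow_mem_cent p11 (H.card a) (H.nrm g1)) (by rw [mul_smul, f2, f2])
  have e1 := hε (⟨_, gn⟩ ^ 5) fun c hc => by rw [← mul_smul]; exact H.czfix c1 hc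
  have e2 := hε ⟨x, hx⟩ fun c hc => by rw [← mul_smul]; exact H.czfix h2 hc
  have e3 := hε ⟨s, le_norm K hs⟩ fun c hc => by rw [← mul_smul, sq2 (H.swap1 hK ha hb hab hs s1 s2).1, one_smul]
  have z1 : ∀ y : G, (∀ c ∈ pts U K, y • c ≠ c) → {c ∈ pts U K | y • c = c}.ncard = 0 := fun y hy => by
    rw [Set.ncard_eq_zero, Set.eq_empty_iff_forall_notMem]
    exact fun c hc => hy c hc.1 hc.2
  rw [z1 _ hf, (H.card1 hK ha).1] at e2
  rw [z1 _ fun c hc => H.fpf hK hc hs (H.swap1 hK ha hb hab hs s1 s2).1, (H.card1 hK ha).1] at e3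
  rw [SubmonoidClass.coe_pow, H.fix2 hK ha hb hab f1 f2 (fun e => hne (cent_anti ha e)), Set.ncard_pair hab,
    (H.card1 hK ha).1, map_pow, show (⟨s * x, gn⟩ : 𝐍(K)) = ⟨s, le_norm K hs⟩ * ⟨x, hx⟩ from rfl, map_mul, e2,
    e3] at e1
  exact absurd e1 (by decide)

theorem out4 (hK : T1 K) (ha : a ∈ pts U K) (ht : t ∈ 𝐍(K)) (h2 : t * t = 1) (h1 : t • a = a) (hc : t ∉ 𝐂(K)) :
    ∃ u ∈ K, (t * u) ^ 4 = 1 ∧ t * u * (t * u) ≠ 1 := by
  obtain ⟨T, hT, hxT⟩ := Syl.exists_ge (pg_inv h2) (zpowers_le.2 ht)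
  obtain ⟨u, v, f, e⟩ := hK.four_of_syl (H.f11 hK ha) (hT.inf le_normalizer hT.le)
  have hV : f.four ≤ K := e.ge.trans inf_le_right
  have hn : t ∈ 𝐍(f.four) := e ▸ norm_inf (le_norm T) hT.le (hxT (mem_zpowers t))
  have key : ∀ y ∈ f.four, t ∉ 𝐂[y] → ∃ u ∈ K, (t * u) ^ 4 = 1 ∧ t * u * (t * u) ≠ 1 := fun y hy hne => by
    have e1 : t * y * (t * y) = t * y * t⁻¹ * y := by rw [inv_eq_of_mul_eq_one_right h2]; group
    refine ⟨y, hV hy, ?_, fun e => hne (mem_cent1.2 ?_)⟩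
    · rw [show (t * y) ^ 4 = t * y * (t * y) * (t * y * (t * y)) by simp [pow_succ, mul_assoc], e1]
      exact f.mul_self_of_mem (mul_mem (conj_mem_of_norm hn hy) hy)
    · rw [e1] at e
      rw [← mul_inv_eq_iff_eq_mul, eq_inv_of_mul_eq_one_left e, inv_eq_of_mul_eq_one_right (f.mul_self_of_mem hy)]
  by_contra hne
  obtain ⟨k, hk, z, hz, rfl⟩ := mem_KC.1 (hK.b8 f (hV f.left_mem) (hV f.right_mem) ht (n := 1)
    (by rw [pow_one, pow_two, h2]) (by_contra fun e => hne (key _ f.left_mem e))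
    (by_contra fun e => hne (key _ f.right_mem e)))
  rw [mul_smul, H.czfix hz ha] at h1
  rw [H.fpf' hK ha hk (Blk.sq_part (.inl hK) hk hz h2).1 h1, one_mul] at hc
  exact hc hz

/-- No involution of `J₁` fixes two points generating a block of order 660. -/
theorem nt1 (hL : Spor.IsoJ1 L) (hK : T1 K) (hle : K ≤ L) (ha : a ∈ pts U K) (ht : t ∈ L) (hn : t ∈ 𝐍(K))
    (h2 : orderOf t = 2) (h1 : t • a = a) : False := by
  obtain ⟨u, hu, e1, e2⟩ := H.out4 hK ha hn (sq2 h2) h1 fun e =>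
    H.nc (.inr hL) (pts_mono hle ha) ht h2 (by norm_num) (cent_anti ha e)
  exact e2 ((fj hL).no4 (mul_mem ht (hle hu)) e1)

theorem nt1' (hL : Spor.IsoJ1 L) (ha : a ∈ pts U L) (hb : b ∈ pts U L) (hab : a ≠ b) (ht : t ∈ L)
    (h2 : orderOf t = 2) (h1 : t • a = a) (h3 : t • b = b) : U a ⊔ U b = L := by
  rcases H.blk hab with e | e
  · exact (H.nt1 hL e (sup_le ha hb) left_pt ht (H.norm_pair h1 h3) h2 h1).elim
  · exact Blk.eq_of_ge (.inr hL) e (sup_le ha hb)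

theorem j1_fix (hL : Spor.IsoJ1 L) (ha : a ∈ pts U L) (hu : u ∈ L) (h2 : orderOf u = 2) :
    ∃ d ∈ pts U L, u • d = d ∧ u ∉ 𝐂(U d) := by
  obtain ⟨t, ht, e⟩ := exists_ord Nat.prime_two (K := L ⊓ stabilizer G a) (by rw [(H.card2 hL ha).2]; norm_num)
  obtain ⟨k, hk, rfl⟩ := (fj hL).one t ht.1 u hu e h2
  exact ⟨_, H.smul_mem' hk ha, conj_fix ht.2 k, H.nc (.inr hL) (H.smul_mem' hk ha) hu h2 (by norm_num)⟩

end Geo

end Cfsg.Lib.E11
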