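import Cfsg.Agent.Lib.E11.E

/-! The minimal configuration; the case of an odd number of points. -/

set_option autoImplicit false
set_option linter.unusedSectionVars false

namespace Cfsg.Lib.E11

open Cfsg Subgroup MulAction Cfsg.Lib.Transfer Cfsg.Lib.BG Cfsg.Lib.Small Cfsg.Lib.Perm

variable {G Ω : Type*} [Group G] [Finite G] {A K L S V : Subgroup G} {g h k s t u v w x y z : G} {p : ℕ}

theorem sq_mem_of_half (hA : A ≤ K) (h : Nat.card K = Nat.card A * 2) (hx : x ∈ K) : x * x ∈ A :=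
  mul_self_mem_of_index_two (H := A.subgroupOf K)
    (Nat.eq_of_mul_eq_mul_left Nat.card_pos ((BG.card_mul_relIndex hA).trans h)) ⟨x, hx⟩

theorem mem_of_sq (h3 : x ^ 3 = 1) (h : x * x ∈ A) : x ∈ A := by
  have := mul_mem h h
  rwa [show x * x * (x * x) = x * x ^ 3 by simp [pow_succ, mul_assoc], h3, mul_one] at this

theorem o1 {n : ℕ} (h : orderOf x = n) : x ^ n = 1 := h ▸ pow_orderOf_eq_one x

theorem cmul (h1 : x ∈ 𝐂[y]) (h2 : x ∈ 𝐂[z]) : x ∈ 𝐂[y * z] := mem_cent1_symm (mul_mem (mem_cent1_symm h1) (mem_cent1_symm h2))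

theorem cc (hz : z ∈ 𝐂(K)) (hk : k ∈ K) : k ∈ 𝐂[z] := mem_cent1.2 (mem_cent.1 hz k hk)

theorem cc' (hz : z ∈ 𝐂(K)) (hk : k ∈ K) : z ∈ 𝐂[k] := mem_cent1_symm (cc hz hk)

theorem conj_cc (h : g ∈ 𝐂[x]) : g * x * g⁻¹ = x := mul_inv_eq_iff_eq_mul.2 (mem_cent1.1 h)

variable [MulAction G Ω] [Finite Ω] {U : Ω → Subgroup G} {a b c d : Ω} {X : Set Ω}

theorem ex_fix (hp : p.Prime) (h : ∀ g ∈ S, ∀ x ∈ X, g • x ∈ X) (hg : g ∈ S) {n : ℕ}
    (hn : ∀ x ∈ X, g ^ p ^ n • x = x) (hd : ¬ p ∣ X.ncard) : ∃ x ∈ X, g • x = x := by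
  by_contra! hne
  have := fix_modEq hp h hg hn
  rw [show {x ∈ X | g • x = x} = ∅ from Set.eq_empty_iff_forall_notMem.2 fun x hx => hne x hx.1 hx.2,
    Set.ncard_empty] at this
  exact hd ((Nat.modEq_zero_iff_dvd).1 this.symm)

theorem orb_inv : ∀ g ∈ S, ∀ x ∈ orbit S a, g • x ∈ orbit S a := fun g hg _ hx =>
  let ⟨k, hk, e⟩ := mem_orb.1 hx; mem_orb.2 ⟨g * k, mul_mem hg hk, by rw [mul_smul, e]⟩

/-- The subgroup generated by the points of `K`. -/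
def span (U : Ω → Subgroup G) (K : Subgroup G) : Subgroup G := ⨆ c ∈ pts U K, U c

theorem span_le : span U K ≤ K := iSup₂_le fun _ h => h

theorem pts_span : pts U (span U K) = pts U K :=
  Set.ext fun c => ⟨pts_mono span_le, fun h => le_iSup₂ (f := fun c (_ : c ∈ pts U K) => U c) c h⟩

theorem span_mono (h : pts U K ⊆ pts U L) : span U K ≤ L := iSup₂_le fun _ e => h e

/-- The subgroup generated by the points centralised by `x`. -/
abbrev Kx (U : Ω → Subgroup G) (x : G) : Subgroup G := span U 𝐂[x]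

theorem mem_Kx : a ∈ pts U (Kx U x) ↔ x ∈ 𝐂(U a) := by rw [pts_span]; exact le_cent1_iff

theorem cent_Kx : x ∈ 𝐂(Kx U x) := le_cent1_iff.1 span_le

namespace Geo
variable (H : Geo U)
include H

theorem conj_span (g : G) (K : Subgroup G) : g ⋆ span U K = span U (g ⋆ K) := by
  have key : ∀ (g : G) (K : Subgroup G), g ⋆ span U K ≤ span U (g ⋆ K) := fun g K => by
    rw [conj_le_iff_le_inv_conj]
    refine iSup₂_le fun c hc => ?_
    rw [← conj_le_iff_le_inv_conj, ← H.eqv]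
    exact pts_span.ge (H.smul_pts hc g)
  refine (key g K).antisymm ?_
  rw [le_conj_iff_inv_conj_le]
  simpa only [inv_conj_conj] using key g⁻¹ (g ⋆ K)

theorem norm_span (hg : g ∈ 𝐍(K)) : g ∈ 𝐍(span U K) := norm_of_conj_eq (by rw [H.conj_span, conj_eq_of_norm hg])

theorem conj_Kx (g x : G) : g ⋆ Kx U x = Kx U (g * x * g⁻¹) := by rw [H.conj_span, conj_cent1]

theorem norm_Kx (x : G) : 𝐂[x] ≤ 𝐍(Kx U x) := fun _ hg => H.norm_span (le_norm _ hg)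

theorem span_eq (hK : Blk K) (ha : a ∈ pts U K) : span U K = K :=
  (hK.nml ⟨span_le, fun _ hg => H.norm_span (le_norm _ hg)⟩).resolve_left
    (ne_bot_mono (ne_bot_of_prime (H.card a ▸ p11)) (pts_span.ge ha))

theorem le_Kx (hK : Blk K) (ha : a ∈ pts U K) (hx : x ∈ 𝐂(K)) : K ≤ Kx U x :=
  (H.span_eq hK ha).ge.trans (span_mono fun _ hc => mem_Kx.2 (cent_anti hc hx))

theorem mod11' (ha : a ∉ X) (h : ∀ g ∈ U a, ∀ x ∈ X, g • x ∈ X) : 11 ∣ X.ncard := by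
  obtain ⟨u, hu, u1⟩ := exists_ne_one (ne_bot_of_prime (H.card a ▸ p11))
  by_contra hne
  obtain ⟨x, hx, e⟩ := ex_fix p11 h hu (n := 1) (fun x _ => by rw [pow_one, H.u11 hu, one_smul]) hne
  exact ha (H.semi hu u1 e ▸ hx)

theorem pt11 (hK : Blk K) (ha : a ∈ pts U K) (hx : x ∈ K) (h : orderOf x = 11) : ∃ c ∈ pts U K, U c = zpowers x := by
  have := Fact.mk p11
  obtain ⟨k, hk, e⟩ := (hK.syl11 (H.card a) ha).exists_conj_eq
    (hK.syl11 ((Nat.card_zpowers x).trans h) (zpowers_le.2 hx))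
  exact ⟨_, H.smul_mem' hk ha, by rw [H.eqv, e]⟩

theorem fix5 (hK : Blk K) (ha : a ∈ pts U K) (hx : x ∈ 𝐍(K)) (h : x ^ 5 = 1) : ∃ c ∈ pts U K, x • c = c :=
  ex_fix Nat.prime_five (S := 𝐍(K)) (fun _ hg _ hx => H.smul_mem hg hx) hx (n := 1)
    (fun x _ => by rw [pow_one, h, one_smul]) (by
      rcases hK with e | e
      · rw [(H.card1 e ha).1]; norm_num
      · rw [(H.card2 e ha).1]; norm_num)

theorem fg {u1 u2 z1 z2 : G} (hL : T1 L) (ha : a ∈ pts U L) (hK : Blk K) (hb : b ∈ pts U K) (f : FourGen u1 u2)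
    (m1 : u1 ∈ L) (m2 : u2 ∈ L) (c1 : z1 ∈ 𝐂(L)) (c2 : z2 ∈ 𝐂(L)) (h1 : u1 * z1 ∈ 𝐂(K)) (h2 : u2 * z2 ∈ 𝐂(K))
    (n1 : 𝐂[u1 * z1] ≤ 𝐍(K)) (n2 : 𝐂[u2 * z2] ≤ 𝐍(K)) : False := by
  have key : ∀ {u1 u2 z1 z2 : G}, FourGen u1 u2 → u1 ∈ L → u2 ∈ L → z1 ∈ 𝐂(L) → z2 ∈ 𝐂(L) → u2 * z2 ∈ 𝐂(K) →
      𝐂[u1 * z1] ≤ 𝐍(K) → ∃ w ∈ L ⊓ 𝐂(K), orderOf w = 3 ∧ w ∈ 𝐂[u1] ∧ u2 * w * u2⁻¹ = w⁻¹ := by
    intro u1 u2 z1 z2 f m1 m2 c1 c2 h2 n1
    obtain ⟨w, hw, w3, w1, w2⟩ := (H.f11 hL ha).ww u1 m1 u2 m2 f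
    refine ⟨w, ⟨hw, mem_of_sq (o1 w3) ?_⟩, w3, w1, w2⟩
    have := mul_mem (conj_mem_of_norm (norm_cent le_rfl (n1 (cmul w1 (cc c1 hw)))) h2) (inv_mem h2)
    have e : w * (u2 * z2) * w⁻¹ * (u2 * z2)⁻¹ = w * (u2 * (z2 * w * z2⁻¹) * u2⁻¹)⁻¹ := by group
    rwa [e, conj_cc (cc' c2 hw), w2, inv_inv] at this
  obtain ⟨w1, a1, a2, a3, -⟩ := key f m1 m2 c1 c2 h2 n1
  obtain ⟨w2, b1, b2, -, b4⟩ := key f.symm m2 m1 c2 c1 h1 n2
  have hn : zpowers u1 ≤ 𝐍(L ⊓ 𝐂(K)) := zpowers_le.2 (norm_inf (le_norm_of_le inf_le_left) (norm_cent inf_le_right)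
    (⟨m1, n1 (cmul (self_mem_cent1 _) (cc c1 m1))⟩ : u1 ∈ L ⊓ 𝐍(K)))
  have hπ : PiGrp {2, 3} (L ⊓ 𝐂(K) ⊔ zpowers u1) := by
    refine PiGrp.sup (fun q hq hd => ?_) (PiGrp.of_card_prime (by rw [Nat.card_zpowers, f.orderOf_eq]; norm_num)
      (by rw [Nat.card_zpowers, f.orderOf_eq]; simp)) hn
    obtain ⟨x, hx, e⟩ := exists_ord hq hd
    have h0 := hd.trans (card_dvd inf_le_left)
    rw [hL.card, show 660 = 2 * 2 * 3 * 5 * 11 by norm_num] at h0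
    simp only [hq.dvd_mul, Nat.prime_dvd_prime_iff_eq hq Nat.prime_two, Nat.prime_dvd_prime_iff_eq hq Nat.prime_three,
      Nat.prime_dvd_prime_iff_eq hq Nat.prime_five, Nat.prime_dvd_prime_iff_eq hq p11] at h0
    rcases h0 with (((h0 | h0) | h0) | rfl) | rfl
    · exact .inl h0
    · exact .inl h0
    · exact .inr h0
    · obtain ⟨d, hd, e'⟩ := H.fix5 (.inl hL) ha (le_norm L hx.1) (o1 e)
      exact (H.nc (.inl hL) hd hx.1 e (by norm_num) (H.a2' (cent_anti hb hx.2) e')).elim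
    · obtain ⟨c, -, e'⟩ := H.pt11 (.inl hL) ha hx.1 e
      obtain ⟨b', hb', hne⟩ := H.exists_ne hK hb
      have := fun b (hb : b ∈ pts U K) => H.eq_of_cent (a := c) (e' ▸ zpowers_le.2 (cent_anti hb hx.2))
      exact (hne ((this _ hb').symm.trans (this _ hb))).elim
  have hB : L ⊓ 𝐂(K) ⊔ zpowers u1 ≤ L := sup_le inf_le_left (zpowers_le.2 m1)
  have c : Commute u1 w1 := (mem_cent1.1 a3).symm
  have hZ : zpowers (u1 * w1) ≤ L ⊓ 𝐂(K) ⊔ zpowers u1 :=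
    zpowers_le.2 (mul_mem (mem_sup_right (mem_zpowers _)) (mem_sup_left a1))
  have o6 : Nat.card (zpowers (u1 * w1)) = 6 := by
    rw [Nat.card_zpowers, c.orderOf_mul_eq_mul_orderOf_of_coprime (by rw [f.orderOf_eq, a2]; norm_num), f.orderOf_eq, a2]
  have d1 := card_dvd hB
  have d2 := card_dvd hZ
  have d3 : ¬ 5 ∣ _ := fun e => by simpa using hπ 5 Nat.prime_five e
  have d4 : ¬ 11 ∣ _ := fun e => by simpa using hπ 11 p11 e
  rw [hL.card] at d1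
  rw [o6] at d2
  have d5 : Nat.card ↥(L ⊓ 𝐂(K) ⊔ zpowers u1) ∣ 12 :=
    ((p11.coprime_iff_not_dvd.2 d4).symm.dvd_mul_right.1 ((Nat.prime_five.coprime_iff_not_dvd.2 d3).symm.dvd_mul_right.1
      (show _ ∣ 12 * 11 * 5 from d1)))
  have : w2 ∈ zpowers (u1 * w1) := by
    have := Nat.le_of_dvd (by norm_num) d5
    by_cases e : Nat.card ↥(L ⊓ 𝐂(K) ⊔ zpowers u1) = 6
    · exact eq_of_le_of_card_le hZ (by rw [e, o6]) ▸ mem_sup_left b1
    · exact mem_of_sq (o1 b2) (sq_mem_of_half hZ (by omega) (mem_sup_left b1))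
  rw [conj_cc (mem_cent1_symm (zpowers_le.2 (mul_mem (self_mem_cent1 u1) a3) this))] at b4
  have := orderOf_dvd_of_pow_eq_one (show w2 ^ 2 = 1 by rw [pow_two]; exact mul_eq_one_iff_eq_inv.2 b4)
  rw [b2] at this
  omega

theorem dec (ht : t * t = 1) (hc : t ∈ 𝐂(U a)) (hL : Blk L) (hb : b ∈ pts U L) (hn : t ∈ 𝐍(L)) (h1 : t ∉ 𝐂(L)) :
    T1 L ∧ ∃ u ∈ L, ∃ z ∈ 𝐂(L), u * z = t ∧ orderOf u = 2 ∧ z * z = 1 := by
  have nf : ∀ d ∈ pts U L, t • d ≠ d := fun d hd e =>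
    h1 (H.a3' hL hd hn (H.a2' hc e) (n := 2) (by rw [pow_two, ht]) (by norm_num))
  have key : t ∈ L ⊔ 𝐂(L) → ∃ u ∈ L, ∃ z ∈ 𝐂(L), u * z = t ∧ orderOf u = 2 ∧ z * z = 1 := fun e => by
    obtain ⟨u, hu, z, hz, rfl⟩ := mem_KC.1 e
    have := hL.sq_part hu hz ht
    exact ⟨u, hu, z, hz, rfl, ord2 this.1 fun e => h1 (by rwa [e, one_mul]), this.2⟩
  rcases hL with hL | hL
  · exact ⟨hL, key (H.inner_fpf hL hb hn (ht ▸ one_mem _) nf)⟩
  · obtain ⟨k, hk, z, hz, e⟩ := (fj hL).inner t hn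
    obtain ⟨u, hu, z, hz, rfl, o, -⟩ := key (e ▸ mul_mem_sup hk hz)
    obtain ⟨d, hd, e, -⟩ := H.j1_fix hL hb hu o
    exact (nf d hd (by rw [mul_smul, H.czfix hz hd, e])).elim

end Geo

/-- A minimal counterexample. -/
structure Core (U : Ω → Subgroup G) : Prop extends Geo U where
  simple : IsSimpleGroup G
  ih : ∀ {K : Subgroup G} {a b : Ω}, K ≠ ⊤ → a ∈ pts U K → b ∈ pts U K → a ≠ b → Blk (span U K)
  ne : ¬ Blk (⊤ : Subgroup G)
  ex2 : ∃ a b : Ω, a ≠ b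

namespace Core
variable (H : Core U)
include H

theorem ncomm : ¬ IsMulCommutative G := fun h => by
  obtain ⟨a, b, hab⟩ := H.ex2
  exact (H.blk hab).ncomm inferInstance

theorem perf : ⁅(⊤ : Subgroup G), (⊤ : Subgroup G)⁆ = ⊤ := have := H.simple; commutator_eq_top_of_simple H.ncomm

theorem cent_ne (h : x ≠ 1) : 𝐂[x] ≠ ⊤ := fun e => by
  have := H.simple
  exact h (mem_bot.1 (JR.center_of_simple H.ncomm ▸ mem_center_iff.2 fun g => mem_cent1.1 (e ▸ mem_top g)))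

theorem blkK (h : x ≠ 1) (ha : x ∈ 𝐂(U a)) (hb : x • b = b) (hab : a ≠ b) : Blk (Kx U x) :=
  H.ih (H.cent_ne h) (le_cent1_iff.2 ha) (le_cent1_iff.2 (H.a2' ha hb)) hab

theorem blkK' (h : x ≠ 1) (hK : Blk K) (ha : a ∈ pts U K) (hx : x ∈ 𝐂(K)) : Blk (Kx U x) :=
  let ⟨_, hb, e⟩ := H.exists_ne hK ha; H.blkK h (cent_anti ha hx) (H.czfix hx hb) e.symm

theorem ex_out (hK : Blk K) : ∃ c, c ∉ pts U K := by
  by_contra! h
  obtain ⟨a, -⟩ := H.ex2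
  have := H.simple
  have e : span U ⊤ = K := le_antisymm (span_mono fun c _ => h c) ((H.span_eq hK (h a)).ge.trans
    (span_mono fun c _ => pts_span.ge (le_top (a := U c))))
  rcases (Nml.top_iff.1 ⟨le_top, fun g _ => H.norm_span (le_norm _ (mem_top g))⟩ :
    (span U ⊤).Normal).eq_bot_or_eq_top with e' | e'
  · exact ne_bot_mono (ne_bot_of_prime (H.card a ▸ p11)) (h a) (e ▸ e')
  · exact H.ne (e' ▸ e ▸ hK)

theorem not_j1 (h : Spor.IsoJ1 G) : False := H.ne (.inr (isoJ1_equiv h topEquiv.symm))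

theorem fixK (ha : x ∈ 𝐂(U a)) : {c ∈ (Set.univ : Set Ω) | x • c = c} = pts U (Kx U x) :=
  Set.ext fun _ => ⟨fun e => mem_Kx.2 (H.a2' ha e.2), fun e => ⟨trivial, H.cfix (mem_Kx.1 e)⟩⟩

theorem fix_mod2 (h : t * t = 1) : {c ∈ (Set.univ : Set Ω) | t • c = c}.ncard % 2 = Nat.card Ω % 2 :=
  Set.ncard_univ Ω ▸ fix_modEq Nat.prime_two (S := ⊤) (fun _ _ _ _ => trivial) trivial (n := 1)
    fun x _ => by rw [pow_one, pow_two, h, one_smul]

theorem even : Nat.card Ω % 2 = 0 := by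
  by_contra hv
  have u1 : ∀ {t : G} {a b : Ω}, orderOf t = 2 → t ∈ 𝐂(U a) → t • b = b → a = b := fun {t a b} ht ha hb => by
    by_contra hab
    have := H.fix_mod2 (sq2 ht)
    rw [H.fixK ha, H.ncard_even (H.blkK (ne2 ht) ha hb hab) (mem_Kx.2 ha)] at this
    omega
  obtain ⟨a, b, hab⟩ := H.ex2
  have hL := H.blk hab
  have ha : a ∈ pts U (U a ⊔ U b) := left_pt
  generalize U a ⊔ U b = L at *
  obtain ⟨T, hT⟩ := Syl.exists (p := 2) L
  obtain ⟨c, hc⟩ := hT.pgroup.nonempty_fixed_point_of_prime_not_dvd_card Ω (by omega)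
  have hc : T ≤ stabilizer G c := fun g hg => hc ⟨g, hg⟩
  have h4 : 4 ∣ Nat.card T := by
    have := BG.card_mul_relIndex hT.le
    refine (Nat.Coprime.dvd_mul_right (((Nat.prime_two.coprime_iff_not_dvd.2 hT.not_dvd')).pow_left 2)).1 ?_
    rcases hL.card with e | e <;> rw [this, e] <;> norm_num
  obtain ⟨u, ⟨hu, uT⟩, o⟩ := exists_ord Nat.prime_two (K := 𝐂(U c) ⊓ T) (by
    have h1 := relIndex_cent_dvd p11 (H.card c) (hc.trans (H.stab c).le)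
    have h2 := BG.card_mul_relIndex (inf_le_right (a := 𝐂(U c)) (b := T))
    rw [inf_relIndex_right] at h2
    rw [← h2] at h4
    by_contra e
    have := (((Nat.prime_two.coprime_iff_not_dvd.2 e)).pow_left 2).dvd_mul_left.1 h4
    have := this.trans h1
    omega)
  have uL := hT.le uT
  rcases hL with hL | hL
  · obtain ⟨v, hv', f⟩ := (H.f11 hL ha).four u uL o
    obtain ⟨w, hw, w3, w1, -⟩ := (H.f11 hL ha).ww u uL v hv' f
    have e1 := ncard_orbit L c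
    have e2 := h4.trans (card_dvd (le_inf hT.le hc))
    have e3 := ord_dvd (show w ∈ L ⊓ stabilizer G c from ⟨hw, (u1 o hu (fix_of_comm w1 (H.cfix hu))).symm⟩)
    have e4 := H.mod11' (a := a) (X := orbit L c) (fun e => by
      obtain ⟨k, hk, e⟩ := mem_orb.1 e
      exact H.fpf hL (H.smul_mem' (inv_mem hk) ha) uL o (by rw [← e, inv_smul_smul]; exact H.cfix hu))
      fun g hg => orb_inv g (ha hg)
    have e5 := sgn_mod (Blk.perf (.inl hL)) (orb_inv (a := c)) uL (sq2 o)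
    rw [show {x ∈ orbit L c | u • x = x} = {c} from Set.ext fun x => ⟨fun e => (u1 o hu e.2).symm,
      by rintro rfl; exact ⟨mem_orbit_self _, H.cfix hu⟩⟩, Set.ncard_singleton] at e5
    rw [w3] at e3
    rw [hL.card] at e1
    obtain ⟨m, hm⟩ := Nat.Coprime.mul_dvd_of_dvd_of_dvd (by norm_num) e2 e3
    obtain ⟨n, hn⟩ := e4
    rw [hm, hn] at e1
    have : n * m = 5 := by nlinarith
    have := Nat.le_of_dvd (by norm_num) (Dvd.intro _ this)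
    interval_cases n <;> omega
  · obtain ⟨d, -, e, e'⟩ := H.j1_fix hL ha uL o
    exact e' (H.a2' hu e)

end Core

end Cfsg.Lib.E11
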