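import Cfsg.Agent.Lib.E11.F

/-! Involutions centralising a point. -/

set_option autoImplicit false
set_option linter.unusedSectionVars false

namespace Cfsg.Lib.E11

open Cfsg Subgroup MulAction Cfsg.Lib.Transfer Cfsg.Lib.BG Cfsg.Lib.Small Cfsg.Lib.Perm

variable {G Ω : Type*} [Group G] [Finite G] {A K L S V : Subgroup G} {g h k r s t u v w x y z : G} {p : ℕ}

theorem mem_zp2 (h2 : t * t = 1) : x ∈ zpowers t ↔ x = 1 ∨ x = t := by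
  refine ⟨fun h => ?_, by rintro (rfl | rfl); exacts [one_mem _, mem_zpowers _]⟩
  obtain ⟨k, rfl⟩ := h
  have : t ^ (2 : ℤ) = 1 := by rw [zpow_two, h2]
  rcases Int.even_or_odd' k with ⟨m, rfl | rfl⟩
  · exact .inl (by simp only; rw [zpow_mul, this, one_zpow])
  · exact .inr (by simp only; rw [zpow_add, zpow_mul, this, one_zpow, one_mul, zpow_one])

theorem norm_zp2 (h2 : orderOf t = 2) (hg : g ∈ 𝐍(zpowers t)) : g ∈ 𝐂[t] := by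
  rcases (mem_zp2 (sq2 h2)).1 (conj_mem_of_norm hg (mem_zpowers t)) with e | e
  · exact (ne2 h2 (by simpa using e)).elim
  · exact mem_cent1.2 (mul_inv_eq_iff_eq_mul.1 e)

theorem sq_mul (h1 : x * x = 1) (h2 : y * y = 1) (h : y ∈ 𝐂[x]) : x * y * (x * y) = 1 := by
  rw [mul_assoc, ← mul_assoc y, mem_cent1.1 h, mul_assoc, h2, mul_one, h1]

theorem eq_of_mul1 (h1 : x * x = 1) (h : x * y = 1) : y = x := mul_left_cancel (h.trans h1.symm)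

variable [MulAction G Ω] [Finite Ω] {U : Ω → Subgroup G} {a b c d : Ω} {X : Set Ω}

/-- An involution centralising a point. -/
structure Ip (U : Ω → Subgroup G) (t : G) : Prop where
  ord : orderOf t = 2
  ex : ∃ a, t ∈ 𝐂(U a)

theorem Ip.sq (h : Ip U t) : t * t = 1 := sq2 h.ord

theorem Ip.ne (h : Ip U t) : t ≠ 1 := ne2 h.ord

theorem Ip.conj (H : Geo U) (h : Ip U t) (g : G) : Ip U (g * t * g⁻¹) :=
  ⟨(oconj ..).trans h.ord, let ⟨_, e⟩ := h.ex; ⟨_, H.cent_smul e g⟩⟩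

theorem Ip.pt (h : Ip U t) : ∃ a, a ∈ pts U (Kx U t) := let ⟨a, e⟩ := h.ex; ⟨a, mem_Kx.2 e⟩

theorem Ip.of (h : Ip U t) (h1 : y ∈ 𝐂(Kx U t)) (h2 : y * y = 1) (h3 : y ≠ 1) : Ip U y :=
  ⟨ord2 h2 h3, let ⟨a, e⟩ := h.pt; ⟨a, cent_anti e h1⟩⟩

namespace Core
variable (H : Core U)
include H

theorem ipb (ht : Ip U t) : Blk (Kx U t) := by
  obtain ⟨a, ha⟩ := ht.ex
  have := H.fix_mod2 ht.sq
  rw [H.fixK ha, H.even] at this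
  obtain ⟨b, hb, e⟩ := Set.exists_ne_of_one_lt_ncard (s := pts U (Kx U t)) (by
    have := (Set.ncard_pos (Set.toFinite _)).2 ⟨a, mem_Kx.2 ha⟩
    omega) a
  exact H.blkK ht.ne ha (H.cfix (mem_Kx.1 hb)) e.symm

theorem dec_out (ht : Ip U t) (hc : c ∉ pts U (Kx U t)) : T1 (U c ⊔ U (t • c)) ∧
    ∃ u ∈ U c ⊔ U (t • c), ∃ z ∈ 𝐂(U c ⊔ U (t • c)), u * z = t ∧ orderOf u = 2 ∧ z * z = 1 := by
  obtain ⟨a, ha⟩ := ht.ex
  have h1 : t • c ≠ c := fun e => hc (mem_Kx.2 (H.a2' ha e))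
  exact H.dec ht.sq ha (H.blk h1.symm) left_pt (H.norm_swap rfl (by rw [← mul_smul, ht.sq, one_smul]))
    fun e => h1 (H.czfix e left_pt)

theorem exs (ht : Ip U t) : ∃ g, g * t * g⁻¹ ∈ 𝐂[t] ∧ g * t * g⁻¹ ∉ 𝐂(Kx U t) := by
  obtain ⟨c, hc⟩ := H.ex_out (H.ipb ht)
  obtain ⟨hL, u, hu, z, hz, rfl, o, z2⟩ := H.dec_out ht hc
  obtain ⟨v, hv, f⟩ := (H.f11 hL left_pt).four u hu o
  obtain ⟨r, hr, e, -⟩ := (H.f11 hL left_pt).rho u hu v hv f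
  have e1 : r * (u * z) * r⁻¹ = v * z := by
    rw [← e, mul_assoc _ r⁻¹, mem_cent.1 hz _ (inv_mem hr)]; group
  refine ⟨r, e1 ▸ cmul (mem_cent1_symm (cmul (mem_cent1.2 f.comm) (cc hz hu)))
    (mem_cent1_symm (cmul (cc' hz hv) (self_mem_cent1 z))), fun h => ?_⟩
  obtain ⟨a, ha⟩ := ht.pt
  have e2 : Kx U (u * z) = Kx U (r * (u * z) * r⁻¹) :=
    eq_of_le_of_card_le (H.le_Kx (H.ipb ht) ha h) (by rw [← H.conj_Kx, card_conj])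
  exact H.fg hL left_pt (H.ipb ht) ha f hu hv hz hz cent_Kx (e1 ▸ h) (H.norm_Kx _) (e2 ▸ e1 ▸ H.norm_Kx _)

theorem dec2 (ht : Ip U t) (hs : Ip U s) (hn : s ∈ 𝐍(Kx U t)) (h1 : s ∉ 𝐂(Kx U t)) : T1 (Kx U t) ∧
    ∃ u ∈ Kx U t, ∃ z ∈ 𝐂(Kx U t), u * z = s ∧ orderOf u = 2 ∧ z * z = 1 :=
  let ⟨_, ha⟩ := hs.ex; let ⟨_, hb⟩ := ht.pt; H.dec hs.sq ha (H.ipb ht) hb hn h1

theorem t1K (ht : Ip U t) : T1 (Kx U t) :=
  let ⟨g, h1, h2⟩ := H.exs ht; (H.dec2 ht (ht.conj H.toGeo g) (H.norm_Kx t h1) h2).1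

theorem kx_eq (ht : Ip U t) (hs : Ip U s) (h : s ∈ 𝐂(Kx U t)) : Kx U t = Kx U s :=
  let ⟨_, ha⟩ := ht.pt; (H.ipb ht).eq_of_le (H.t1K hs) (H.le_Kx (H.ipb ht) ha h)

theorem ncK (ht : Ip U t) (hs : Ip U s) (h : s ∉ 𝐂(Kx U t)) : t ∉ 𝐂(Kx U s) := fun e =>
  h (H.kx_eq hs ht e ▸ cent_Kx)

theorem uniq (ht : Ip U t) (hs : Ip U s) (h1 : s ∈ 𝐂[t]) (h2 : s ∉ 𝐂(Kx U t)) (y1 : y ∈ 𝐂(Kx U t))
    (y2 : y * y = 1) (y3 : y ∈ 𝐂[s]) (y4 : y ∈ 𝐂[t]) : y = 1 ∨ y = t := by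
  by_contra! hne
  have hy := ht.of y1 y2 hne.1
  have ey := H.kx_eq ht hy y1
  obtain ⟨hL, u1, m1, z1, c1, rfl, o1, q1⟩ := H.dec2 hs ht (H.norm_Kx s (mem_cent1_symm h1)) (H.ncK ht hs h2)
  obtain ⟨-, u2, m2, z2, c2, rfl, o2, q2⟩ := H.dec2 hs hy (H.norm_Kx s y3) (H.ncK hy hs (ey ▸ h2))
  obtain ⟨a, ha⟩ := hs.pt
  obtain ⟨b, hb⟩ := ht.pt
  refine H.fg hL ha (H.ipb ht) hb (GW.fourGen_of o1 o2 ?_ ?_) m1 m2 c1 c2 cent_Kx y1 (H.norm_Kx _) (ey ▸ H.norm_Kx _)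
  · rintro rfl
    have e : u1 * z1 * (u1 * z2) = z1 * z2 := by
      rw [mul_assoc, ← mul_assoc z1, ← mem_cent.1 c1 u1 m1, ← mul_assoc, ← mul_assoc, sq2 o1, one_mul]
    have h3 := ht.of (mul_mem cent_Kx y1) (sq_mul ht.sq y2 y4) fun e => hne.2 (eq_of_mul1 ht.sq e)
    exact h2 ((H.kx_eq ht h3 (mul_mem cent_Kx y1)).trans (H.kx_eq hs h3 (e ▸ mul_mem c1 c2)).symm ▸ cent_Kx)
  · have := ((H.ipb hs).comm_part m1 c1 (H.norm_Kx s y3) y4).1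
    exact (mem_cent1.1 ((Subgroup.mul_mem_cancel_right _ (cc' c2 m1)).1 this)).symm

theorem dec3 (ht : Ip U t) (hs : Ip U s) (h1 : s ∈ 𝐂[t]) (h2 : s ∉ 𝐂(Kx U t)) :
    ∃ u ∈ Kx U t, ∃ z ∈ zpowers t, u * z = s ∧ orderOf u = 2 := by
  obtain ⟨-, u, hu, z, hz, rfl, o, q⟩ := H.dec2 ht hs (H.norm_Kx t h1) h2
  exact ⟨u, hu, z, (mem_zp2 ht.sq).2 (H.uniq ht hs h1 h2 hz q (cmul (cc' hz hu) (self_mem_cent1 z))
    ((Subgroup.mul_mem_cancel_left _ (span_le hu)).1 h1)), rfl, o⟩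

theorem uniq2 (ht : Ip U t) (y1 : y ∈ 𝐂(Kx U t)) (y2 : y * y = 1) (y4 : y ∈ 𝐂[t]) : y = 1 ∨ y = t := by
  obtain ⟨g, h1, h2⟩ := H.exs ht
  obtain ⟨u, hu, z, hz, e, -⟩ := H.dec3 ht (ht.conj H.toGeo g) h1 h2
  exact H.uniq ht (ht.conj H.toGeo g) h1 h2 y1 y2
    (e ▸ cmul (cc' y1 hu) (mem_cent1_symm (zpowers_le.2 (mem_cent1_symm y4) hz))) y4

theorem tK (ht : Ip U t) : t ∉ Kx U t := fun e => ht.ne ((H.ipb ht).eq_one e cent_Kx)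

theorem nosq (ht : Ip U t) (r1 : r ∈ 𝐂(Kx U t)) : r * r ≠ t := fun r2 => by
  obtain ⟨g, h1, h2⟩ := H.exs ht
  have hs := ht.conj H.toGeo g
  obtain ⟨u, hu, z, hz, e, o⟩ := H.dec3 ht hs h1 h2
  rw [← e] at hs h1 h2
  obtain ⟨a, ha⟩ := ht.pt
  have F := H.f11 (H.t1K ht) ha
  obtain ⟨v, hv, f⟩ := F.four u hu o
  obtain ⟨ρ, hρ, e, -⟩ := F.rho u hu v hv f
  have zc : z ∈ 𝐂(Kx U t) := zpowers_le.2 cent_Kx hz
  have e1 : ρ * (u * z) * ρ⁻¹ = v * z := by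
    rw [← e, mul_assoc _ ρ⁻¹, mem_cent.1 zc _ (inv_mem hρ)]; group
  have hs1 : Ip U (v * z) := e1 ▸ hs.conj H.toGeo ρ
  have rt : r ∈ 𝐂[t] := r2 ▸ cmul (self_mem_cent1 r) (self_mem_cent1 r)
  have rz : r ∈ 𝐂[z] := mem_cent1_symm (zpowers_le.2 (mem_cent1_symm rt) hz)
  have rn := H.norm_Kx _ (cmul (cc' r1 hu) rz)
  have c1 : v * z ∈ 𝐂[u * z] := cmul (mem_cent1_symm (cmul (mem_cent1.2 f.comm) (cc zc hu)))
    (mem_cent1_symm (cmul (cc' zc hv) (self_mem_cent1 z)))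
  have c2 : v * z ∈ 𝐂[t] := mul_mem (span_le hv) (zpowers_le.2 (self_mem_cent1 t) hz)
  obtain ⟨hL, u1, m1, z1, d1, e2, o1, q1⟩ := H.dec2 hs ht (H.norm_Kx _ (mem_cent1_symm h1)) (H.ncK ht hs h2)
  obtain ⟨-, u2, m2, z2, d2, e3, o2, q2⟩ := H.dec2 hs hs1 (H.norm_Kx _ c1) fun e => by
    rcases H.uniq2 hs e hs1.sq c1 with e | e
    · exact hs1.ne e
    · exact f.ne (mul_right_cancel e).symm
  have b := H.ipb hs
  have f' : FourGen u1 u2 := by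
    refine GW.fourGen_of o1 o2 ?_ (mem_cent1.1 ((Subgroup.mul_mem_cancel_right _ (cc' d2 m1)).1
      (b.comm_part m1 d1 (e3 ▸ H.norm_Kx _ c1) (e2 ▸ e3 ▸ c2)).1)).symm
    rintro rfl
    have e : t * (v * z) = z1 * z2 := by
      rw [← e3, ← e2, mul_assoc, ← mul_assoc z1, ← mem_cent.1 d1 u1 m1, ← mul_assoc, ← mul_assoc, sq2 o1, one_mul]
    rcases H.uniq2 hs (e ▸ mul_mem d1 d2) (sq_mul ht.sq hs1.sq c2) (mul_mem (mem_cent1_symm h1) c1) with e | e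
    · exact f.ne_one' ((H.ipb ht).eq_one hv ((Subgroup.mul_mem_cancel_right _ zc).1 (eq_of_mul1 ht.sq e ▸ cent_Kx)))
    · rw [← mul_assoc] at e
      exact H.tK ht ((Subgroup.mul_mem_cancel_right _ hv).1 (mul_right_cancel e ▸ hu))
  have g1 := (b.comm_part m1 d1 rn (e2 ▸ rt)).1
  have g2 := (b.comm_part m2 d2 rn (e3 ▸ cmul (cc' r1 hv) rz)).1
  obtain ⟨k, hk, y, hy, rfl⟩ := mem_KC.1 (hL.b8 f' m1 m2 rn (n := 2)
    (by rw [show r ^ 2 ^ 2 = r * r * (r * r) by simp [pow_succ, mul_assoc], r2, ht.sq]) g1 g2)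
  obtain ⟨c, hc⟩ := hs.pt
  have := f'.mul_self_of_mem ((H.f11 hL hc).cV u1 m1 u2 m2 f' k hk
    ((Subgroup.mul_mem_cancel_right _ (cc' hy m1)).1 g1) ((Subgroup.mul_mem_cancel_right _ (cc' hy m2)).1 g2))
  refine H.ncK ht hs h2 ?_
  rw [← r2, mul_assoc, ← mul_assoc y, ← mem_cent.1 hy k hk, ← mul_assoc, ← mul_assoc, this, one_mul]
  exact mul_mem hy hy

theorem two_elt (ht : Ip U t) {n : ℕ} (r1 : r ∈ 𝐂(Kx U t)) (r2 : r ∈ 𝐂[t]) (hn : r ^ 2 ^ n = 1) : r ∈ zpowers t := by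
  induction n generalizing r with
  | zero => simp_all
  | succ n ih =>
    rcases (mem_zp2 ht.sq).1 (ih (mul_mem r1 r1) (mul_mem r2 r2) (by rw [← pow_two, ← pow_mul, ← pow_succ', hn]))
      with e | e
    · exact (mem_zp2 ht.sq).2 (H.uniq2 ht r1 e r2)
    · exact (H.nosq ht r1 e).elim

theorem sylU (ht : Ip U t) (ha : t ∈ 𝐂(U a)) : Syl 2 (zpowers t) 𝐂(U a) := by
  refine Syl.of_norm (Syl.of_max (le_inf (zpowers_le.2 ha) (le_norm _)) (pg_inv ht.sq) fun Q hQ _ h2 q hq => ?_)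
  obtain ⟨n, hn⟩ := pg_elt hQ hq
  have c := norm_zp2 ht.ord (h2 hq).2
  exact H.two_elt ht (H.a3' (H.ipb ht) (mem_Kx.2 ha) (H.norm_Kx t c) (h2 hq).1 hn fun e =>
    by simpa using (Nat.prime_dvd_prime_iff_eq p11 Nat.prime_two).1 (p11.dvd_of_dvd_pow e)) c hn

theorem one_class (ht : Ip U t) (hs : Ip U s) : ∃ g, g * s * g⁻¹ = t := by
  obtain ⟨a, ha⟩ := ht.ex
  obtain ⟨b, hb⟩ := hs.ex
  obtain ⟨g, rfl⟩ := H.trans_all b a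
  have h1 := hs.conj H.toGeo g
  obtain ⟨k, -, e⟩ := (H.sylU ht ha).exists_conj_le (pg_inv h1.sq) (zpowers_le.2 (H.cent_smul hb g))
  rcases (mem_zp2 ht.sq).1 (e (conj_mem_conj.2 (mem_zpowers _))) with e | e
  · exact ((h1.conj H.toGeo k).ne e).elim
  · exact ⟨k * g, by rw [← e]; group⟩

end Core

end Cfsg.Lib.E11
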