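import Cfsg.Agent.Lib.E11.G

/-! A fusion argument: the weak closure `⟨t⟩ × V` of an involution with pattern `tV`. -/

set_option autoImplicit false
set_option linter.unusedSectionVars false

namespace Cfsg.Lib.E11

open Cfsg Subgroup MulAction Cfsg.Lib.Transfer Cfsg.Lib.BG Cfsg.Lib.Small Cfsg.Lib.FGS

variable {G : Type*} [Group G] [Finite G] {A K L M Q S T V : Subgroup G} {g h k r s t u v w x y z : G} {p : ℕ}

theorem pow_eq_of_mul (hp : p.Prime) {a b i j : ℕ} (h : p ^ a * i = p ^ b * j) (hi : ¬ p ∣ i) (hj : ¬ p ∣ j) :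
    a = b := by
  have key : ∀ {a b i j : ℕ}, p ^ a * i = p ^ b * j → ¬ p ∣ j → a ≤ b := fun h hj =>
    (Nat.pow_dvd_pow_iff_le_right hp.one_lt).1 (((hp.coprime_iff_not_dvd.2 hj).pow_left _).dvd_mul_right.1 ⟨_, h.symm⟩)
  exact (key h hj).antisymm (key h.symm hi)

theorem syl_mul [hp : Fact p.Prime] (hS : Syl p S M) (hT : Syl p T L) {k m n : ℕ} (hm : ¬ p ∣ m) (hn : ¬ p ∣ n)
    (h : n * Nat.card M = p ^ k * m * Nat.card L) : Nat.card S = p ^ k * Nat.card T := by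
  obtain ⟨a, ha⟩ := hS.pgroup.exists_card_eq
  obtain ⟨b, hb⟩ := hT.pgroup.exists_card_eq
  rw [← BG.card_mul_relIndex hS.le, ← BG.card_mul_relIndex hT.le, ha, hb] at h
  rw [ha, hb, ← pow_add, pow_eq_of_mul hp.out (a := a) (b := k + b) (i := n * S.relIndex M) (j := m * T.relIndex L)
    (by rw [pow_add]; linarith) (hp.out.not_dvd_mul hn hS.not_dvd') (hp.out.not_dvd_mul hm hT.not_dvd')]

theorem ncard_four {α : Type*} [Finite α] {β : Type*} {O : Set α} (f : α → β) {a b c d : β} (hab : a ≠ b) (hac : a ≠ c)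
    (had : a ≠ d) (hbc : b ≠ c) (hbd : b ≠ d) (hcd : c ≠ d) (h : ∀ x ∈ O, f x = a ∨ f x = b ∨ f x = c ∨ f x = d) :
    O.ncard = {x ∈ O | f x = a}.ncard + {x ∈ O | f x = b}.ncard + {x ∈ O | f x = c}.ncard +
      {x ∈ O | f x = d}.ncard := by
  rw [← Set.ncard_union_eq, ← Set.ncard_union_eq, ← Set.ncard_union_eq]
  · congr 1
    ext x
    have := h x
    simp only [Set.mem_union, Set.mem_ofPred_eq]
    tauto
  all_goals
    rw [Set.disjoint_left]
    simp only [Set.mem_union, Set.mem_ofPred_eq]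
    grind

/-- The configuration. -/
structure TL (t u v r : G) (T : Subgroup G) (f : FourGen u v) : Prop where
  ord : orderOf t = 2
  syl : Syl 2 T 𝐂[t]
  le : f.four ≤ T
  cls : ∀ x ∈ T, (∃ g, g * t * g⁻¹ = x) ↔ t * x ∈ f.four
  rt : r ∈ 𝐂[t]
  r1 : r * u * r⁻¹ = v
  r2 : r * v * r⁻¹ = u * v
  cen : ∀ x ∈ T, x ∈ 𝐂(f.four) → x ∈ f.four ∨ t * x ∈ f.four

/-- The coset `tV`. -/
def cs (t : G) (V : Subgroup G) : Set G := {x | t * x ∈ V}

theorem ncard_cs (t : G) (V : Subgroup G) : (cs t V).ncard = Nat.card V :=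
  Set.ncard_preimage_of_injective_subset_range (f := (t * ·)) (mul_right_injective t)
    (fun y _ => ⟨t⁻¹ * y, by simp⟩)

namespace TL
variable {f : FourGen u v} (H : TL t u v r T f)
include H

theorem tt : t * t = 1 := sq2 H.ord

theorem tT : t ∈ T := H.syl.ge_of_norm_p' (zpowers_le.2 (self_mem_cent1 t)) (pg_inv H.tt)
  (norm_of_cent (cent_symm (cent_zpowers t ▸ H.syl.le))) (mem_zpowers t)

theorem t_cs : t ∈ cs t f.four := by change t * t ∈ f.four; rw [H.tt]; exact one_mem _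

theorem cs_T (h : x ∈ cs t f.four) : x ∈ T := (T.mul_mem_cancel_left H.tT).1 (H.le h)

theorem tc : t ∈ 𝐂(f.four) := le_cent1_iff.1 (H.le.trans H.syl.le)

theorem cs_c (h : x ∈ cs t f.four) : x ∈ 𝐂(f.four) :=
  (Subgroup.mul_mem_cancel_left _ H.tc).1 (abelian_cent (GW.four_abelian f) h)

theorem cs_cls (h : x ∈ cs t f.four) : ∃ g, g * t * g⁻¹ = x := (H.cls x (H.cs_T h)).2 h

theorem cs_comm (h : x ∈ cs t f.four) (h' : y ∈ cs t f.four) : x ∈ 𝐂[y] := by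
  have : y = t * (t * y) := by rw [← mul_assoc, H.tt, one_mul]
  rw [this]
  exact cmul (H.syl.le (H.cs_T h)) (cc' (H.cs_c h) h')

theorem into (hQ : IsPGroup 2 Q) (h : Q ≤ 𝐂[g * t * g⁻¹]) : ∃ n, n * (g * t * g⁻¹) * n⁻¹ = t ∧
    ∀ x ∈ Q, (∃ g, g * t * g⁻¹ = x) → n * x * n⁻¹ ∈ cs t f.four := by
  obtain ⟨c, hc, e⟩ := Syl.exists_conj_le (conj_cent1 g t ▸ H.syl.conj g) hQ h
  refine ⟨g⁻¹ * c, by rw [mul_assoc g⁻¹, mem_cent1.1 hc]; group, ?_⟩
  rintro _ hx ⟨k, rfl⟩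
  refine (H.cls _ ?_).1 ⟨g⁻¹ * c * k, by group⟩
  simpa only [mul_assoc, mul_inv_rev, inv_inv] using mem_conj.1 (e (conj_mem_conj.2 hx))

/-- The group `⟨t⟩ × V`. -/
theorem pgE : IsPGroup 2 ↥(f.four ⊔ zpowers t) :=
  pgroup_sup (GW.four_pgroup f) (pg_inv H.tt) (norm_of_cent (zpowers_le.2 H.tc))

theorem cs_E (h : x ∈ cs t f.four) : x ∈ f.four ⊔ zpowers t :=
  (Subgroup.mul_mem_cancel_left _ (mem_sup_right (mem_zpowers t))).1 (mem_sup_left h)

theorem E_c (h : x ∈ cs t f.four) : f.four ⊔ zpowers t ≤ 𝐂[x] :=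
  sup_le (le_cent1_iff.2 (H.cs_c h)) (zpowers_le.2 (H.cs_comm H.t_cs h))

theorem trans (h : s ∈ cs t f.four) : ∃ n ∈ normalizer (cs t f.four), n * t * n⁻¹ = s := by
  obtain ⟨g, rfl⟩ := H.cs_cls h
  obtain ⟨n, e, hn⟩ := H.into H.pgE (H.E_c h)
  exact ⟨n⁻¹, inv_mem (mem_normalizer_fintype fun x hx => hn x (H.cs_E hx) (H.cs_cls hx)),
    by conv_lhs => rw [← e]
       group⟩

theorem nV (hg : g ∈ normalizer (cs t f.four)) : g ∈ 𝐍(f.four) := mem_normalizer_fintype fun x hx => by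
  have h1 : t * _ ∈ f.four := (hg t).1 H.t_cs
  have h2 : t * _ ∈ f.four := (hg (t * x)).1 (by change t * (t * x) ∈ f.four; rwa [← mul_assoc, H.tt, one_mul])
  simpa only [mul_assoc, mul_inv_rev, inv_inv, inv_mul_cancel_left, SetLike.mem_coe] using mul_mem (inv_mem h1) h2

theorem nE (hg : g ∈ normalizer (cs t f.four)) : g ∈ 𝐍(f.four ⊔ zpowers t) := mem_normalizer_of_conj_le (by
  rw [conj_sup, conj_eq_of_norm (H.nV hg), conj_zpowers]
  exact sup_le le_sup_left (zpowers_le.2 (H.cs_E ((hg t).1 H.t_cs))))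

theorem T_le : T ≤ normalizer (cs t f.four) := fun g hg => mem_normalizer_fintype fun x hx =>
  let ⟨k, e⟩ := H.cs_cls hx
  (H.cls _ (mul_mem (mul_mem hg (H.cs_T hx)) (inv_mem hg))).1 ⟨g * k, by rw [← e]; group⟩

theorem r_mem : r ∈ normalizer (cs t f.four) := mem_normalizer_fintype fun x hx => by
  have : r ∈ 𝐍(f.four) := mem_normalizer_of_conj_le (by
    rw [← f.four_conj, FourGen.four_le_iff, H.r1, H.r2]
    exact ⟨f.right_mem, mul_mem f.left_mem f.right_mem⟩)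
  have := conj_mem_of_norm this hx
  rwa [← mul_assoc, mem_cent1.1 H.rt, mul_assoc, mul_assoc, ← mul_assoc r] at this

theorem cent_of_cls (hs : s ∈ normalizer (cs t f.four)) (h : ∃ g, g * t * g⁻¹ = s) : s ∈ 𝐂(f.four) := by
  have s2 : s * s = 1 := by obtain ⟨g, rfl⟩ := h; exact sq2 ((oconj ..).trans H.ord)
  by_cases e : ∃ x ∈ cs t f.four, s ∈ 𝐂[x]
  · obtain ⟨x, hx, e⟩ := e
    obtain ⟨g, rfl⟩ := H.cs_cls hx
    obtain ⟨n, -, hn⟩ := H.into (pgroup_sup H.pgE (pg_inv s2) (zpowers_le.2 (H.nE hs)))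
      (sup_le (H.E_c hx) (zpowers_le.2 e))
    have : n ∈ normalizer (cs t f.four) :=
      mem_normalizer_fintype fun x hx => hn x (mem_sup_left (H.cs_E hx)) (H.cs_cls hx)
    exact H.cs_c ((this s).2 (hn s (mem_sup_right (mem_zpowers s)) h))
  push Not at e
  have hV := H.nV hs
  obtain ⟨x, hx, ex⟩ : ∃ x ∈ f.four, s * t * s⁻¹ = t * x :=
    ⟨_, (hs t).1 H.t_cs, by rw [← mul_assoc, H.tt, one_mul]⟩
  have nf : ∀ y ∈ f.four, x * (s * y * s⁻¹) ≠ y := fun y hy e' => e (t * y)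
    (by change t * (t * y) ∈ f.four; rwa [← mul_assoc, H.tt, one_mul]) (mem_cent1.2 (mul_inv_eq_iff_eq_mul.1 (by
      rw [show s * (t * y) * s⁻¹ = s * t * s⁻¹ * (s * y * s⁻¹) by group, ex, mul_assoc, e'])))
  have x1 : x ≠ 1 := fun e => nf 1 (one_mem _) (by simp [e])
  have sx : s * x * s⁻¹ = x := by
    have e1 : s * (s * t * s⁻¹) * s⁻¹ = t := by
      rw [inv_eq_of_mul_eq_one_right s2, ← mul_assoc, ← mul_assoc, s2, one_mul, mul_assoc, s2, mul_one]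
    rw [ex, show s * (t * x) * s⁻¹ = s * t * s⁻¹ * (s * x * s⁻¹) by group, ex, mul_assoc, mul_eq_left] at e1
    exact eq_of_mul1 (f.mul_self_of_mem hx) e1
  refine mem_cent.2 fun y hy => (mul_inv_eq_iff_eq_mul.1 ?_).symm
  by_cases y1 : y = 1
  · simp [y1]
  by_cases yx : x = y
  · exact yx ▸ sx
  have f' := fourGen_of_mem f.isKleinFour hx hy x1 y1 yx
  rcases f'.mem_four.1 (f'.eq_four f.card_four hx hy ▸ conj_mem_of_norm hV hy) with e | e | e | e
  · exact (y1 (by simpa using e)).elim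
  · exact (yx (by simpa using sx.trans e.symm)).elim
  · exact e
  · exact (nf y hy (by rw [e, f'.mul_mul_left])).elim

theorem false (h8 : ∀ S : Subgroup G, Syl 2 S ⊤ → Nat.card S = 8 * Nat.card T) : False := by
  have c4 : (cs t f.four).ncard = 4 := (ncard_cs ..).trans f.card_four
  have sub : ∀ {M}, M ≤ normalizer (cs t f.four) → hcl M t ⊆ cs t f.four := fun hM => by
    rintro _ ⟨g, hg, rfl⟩
    exact (hM hg t).1 H.t_cs
  have sT : ∀ {M}, T ≤ M → Syl 2 T (M ⊓ 𝐂[t]) := fun hM => H.syl.of_le (le_inf hM H.syl.le) inf_le_right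
  have e1 := ncard_hcl_mul (normalizer (cs t f.four)) t
  rw [(sub le_rfl).antisymm fun s hs => H.trans hs, c4] at e1
  obtain ⟨S1, hS1, l1⟩ := Syl.exists_ge H.syl.pgroup H.T_le
  obtain ⟨S, hS, l2⟩ := Syl.exists_ge hS1.pgroup le_top
  have e2 : Nat.card S1 = 2 ^ 2 * Nat.card T := syl_mul hS1 (sT H.T_le) (m := 1) (n := 1) (by norm_num) (by norm_num)
    (by omega)
  have e3 := h8 S hS
  have n1 : S ≤ 𝐍(S1) := norm_of_half l2 (by omega)
  have i1 : S1 ⊓ 𝐂[t] = T := ((sT l1).eq_of_le_pgroup (le_inf l1 H.syl.le) le_rfl (pgroup_of_le hS1.pgroup inf_le_left)).symm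
  have e4 : hcl S1 t = cs t f.four := Set.eq_of_subset_of_ncard_le (sub hS1.le) (by
    have := ncard_hcl_mul S1 t
    rw [i1, e2] at this
    exact (c4.trans (Nat.eq_of_mul_eq_mul_right Nat.card_pos this).symm).le)
  have hN : Nml (normalizer (cs t f.four) ⊓ 𝐂(f.four)) (normalizer (cs t f.four)) := Nml.cent fun _ => H.nV
  have hU : Syl 2 _ _ := hS1.inf_nml hN
  obtain ⟨n, hn, ρn⟩ := frattini_argument hU.le hU.pgroup hU.not_dvd' hN.norm H.r_mem
  have e5 : Nat.card ↥(S1 ⊓ (normalizer (cs t f.four) ⊓ 𝐂(f.four))) ≤ 32 := by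
    rw [← ncard_hcl_mul _ t]
    refine Nat.mul_le_mul ((Set.ncard_le_ncard (sub (inf_le_left.trans hS1.le))).trans c4.le)
      (show _ ≤ 8 from (Set.ncard_le_ncard (t := f.four ∪ cs t f.four) fun x hx =>
        H.cen x (i1 ▸ ⟨hx.1.1, hx.2⟩) hx.1.2.2).trans ((Set.ncard_union_le _ _).trans (by
          rw [c4]; exact (congrArg (· + 4) f.card_four).le)))
  set W : Set G := {x | x ∈ S1 ∧ ∃ g, g * t * g⁻¹ = x}
  have mU : ∀ x ∈ W, x ∈ S1 ⊓ (normalizer (cs t f.four) ⊓ 𝐂(f.four)) := fun x hx =>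
    ⟨hx.1, hS1.le hx.1, H.cent_of_cls (hS1.le hx.1) hx.2⟩
  have cj : ∀ g x : G, (∃ g, g * t * g⁻¹ = x) → ∃ k, k * t * k⁻¹ = g * x * g⁻¹ := by
    rintro g _ ⟨k, rfl⟩
    exact ⟨g * k, by group⟩
  have g1 : S ≤ normalizer W := fun g hg => mem_normalizer_fintype fun x hx =>
    ⟨conj_mem_of_norm (n1 hg) hx.1, cj g x hx.2⟩
  have g2 : n * r ∈ normalizer W := mem_normalizer_fintype fun x hx =>
    ⟨(conj_mem_of_norm ρn (mU x hx)).1, cj _ x hx.2⟩
  have sW : hcl (normalizer W) t ⊆ W := by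
    rintro _ ⟨g, hg, rfl⟩
    exact (hg t).1 ⟨l1 H.tT, 1, by simp⟩
  have e6 : (hcl (normalizer W) t).ncard ≤ 32 := (Set.ncard_le_ncard fun x hx => mU x (sW hx)).trans e5
  have e7 := ncard_hcl_mul (normalizer W) t
  have s1 : Syl 2 _ _ := hS.of_le g1 le_top
  have s2 := sT (l1.trans (l2.trans g1))
  rw [← BG.card_mul_relIndex s1.le, ← BG.card_mul_relIndex s2.le, e3] at e7
  have e8 : (hcl (normalizer W) t).ncard * T.relIndex (normalizer W ⊓ 𝐂[t]) = 8 * S.relIndex (normalizer W) :=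
    Nat.eq_of_mul_eq_mul_left (Nat.card_pos (α := T)) (by linarith)
  have o1 := s1.not_dvd'
  have o2 := s2.not_dvd'
  have ρN := mul_mem hn.1 H.r_mem
  have cv : ∀ y ∈ f.four, n * r * y * (n * r)⁻¹ = r * y * r⁻¹ := fun y hy => by
    rw [← conj_cc (cc' hn.2 (conj_mem_of_norm (H.nV H.r_mem) hy))]; group
  have fib : ∀ y ∈ f.four, {x ∈ hcl (normalizer W) t | t * (x * t * x⁻¹) = y}.ncard ≤
      {x ∈ hcl (normalizer W) t | t * (x * t * x⁻¹) = r * y * r⁻¹}.ncard := fun y hy => by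
    refine Set.ncard_le_ncard_of_injOn (fun x => n * r * x * (n * r)⁻¹) ?_ (fun a _ b _ e => by simpa using e)
    rintro x ⟨⟨g, hg, rfl⟩, e⟩
    refine ⟨⟨n * r * g, mul_mem g2 hg, by group⟩, ?_⟩
    have xc := (mU _ (sW ⟨g, hg, rfl⟩)).2.2
    generalize g * t * g⁻¹ = x at *
    obtain ⟨z, hz, ez⟩ : ∃ z ∈ f.four, (n * r)⁻¹ * t * (n * r) = t * z :=
      ⟨_, ((mem_set_normalizer_iff''.1 ρN) t).1 H.t_cs, by rw [← mul_assoc t t, H.tt, one_mul]⟩
    rw [← cv y hy, ← e]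
    calc _ = n * r * (((n * r)⁻¹ * t * (n * r)) * (x * ((n * r)⁻¹ * t * (n * r)) * x⁻¹)) * (n * r)⁻¹ := by group
      _ = n * r * (t * z * (t * (t * (x * t * x⁻¹))) * (x * z * x⁻¹)) * (n * r)⁻¹ := by
        rw [ez, ← mul_assoc t t, H.tt]; group
      _ = _ := by
        have : t * z * (t * y) * z = t * t * y * (z * z) := by
          rw [mul_assoc t z, ← mul_assoc z, mem_cent.1 H.tc z hz, mul_assoc t z,
            ← mem_cent.1 (abelian_cent (GW.four_abelian f) hz) y hy]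
          group
        rw [conj_cc (cc' xc hz), e, this, H.tt, f.mul_self_of_mem hz, one_mul, mul_one]
  have e9 := ncard_four (O := hcl (normalizer W) t) (fun x => t * (x * t * x⁻¹)) f.ne_one.symm f.ne_one'.symm
    f.mul_ne_one.symm f.ne f.mul_right.ne (by simpa using f.ne_one) fun x hx =>
      f.mem_four.1 (((mU x (sW hx)).2.1 t).1 H.t_cs)
  have f1 := fib u f.left_mem
  have f2 := fib v f.right_mem
  have f3 := fib _ (mul_mem f.left_mem f.right_mem)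
  rw [H.r1] at f1
  rw [H.r2] at f2
  rw [show r * (u * v) * r⁻¹ = r * u * r⁻¹ * (r * v * r⁻¹) by group, H.r1, H.r2, f.mul_mul_right] at f3
  rw [show {x ∈ hcl (normalizer W) t | t * (x * t * x⁻¹) = 1} = cs t f.four from Set.ext fun x => ⟨fun e =>
    (H.cls x (i1 ▸ ⟨(sW e.1).1, mem_cent1.2 (mul_inv_eq_iff_eq_mul.1 (eq_of_mul1 H.tt e.2))⟩)).1 (sW e.1).2, fun e =>
      ⟨let ⟨g, hg, e⟩ := e4.ge e; ⟨g, g1 (l2 hg), e⟩, by rw [conj_cc (H.cs_comm e H.t_cs), H.tt]⟩⟩, c4] at e9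
  generalize (hcl (normalizer W) t).ncard = m at *
  obtain ⟨j, rfl⟩ : 8 ∣ m := ((Nat.prime_two.coprime_iff_not_dvd.2 o2).pow_left 3).dvd_mul_right.1 ⟨_, e8⟩
  have : ¬ 2 ∣ j := fun e => o1 (e.trans ⟨_, Nat.eq_of_mul_eq_mul_left (by norm_num : 0 < 8) (by rw [← e8, mul_assoc])⟩)
  omega

end TL

end Cfsg.Lib.E11
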