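import Cfsg.Agent.Lib.E11.H

/-! No involution centralises a point. -/

set_option autoImplicit false
set_option linter.unusedSectionVars false

namespace Cfsg.Lib.E11

open Cfsg Subgroup MulAction Cfsg.Lib.Transfer Cfsg.Lib.BG Cfsg.Lib.Small Cfsg.Lib.Perm

variable {G Ω : Type*} [Group G] [Finite G] {A K L P S T V : Subgroup G} {g h k r s t u v w x y z : G} {p : ℕ}

theorem dcount {α β : Type*} [Finite α] [Finite β] {A : Set α} {B : Set β} (R : α → β → Prop) {m n : ℕ}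
    (h1 : ∀ a ∈ A, {b ∈ B | R a b}.ncard = m) (h2 : ∀ b ∈ B, {a ∈ A | R a b}.ncard = n) :
    A.ncard * m = B.ncard * n := by
  classical
  rw [Set.ncard_eq_toFinset_card A, Set.ncard_eq_toFinset_card B]
  refine Finset.card_mul_eq_card_mul R (fun a ha => ?_) fun b hb => ?_
  · rw [← h1 a (by simpa using ha), ← Set.ncard_coe_finset]
    congr 1; ext; simp
  · rw [← h2 b (by simpa using hb), ← Set.ncard_coe_finset]
    congr 1; ext; simp

theorem j1_of_cls [IsSimpleGroup G] (ht : orderOf t = 2) (hT : Syl 2 T 𝐂[t])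
    (h : ∀ x ∈ T, x ≠ 1 → ∃ g, g * t * g⁻¹ = x) (h24 : 24 ∣ Nat.card 𝐂[t]) (h5 : 5 ∣ Nat.card G) : Spor.IsoJ1 G := by
  obtain ⟨S, hS, l⟩ := Syl.exists_ge hT.pgroup le_top
  have tT : t ∈ T := hT.ge_of_norm_p' (zpowers_le.2 (self_mem_cent1 t)) (pg_inv (sq2 ht))
    (norm_of_cent (cent_symm (cent_zpowers t ▸ hT.le))) (mem_zpowers t)
  obtain ⟨z, hz, z1⟩ := exists_ne_one (nil_meet_center hS.nil le_rfl (le_norm S) (ne_bot_of_mem (l tT) (ne2 ht)))
  have zT : z ∈ T := hT.eq_of_le_pgroup (le_inf l hT.le) inf_le_right (pgroup_of_le hS.pgroup inf_le_left) ▸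
    (⟨hz.1, cc' hz.2 (l tT)⟩ : z ∈ S ⊓ 𝐂[t])
  obtain ⟨g, rfl⟩ := h z zT z1
  have e : T = S := eq_of_le_of_card_le l ((Syl.card_le (conj_cent1 g t ▸ hT.conj g) hS.pgroup
    (le_cent1_iff.2 hz.2)).trans (card_conj g T).le)
  refine isoJ1_of (ab2_of_no4 fun x hx => ?_) ht h24 h5
  obtain ⟨k, -, hk⟩ := hS.exists_conj_le (pg_zpowers (n := 2) hx) le_top
  by_cases x1 : x = 1
  · simp [x1]
  obtain ⟨g, e⟩ := h _ (e ▸ hk (conj_mem_conj.2 (mem_zpowers x))) (by simpa using x1)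
  exact sq2 ((oconj k x).symm.trans (e ▸ (oconj ..).trans ht))

variable [MulAction G Ω] [Finite Ω] {U : Ω → Subgroup G} {a b c d : Ω} {X : Set Ω}

theorem Geo.card_G (H : Geo U) (a : Ω) : Nat.card Ω * Nat.card (stabilizer G a) = Nat.card (⊤ : Subgroup G) := by
  have := ncard_orbit (⊤ : Subgroup G) a
  rwa [show orbit (⊤ : Subgroup G) a = Set.univ from Set.eq_univ_of_forall fun b =>
    let ⟨g, e⟩ := H.trans_all a b; mem_orb.2 ⟨g, trivial, e⟩, Set.ncard_univ, top_inf_eq] at this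

theorem Geo.h8 (H : Geo U) (hv : Nat.card Ω = 672) (h12 : (orbit 𝐂[t] a).ncard = 12) (hP : Syl 2 P (stabilizer G a))
    (hle : P ≤ 𝐂[t]) (hT : Syl 2 T 𝐂[t]) (hS : Syl 2 S ⊤) : Nat.card S = 8 * Nat.card T := by
  have e1 := H.card_G a
  have e2 := ncard_orbit 𝐂[t] a
  rw [syl_mul hS hP (k := 5) (m := 21) (n := 1) (by norm_num) (by norm_num) (by rw [← e1, hv]; ring),
    syl_mul hT (hP.of_le (le_inf hle hP.le) inf_le_right) (k := 2) (m := 3) (n := 1) (by norm_num) (by norm_num)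
      (by rw [← e2, h12]; ring)]
  ring

namespace Core
variable (H : Core U)
include H

theorem five : 5 ∣ Nat.card G := by
  obtain ⟨a, b, hab⟩ := H.ex2
  refine Dvd.dvd.trans ?_ (card_subgroup_dvd_card (U a ⊔ U b))
  rcases (H.blk hab).card with e | e <;> rw [e] <;> norm_num

theorem conj_inv (ht : Ip U t) (hs : Ip U s) (hu : u ∈ Kx U s) (o : orderOf u = 2) (hv : v ∈ Kx U t)
    (o' : orderOf v = 2) (h : Ip U u) : Ip U v := by
  obtain ⟨g, rfl⟩ := H.one_class ht hs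
  obtain ⟨a, ha⟩ := ht.pt
  obtain ⟨k, -, rfl⟩ := (H.f11 (H.t1K ht) ha).one _ (H.conj_Kx g s ▸ conj_mem_conj.2 hu) v hv ((oconj ..).trans o) o'
  exact (h.conj H.toGeo g).conj H.toGeo k

theorem conj_mul (ht : Ip U t) (hu : u ∈ Kx U t) (o : orderOf u = 2) (hv : v ∈ Kx U t) (o' : orderOf v = 2)
    (h : Ip U (t * u)) : Ip U (t * v) := by
  obtain ⟨a, ha⟩ := ht.pt
  obtain ⟨k, hk, rfl⟩ := (H.f11 (H.t1K ht) ha).one _ hu v hv o o'
  have := h.conj H.toGeo k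
  rwa [← mul_assoc, mem_cent1.1 (span_le hk), mul_assoc, mul_assoc, ← mul_assoc k] at this

theorem no_ip (ht : Ip U t) : False := by
  obtain ⟨a, ha⟩ := ht.pt
  have hK := H.t1K ht
  have F := H.f11 hK ha
  obtain ⟨u, hu, v, hv, f⟩ := hK.ex_four F
  have hV := f.four_le_iff.2 ⟨hu, hv⟩
  have tc : t ∈ 𝐂(f.four) := cent_anti hV cent_Kx
  obtain ⟨T, hT, l⟩ := Syl.exists_ge (pgroup_sup (GW.four_pgroup f) (pg_inv ht.sq) (norm_of_cent (zpowers_le.2 tc)))
    (sup_le (hV.trans span_le) (zpowers_le.2 (self_mem_cent1 t)))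
  have lV := le_sup_left.trans l
  have tT := l (mem_sup_right (mem_zpowers t))
  have TN := hT.le.trans (H.norm_Kx t)
  have eV : f.four = T ⊓ Kx U t :=
    (hK.syl_four f hu hv).eq_of_le_pgroup (le_inf lV hV) inf_le_right (pgroup_of_le hT.pgroup inf_le_left)
  have cen : ∀ x ∈ T, x ∈ 𝐂(f.four) → x ∈ f.four ∨ t * x ∈ f.four := fun x hx e => by
    obtain ⟨n, hn⟩ := pg_elt hT.pgroup hx
    obtain ⟨k, hk, y, hy, rfl⟩ := mem_KC.1 (hK.b8 f hu hv (TN hx) hn (cc' e f.left_mem) (cc' e f.right_mem))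
    have k4 := F.cV u hu v hv f k hk ((Subgroup.mul_mem_cancel_right _ (cc' hy hu)).1 (cc' e f.left_mem))
      ((Subgroup.mul_mem_cancel_right _ (cc' hy hv)).1 (cc' e f.right_mem))
    have yT := (T.mul_mem_cancel_left (lV k4)).1 hx
    obtain ⟨m, hm⟩ := pg_elt hT.pgroup yT
    rcases (mem_zp2 ht.sq).1 (H.two_elt ht hy (hT.le yT) hm) with rfl | rfl
    · exact .inl (by rwa [mul_one])
    · exact .inr (by rwa [mem_cent1.1 (span_le hk), ← mul_assoc, ht.sq, one_mul])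
  have o4 : ∀ y ∈ f.four, y ≠ 1 → orderOf y = 2 := fun y hy => ord2 (f.mul_self_of_mem hy)
  have nc : ∀ {s y : G}, Ip U s → Ip U y → y ∈ 𝐂[s] → y ≠ s → y ∉ 𝐂(Kx U s) := fun hs hy h1 h2 e =>
    (H.uniq2 hs e hy.sq h1).elim hy.ne h2
  by_cases α : Ip U u
  · have ip : ∀ y ∈ f.four, y ≠ 1 → Ip U y := fun y hy y1 => H.conj_inv ht ht hu f.orderOf_eq (hV hy) (o4 y hy y1) α
    have TC : T ≤ 𝐂(f.four) := fun x hx => by
      obtain ⟨u0, ⟨h0, c0⟩, n0⟩ := exists_ne_one (nil_meet_center hT.nil lV (eV ▸ norm_inf (le_norm T) TN)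
        (ne_bot_of_mem f.left_mem f.ne_one))
      obtain ⟨u1, f', e⟩ := exists_fourGen_of_mem f.isKleinFour h0 n0
      have h1 : u1 ∈ f.four := e ▸ f'.right_mem
      have i0 := ip u0 h0 n0
      obtain ⟨k, hk, z, hz, e1, -⟩ := H.dec3 i0 (ip u1 h1 f'.ne_one') (mem_cent1.2 f'.comm.symm)
        (nc i0 (ip u1 h1 f'.ne_one') (mem_cent1.2 f'.comm.symm) f'.ne.symm)
      have xc := cc c0 hx
      rw [e, GW.mem_cent_four]
      refine ⟨xc, mem_cent1.2 (mul_inv_eq_iff_eq_mul.1 ?_)⟩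
      rcases f'.mem_four.1 (e ▸ conj_mem_of_norm (eV ▸ norm_inf (le_norm T) TN hx) h1) with e2 | e2 | e2 | e2
      · exact (f'.ne_one' (by simpa using e2)).elim
      · exact (f'.ne (by simpa using (conj_cc xc).trans e2.symm)).elim
      · exact e2
      have e3 := conj_mem_of_norm (H.norm_Kx u0 xc) hk
      refine (H.tK i0 ?_).elim
      rcases (mem_zp2 i0.sq).1 hz with rfl | rfl
      · rw [mul_one] at e1
        exact (Subgroup.mul_mem_cancel_right _ hk).1 (by rwa [e1, e2, ← e1] at e3)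
      · obtain rfl : k = z * u1 := by rw [f'.comm, ← e1, mul_assoc, f'.sq, mul_one]
        rw [show x * (z * u1) * x⁻¹ = x * z * x⁻¹ * (x * u1 * x⁻¹) by group, conj_cc xc, e2, f'.mul_mul_left] at e3
        exact (Subgroup.mul_mem_cancel_right _ e3).1 hk
    have tu : t ≠ u := fun e => H.tK ht (e ▸ hu)
    obtain ⟨k1, m1, z1, c1, e1, -⟩ := H.dec3 α ht (cc' cent_Kx hu) (nc α ht (cc' cent_Kx hu) tu)
    obtain ⟨k2, m2, z2, c2, e2, -⟩ := H.dec3 α (ip v f.right_mem f.ne_one') (mem_cent1.2 f.comm.symm)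
      (nc α (ip v f.right_mem f.ne_one') (mem_cent1.2 f.comm.symm) f.ne.symm)
    have zV := zpowers_le.2 f.left_mem
    have hw : z1⁻¹ * (v * z2⁻¹) ∈ f.four := mul_mem (inv_mem (zV c1)) (mul_mem f.right_mem (inv_mem (zV c2)))
    have e3 : k1 * k2 = t * (z1⁻¹ * (v * z2⁻¹)) := by rw [← e1, ← e2]; group
    have w1 : z1⁻¹ * (v * z2⁻¹) ≠ 1 := fun e => by
      have : v ∈ zpowers u := (Subgroup.mul_mem_cancel_right _ (inv_mem c2)).1
        ((Subgroup.mul_mem_cancel_left _ (inv_mem c1)).1 (e ▸ one_mem _))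
      exact ((mem_zp2 f.sq).1 this).elim f.ne_one' f.ne.symm
    have i3 : Ip U (k1 * k2) := H.conj_inv α ht hu f.orderOf_eq (mul_mem m1 m2) (e3 ▸ ord2
      (sq_mul ht.sq (f.mul_self_of_mem hw) (cc tc hw)) fun e => H.tK ht (eq_of_mul1 ht.sq e ▸ hV hw)) α
    have := H.simple
    refine H.not_j1 (j1_of_cls ht.ord hT (fun x hx x1 => ?_) ?_ H.five)
    · refine (fun h => (H.one_class h ht)) ?_
      rcases cen x hx (TC hx) with e | e
      · exact ip x e x1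
      by_cases e1 : t * x = 1
      · exact eq_of_mul1 ht.sq e1 ▸ ht
      have := H.conj_mul ht (hV hw) (o4 _ hw w1) (hV e) (o4 _ e e1) (e3 ▸ i3)
      rwa [← mul_assoc, ht.sq, one_mul] at this
    · have e := (SD.of_norm (zpowers_le.2 (cent_le_norm _ (cent_Kx (U := U) (x := t)))) (eq_bot_iff.2 fun x hx =>
        ((mem_zp2 ht.sq).1 hx.2).resolve_right fun e => H.tK ht (e ▸ hx.1))).card
      refine Dvd.dvd.trans ?_ (card_dvd (sup_le (span_le (U := U)) (zpowers_le.2 (self_mem_cent1 t))))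
      rw [← e, hK.card, Nat.card_zpowers, ht.ord]
      norm_num
  have na : ∀ {s y : G}, Ip U s → y ∈ Kx U s → ¬ Ip U y := fun hs hy h =>
    α (H.conj_inv ht hs hy h.ord hu f.orderOf_eq h)
  have dec4 : ∀ {t s : G}, Ip U t → Ip U s → s ∈ 𝐂[t] → s ≠ t → ∃ u ∈ Kx U t, t * u = s ∧ orderOf u = 2 := by
    intro t s ht hs h1 h2
    obtain ⟨k, hk, z, hz, rfl, o⟩ := H.dec3 ht hs h1 (nc ht hs h1 h2)
    rcases (mem_zp2 ht.sq).1 hz with rfl | rfl
    · exact (na ht hk (by rwa [mul_one] at hs)).elim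
    · exact ⟨k, hk, (mem_cent1.1 (span_le hk)).symm, o⟩
  have ipt : ∀ y ∈ Kx U t, orderOf y = 2 → Ip U (t * y) := fun y hy o => by
    obtain ⟨g, h1, h2⟩ := H.exs ht
    obtain ⟨k, hk, e, o'⟩ := dec4 ht (ht.conj H.toGeo g) h1 fun e => h2 (by rw [e]; exact cent_Kx)
    exact H.conj_mul ht hk o' hy o (e ▸ ht.conj H.toGeo g)
  obtain ⟨r, hr, r1, r2⟩ := F.rho u hu v hv f
  obtain ⟨P, hP, tP⟩ := Syl.exists_ge (pg_inv ht.sq) (zpowers_le.2 (show t ∈ stabilizer G a from H.cfix (mem_Kx.1 ha)))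
  refine TL.false ⟨ht.ord, hT, lV, fun x hx => ⟨?_, fun e => ?_⟩, span_le hr, r1, r2, cen⟩ fun S => H.h8 ?_ ?_ hP ?_ hT
  · rintro ⟨g, rfl⟩
    by_cases e : g * t * g⁻¹ = t
    · rw [e, ht.sq]; exact one_mem _
    obtain ⟨k, hk, e, -⟩ := dec4 ht (ht.conj H.toGeo g) (hT.le hx) e
    rw [← e] at hx ⊢
    rw [← mul_assoc, ht.sq, one_mul, eV]
    exact ⟨(T.mul_mem_cancel_left tT).1 hx, hk⟩
  · by_cases e1 : t * x = 1
    · exact ⟨1, by simp [eq_of_mul1 ht.sq e1]⟩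
    have := ipt _ (hV e) (o4 _ e e1)
    rw [← mul_assoc, ht.sq, one_mul] at this
    exact H.one_class this ht
  · have := dcount (A := (pts U (Kx U t))ᶜ) (B := {x | x ∈ Kx U t ∧ orderOf x = 2}) (fun c y => t * y ∈ 𝐂(U c))
      (m := 1) (n := 12) (fun c hc => ?_) fun y hy => ?_
    · rw [F.ninv] at this
      rw [← Set.ncard_add_ncard_compl (pts U (Kx U t)), (H.card1 hK ha).1]
      omega
    · obtain ⟨hL, k, hk, z, hz, e, o, z2⟩ := H.dec_out ht hc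
      have z1 : z ≠ 1 := by
        rintro rfl
        obtain rfl : k = t := by rwa [mul_one] at e
        obtain ⟨s, hs, f'⟩ := (H.f11 hL left_pt).four k hk o
        have ip : ∀ y ∈ U c ⊔ U (k • c), orderOf y = 2 → Ip U y := fun y hy o' => by
          obtain ⟨g, -, rfl⟩ := (H.f11 hL left_pt).one k hk y hy o o'
          exact ht.conj H.toGeo g
        obtain ⟨y, hy, rfl, -⟩ := dec4 ht (ip s hs f'.orderOf_eq') (mem_cent1.2 f'.comm.symm) f'.ne.symm
        have := ip _ (mul_mem hk hs) f'.mul_right.orderOf_eq'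
        rw [← mul_assoc, ht.sq, one_mul] at this
        exact na ht hy this
      have iz : Ip U z := ⟨ord2 z2 z1, c, cent_anti le_sup_left hz⟩
      obtain ⟨y, hy, e1, o1⟩ := dec4 ht iz (e ▸ cmul (cc' hz hk) (self_mem_cent1 z)) fun e' =>
        ne2 o (by rwa [← e', mul_eq_right] at e)
      refine Set.ncard_eq_one.2 ⟨y, Set.eq_singleton_iff_unique_mem.2 ⟨⟨⟨hy, o1⟩, e1 ▸ cent_anti le_sup_left hz⟩, ?_⟩⟩
      rintro y' ⟨⟨h1, h2⟩, h3⟩
      have i' := ipt y' h1 h2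
      have c' : t ∈ 𝐂[t * y'] := cmul (self_mem_cent1 t) (cc' cent_Kx h1)
      obtain ⟨k', hk', e', -⟩ := dec4 i' ht c' fun e => ne2 h2 (by simpa using e)
      have eL : Kx U (t * y') = U c ⊔ U (t • c) := (H.pair_eq (H.t1K i') (mem_Kx.2 h3)
        (mem_Kx.2 (H.cent_smul' h3 c')) fun e => hc (mem_Kx.2 (H.a2' (mem_Kx.1 ha) e.symm))).symm
      refine mul_left_cancel (a := t) (e1.symm ▸ (Blk.uniq (.inl hL) (eL ▸ hk') (eL ▸ cent_Kx) hk hz ?_).2)
      rw [e, mem_cent1.1 (span_le hk'), e']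
    · have i := ipt y hy.1 hy.2
      obtain ⟨b, hb⟩ := i.pt
      rw [← (H.card1 (H.t1K i) hb).1]
      congr 1
      ext c
      exact ⟨fun e => mem_Kx.2 e.2, fun e => ⟨fun e' => H.nc (.inl hK) e' hy.1 hy.2 (by norm_num)
        ((Subgroup.mul_mem_cancel_left _ (mem_Kx.1 e')).1 (mem_Kx.1 e)), mem_Kx.1 e⟩⟩
  · rw [← (H.card1 hK ha).1]
    congr 1
    ext c
    exact mem_orb.trans ⟨by rintro ⟨g, hg, rfl⟩; exact H.smul_mem (H.norm_Kx t hg) ha, fun e =>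
      let ⟨k, hk, e⟩ := H.trans (.inl hK) ha e; ⟨k, span_le hk, e⟩⟩
  · intro g hg
    refine norm_zp2 ht.ord ?_
    rw [(H.sylU ht (mem_Kx.1 ha)).eq_of_le_pgroup (le_inf tP (zpowers_le.2 (mem_Kx.1 ha))) inf_le_right
      (pgroup_of_le hP.pgroup inf_le_left)]
    exact norm_inf (le_norm P) (norm_cent (hP.le.trans (H.stab a).le)) hg

theorem oddC (a : Ω) : Odd (Nat.card 𝐂(U a)) := by
  by_contra e
  obtain ⟨t, ht, o⟩ := exists_ord Nat.prime_two (Nat.not_odd_iff_even.1 e).two_dvd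
  exact H.no_ip ⟨o, a, ht⟩

end Core

end Cfsg.Lib.E11
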