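import Cfsg.Agent.Lib.E11.I

/-! The fixed points of a Sylow 2-subgroup of a point stabiliser. -/

set_option autoImplicit false
set_option linter.unusedSectionVars false

namespace Cfsg.Lib.E11

open Cfsg Subgroup MulAction Cfsg.Lib.Transfer Cfsg.Lib.BG Cfsg.Lib.Small Cfsg.Lib.Perm Cfsg.Lib.FGS

variable {G Ω : Type*} [Group G] [Finite G] {A B C E K L M P Q S T V : Subgroup G} {g h k n r s t u v w x y z τ : G} {p : ℕ}

theorem norm_zp (h2 : t * t = 1) (hg : g ∈ 𝐍(zpowers t)) : g ∈ 𝐂[t] := by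
  by_cases e : t = 1
  · simp [e, mem_cent1]
  · exact norm_zp2 (ord2 h2 e) hg

theorem eq_one_of_odd (ho : Odd (Nat.card K)) (hx : x ∈ K) {n : ℕ} (hn : x ^ 2 ^ n = 1) : x = 1 :=
  orderOf_eq_one_iff.1 (Nat.eq_one_of_dvd_coprimes (Nat.Coprime.pow_right n (Nat.coprime_two_right.2 ho)) (ord_dvd hx)
    (orderOf_dvd_of_pow_eq_one hn))

theorem FJ.sq (f : FJ K) (hx : x ∈ K) {n : ℕ} (hn : x ^ 2 ^ n = 1) : x * x = 1 := by
  obtain ⟨j, -, e⟩ := (Nat.dvd_prime_pow Nat.prime_two).1 (orderOf_dvd_of_pow_eq_one hn)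
  rw [← pow_two, ← orderOf_dvd_iff_pow_eq_one, e]
  rcases j with _ | _ | j
  · norm_num
  · norm_num
  · exact (f.n4 hx ⟨2 ^ j, by rw [e]; ring⟩).elim

theorem se [Fact p.Prime] (hs : Group.IsSolvable C) (hB : B ≤ C) (hE : Elem p 2 E C)
    (h1 : ∀ e ∈ E, e ≠ 1 → C ⊓ 𝐂[e] ≤ B) (h2 : ∀ P ≤ B, IsPGroup p P → C ≤ 𝐂(P) ∨ C ⊓ 𝐍(P) ≤ B) : C ≤ B := by
  obtain ⟨e, he, e1⟩ := exists_ne_one (hE.ne_bot two_ne_zero)
  obtain ⟨S, hS, l⟩ := Syl.exists_ge hE.pgroup ((le_inf hE.le (hE.cent.trans (cent_le_cent1 he))).trans (h1 e he e1))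
  rcases h2 S hS.le hS.pgroup with h | h
  · exact (le_inf le_rfl (h.trans (cent_le_cent1 (l he)))).trans (h1 e he e1)
  have hT : Syl p _ _ := (hS.of_norm_le hB h).inf_nml (O2_nml p C)
  have h3 : O2 p C ≤ B := by
    rw [← O2_eq_sup hT]
    refine sup_le (coprime_abelian_gen_cent1 hE.abelian (hE.not_cyclic le_rfl) (hE.le.trans (Nml.pcore (Nml.refl C) _).norm)
      (PiGrp.coprime_pgroup (pcore_pi _ _) hE.pgroup).symm fun x hx x1 =>
        (inf_le_inf_right _ (pcore_le _ _)).trans (h1 x hx x1)) (inf_le_left.trans hS.le)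
  rcases h2 _ (inf_le_left.trans hS.le) hT.pgroup with h | h
  · exact (le_inf le_rfl h).trans ((solvable_p_constrained hs hT).trans h3)
  · exact (hT.frattini (O2_nml p C)).ge.trans (sup_le h3 h)

theorem abT [Fact p.Prime] (hQ : Syl p Q M) (ha : IsMulCommutative Q) (hy : y ∈ Q) (h : M ⊓ 𝐍(Q) ≤ 𝐂[y])
    (hd : y ∈ ⁅M, M⁆) : y = 1 :=
  mem_bot.1 ((abelian_sylowIn_decomposition hQ.pgroup (le_inf hQ.le (le_norm Q)) inf_le_right
    hQ.to_norm.not_dvd').2 ▸ (⟨abelian_Sylow_der1 hQ ha ▸ ⟨hy, hd⟩, le_cent1_iff.1 h⟩ : y ∈ ⁅Q, M ⊓ 𝐍(Q)⁆ ⊓ 𝐂(M ⊓ 𝐍(Q))))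

theorem ord5 (h5 : y ^ 5 = 1) (h1 : y ≠ 1) : orderOf y = 5 := have := Fact.mk Nat.prime_five; orderOf_eq_prime h5 h1

theorem odd5 (h : orderOf y = 5) : Odd (orderOf y) := by rw [h]; decide

variable [MulAction G Ω] [Finite Ω] {U : Ω → Subgroup G} {a b c d : Ω} {X : Set Ω}

/-- `τ` generates a Sylow 2-subgroup of the stabilisers of its fixed points. -/
structure Tau (U : Ω → Subgroup G) (τ : G) : Prop extends Core U where
  sq : τ * τ = 1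
  syl : ∀ {c : Ω}, τ • c = c → Syl 2 (zpowers τ) (stabilizer G c)
  ex : ∃ c : Ω, τ • c = c

namespace Core
variable (H : Core U)
include H

theorem zsq (hz : z ∈ 𝐂(U a)) {n : ℕ} (hn : z ^ 2 ^ n = 1) : z = 1 := eq_one_of_odd (H.oddC a) hz hn

theorem zsq' (hz : z ∈ 𝐂(U a)) (hn : z * z = 1) : z = 1 := H.zsq hz (n := 1) (by rw [pow_one, pow_two, hn])

theorem exists_tau : ∃ τ, Tau U τ := by
  obtain ⟨a, -⟩ := H.ex2
  obtain ⟨P, hP⟩ := Syl.exists (p := 2) (stabilizer G a)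
  have h1 := relIndex_cent_dvd p11 (H.card a) (hP.le.trans (H.stab a).le)
  have h2 := BG.card_mul_relIndex (inf_le_right (a := 𝐂(U a)) (b := P))
  rw [inf_relIndex_right, show 𝐂(U a) ⊓ P = ⊥ from eq_bot_iff.2 fun x hx =>
    let ⟨_, e⟩ := pg_elt hP.pgroup hx.2; H.zsq hx.1 e, card_bot, one_mul] at h2
  obtain ⟨τ, rfl, sq⟩ : ∃ τ, zpowers τ = P ∧ τ * τ = 1 := by
    obtain ⟨k, hk⟩ := hP.pgroup.exists_card_eq
    rw [h2, hk] at h1
    rcases k with _ | _ | k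
    · exact ⟨1, by rw [zpowers_one_eq_bot, eq_comm, ← card_eq_one, hk, pow_zero], mul_one 1⟩
    · obtain ⟨τ, hτ, o⟩ := exists_ord Nat.prime_two (K := P) (by rw [hk]; norm_num)
      exact ⟨τ, zpowers_eq_of_prime (by rw [hk]; norm_num) hτ (ne2 o), sq2 o⟩
    · have := (Dvd.intro_left (2 ^ k) (by ring) : 4 ∣ 2 ^ (k + 1 + 1)).trans h1
      omega
  refine ⟨τ, H, sq, fun {c} hc => ?_, a, hP.le (mem_zpowers τ)⟩
  obtain ⟨g, rfl⟩ := H.trans_all a c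
  have : Syl 2 (g ⋆ zpowers τ) (stabilizer G (g • a)) := by
    rw [H.stab, H.eqv, ← conj_normalizer, ← H.stab]; exact hP.conj g
  exact this.of_card_le' hP.pgroup (zpowers_le.2 hc) (card_conj ..).le

theorem inK2 (hK : Spor.IsoJ1 K) (ha : a ∈ pts U K) (hx : x ∈ 𝐍(K)) {n : ℕ} (hn : x ^ 2 ^ n = 1) : x ∈ K := by
  obtain ⟨k, hk, z, hz, rfl⟩ := (fj hK).inner x hx
  rwa [H.zsq (cent_anti ha hz) (Blk.pow_part (.inr hK) hk hz hn).2, mul_one]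

end Core

theorem Geo.card10 (H : Geo U) (hK : Spor.IsoJ1 K) (ha : a ∈ pts U K) (ht : t ∈ K) (o : orderOf t = 2)
    (h1 : t • a = a) : Nat.card ↥(K ⊓ stabilizer G a ⊓ 𝐂[t]) = 10 := by
  have e1 := ncard_hcl_mul (K ⊓ stabilizer G a) t
  have e2 : (hcl (K ⊓ stabilizer G a) t).ncard ≤ 11 := by
    rw [← H.card a, ← ncard_cs t⁻¹]
    refine Set.ncard_le_ncard ?_
    rintro _ ⟨g, hg, rfl⟩
    refine H.cK (.inr hK) ha (mul_mem (inv_mem ht) (mul_mem (mul_mem hg.1 ht) (inv_mem hg.1))) ?_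
    simpa only [mul_assoc, inv_inv, mul_inv_rev] using
      inv_mem (comm_mem_cent p11 (H.card a) (H.nrm hg.2) (inv_mem (H.nrm h1)))
  have e3 := relIndex_cent_dvd p11 (H.card a) (inf_le_left.trans (inf_le_right.trans (H.stab a).le) :
    K ⊓ stabilizer G a ⊓ 𝐂[t] ≤ _)
  have e4 := BG.card_mul_relIndex (inf_le_right (a := 𝐂(U a)) (b := K ⊓ stabilizer G a ⊓ 𝐂[t]))
  rw [inf_relIndex_right, show 𝐂(U a) ⊓ (K ⊓ stabilizer G a ⊓ 𝐂[t]) = ⊥ from eq_bot_iff.2 fun x hx => by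
    by_contra x1
    refine H.nc (.inr hK) ha ht o (by norm_num) ?_
    rw [← cent1_eq_of_prime (H.card a ▸ p11) (H.cK (.inr hK) ha hx.2.1.1 hx.1) x1]
    exact mem_cent1_symm hx.2.2, card_bot, one_mul] at e4
  rw [e4] at e3
  rw [(H.card2 hK ha).2] at e1
  have := Nat.le_of_dvd (by norm_num) e3
  nlinarith

theorem Geo.comm2 (H : Geo U) (hK : Blk K) (ha : a ∈ pts U K) (hab : a ≠ b) (ht : t ∈ 𝐍(K)) (t1 : t • a = a)
    (t2 : t • b = b) (hh : h ∈ K) (h1 : h • a = a) (h2 : h • b = b) : h ∈ 𝐂[t] := by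
  have := H.cK hK ha (mul_mem (conj_mem_of_norm ht hh) (inv_mem hh)) (comm_mem_cent p11 (H.card a) (H.nrm t1) (H.nrm h1))
  by_contra e
  exact hab (H.semi this (fun e' => e (mem_cent1.2 (mul_inv_eq_iff_eq_mul.1 (mul_inv_eq_one.1 e')).symm))
    (mul_fix (mul_fix (mul_fix t2 h2) (inv_fix t2)) (inv_fix h2)))

namespace Tau
variable (H : Tau U τ)
include H

theorem conj_tau (o : orderOf s = 2) (hs : s • c = c) : ∃ g, g * s * g⁻¹ = τ := by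
  obtain ⟨a, ha⟩ := H.ex
  obtain ⟨g, rfl⟩ := H.trans_all c a
  have o' := (oconj g s).trans o
  obtain ⟨k, -, e⟩ := (H.syl ha).exists_conj_le (pg_inv (sq2 o')) (zpowers_le.2 (conj_fix hs g))
  rcases (mem_zp2 H.sq).1 (e (conj_mem_conj.2 (mem_zpowers _))) with e | e
  · exact (ne2 o (by simpa using e)).elim
  · exact ⟨k * g, by rw [← e]; group⟩

theorem ord (o : orderOf s = 2) (hs : s • c = c) : orderOf τ = 2 := by
  obtain ⟨g, rfl⟩ := H.conj_tau o hs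
  exact (oconj ..).trans o

theorem transF (ha : τ • a = a) (hb : τ • b = b) : ∃ x ∈ 𝐂[τ], x • a = b := by
  obtain ⟨g, rfl⟩ := H.trans_all a b
  have : Syl 2 (g ⋆ zpowers τ) (stabilizer G (g • a)) := by
    rw [H.stab, H.eqv, ← conj_normalizer, ← H.stab]; exact (H.syl ha).conj g
  obtain ⟨m, hm, e⟩ := this.exists_conj_eq (H.syl hb)
  exact ⟨m * g, norm_zp H.sq (norm_of_conj_eq (by rw [← conj_conj, ← e])), by rw [mul_smul]; exact hm⟩

theorem tau2 (hK : Spor.IsoJ1 K) (ha : a ∈ pts U K) (hn : τ ∈ 𝐍(K)) : τ ∈ K ∧ orderOf τ = 2 := by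
  obtain ⟨s, hs, o⟩ := exists_ord Nat.prime_two (K := K ⊓ stabilizer G a) (by rw [(H.card2 hK ha).2]; norm_num)
  exact ⟨H.inK2 hK ha hn (n := 1) (by rw [pow_one, pow_two, H.sq]), H.ord o hs.2⟩

theorem nKC (hK : Blk K) (ha : a ∈ pts U K) (h1 : τ • a = a) (hn : τ ∈ 𝐍(K)) (hg : g ∈ 𝐍(K)) :
    g ∈ K ⊔ 𝐂(K) ∨ τ * g ∈ K ⊔ 𝐂(K) := by
  rcases hK with hK | hK
  · by_cases e : τ ∈ K ⊔ 𝐂(K)
    · obtain ⟨k, hk, z, hz, rfl⟩ := mem_KC.1 e
      have := Blk.sq_part (.inl hK) hk hz H.sq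
      rw [mul_smul, H.czfix hz ha] at h1
      have e1 : k * z = 1 := by rw [H.fpf' hK ha hk this.1 h1, H.zsq' (cent_anti ha hz) this.2, mul_one]
      obtain ⟨m, hm, e2⟩ := H.trans (.inl hK) (H.smul_mem hg ha) ha
      have h3 := (H.syl (c := a) (by rw [e1, one_smul])).not_dvd'
      rw [e1, zpowers_one_eq_bot, relIndex_bot_left] at h3
      exact .inl ((Subgroup.mul_mem_cancel_left _ (mem_sup_left hm)).1 (H.odd_KC (.inl hK) ha (mul_mem (le_norm K hm) hg)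
        (Nat.odd_iff.2 (by
          have := mt (fun e => Dvd.dvd.trans e (ord_dvd (show m * g ∈ stabilizer G a from (mul_smul ..).trans e2))) h3
          omega))))
    · exact or_iff_not_imp_left.2 (H.idx2 hK ha hn hg e)
  · obtain ⟨k, hk, z, hz, rfl⟩ := (fj hK).inner g hg
    exact .inl (mul_mem_sup hk hz)

theorem ex0 (hK : Blk K) (hn : τ ∈ 𝐍(K)) (ha : a ∈ pts U K) (hb : b ∈ pts U K) (hab : a ≠ b) (h1 : τ • a = a)
    (h2 : τ • b = b) : ∃ h ∈ K, orderOf h = 5 ∧ h ∈ 𝐂[τ] ∧ h • a = a ∧ (T1 K → h • b = b) := by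
  rcases hK with hK | hK
  · obtain ⟨h, hh, o, e1, e2⟩ := H.ex5 hK ha hb hab
    exact ⟨h, hh, o, H.comm2 (.inl hK) ha hab hn h1 h2 hh e1 e2, e1, fun _ => e2⟩
  · obtain ⟨h, hh, o⟩ := exists_ord Nat.prime_five (K := K ⊓ stabilizer G a ⊓ 𝐂[τ])
      (by rw [H.card10 hK ha (H.tau2 hK ha hn).1 (H.tau2 hK ha hn).2 h1]; norm_num)
    exact ⟨h, hh.1.1, o, hh.2, hh.1.2, fun e => (e.not_j1 hK).elim⟩

theorem ex1 (hK : Blk K) (hn : τ ∈ 𝐍(K)) (ha : a ∈ pts U K) (h1 : τ • a = a) (hh : h ∈ K) (o : orderOf h = 5)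
    (hc : h ∈ 𝐂[τ]) (h2 : h • a = a) : ∃ b ∈ pts U K, a ≠ b ∧ τ • b = b ∧ h • b = b := by
  have nc := H.nc hK ha hh o (by norm_num)
  rcases hK with hK | hK
  · have := fix_modEq Nat.prime_five (S := K) (X := pts U K) (fun _ hg _ hx => H.smul_mem' hg hx) hh (n := 1)
      fun x _ => by rw [pow_one, o1 o, one_smul]
    rw [(H.card1 hK ha).1] at this
    obtain ⟨b, hb, e⟩ := Set.exists_ne_of_one_lt_ncard (s := {x ∈ pts U K | h • x = x}) (by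
      unfold Nat.ModEq at this; omega) a
    refine ⟨b, hb.1, e.symm, ?_, hb.2⟩
    rcases (H.fix2 hK ha hb.1 e.symm h2 hb.2 fun e => nc (cent_anti ha e)).le
      ⟨H.smul_mem hn hb.1, fix_of_comm (mem_cent1_symm hc) hb.2⟩ with e' | e'
    · exact (e (smul_left_cancel τ (e'.trans h1.symm))).elim
    · exact e'
  · obtain ⟨s, hs, c, e⟩ := ((fj hK).inv5 τ (H.tau2 hK ha hn).1 (H.tau2 hK ha hn).2 h hh o hc).1
    refine ⟨s • a, H.smul_mem' hs ha, fun e' => nc (H.not_inv e'.symm h2 e (o1 o)), fix_of_comm c h1, ?_⟩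
    have := inv_fix (conj_fix h2 s)
    rwa [e, inv_inv] at this

theorem arc (hK : Blk K) (hn : τ ∈ 𝐍(K)) (ha : a ∈ pts U K) (hb : b ∈ pts U K) (hab : a ≠ b) (h1 : τ • a = a)
    (h2 : τ • b = b) (hh : h ∈ K) (o : orderOf h = 5) (hc : h ∈ 𝐂[τ]) (h3 : h • a = a) (h4 : h • b = b) :
    ∃ n ∈ K, n • a = b ∧ n * h * n⁻¹ = h⁻¹ := by
  rcases hK with hK | hK
  · obtain ⟨s, hs, e1, e2⟩ := H.ex_swap hK ha hb hab
    exact ⟨s, hs, e1, (H.swap1 hK ha hb hab hs e1 e2).2 h hh h3 h4⟩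
  obtain ⟨tK, ot⟩ := H.tau2 hK ha hn
  have := Fact.mk Nat.prime_five
  obtain ⟨k, hk, rfl⟩ := H.trans (.inr hK) ha hb
  have s2 : Syl 2 (zpowers τ) (K ⊓ stabilizer G (k • a)) :=
    (H.syl h2).of_le (zpowers_le.2 ⟨tK, h2⟩) inf_le_right
  obtain ⟨m, hm, e⟩ := s2.exists_conj_le (pg_inv (sq2 ((oconj k τ).trans ot)))
    (zpowers_le.2 ⟨K.mul_mem (K.mul_mem hk tK) (K.inv_mem hk), conj_fix h1 k⟩)
  have c1 : m * k ∈ 𝐂[τ] := norm_zp H.sq (mem_normalizer_of_conj_le (by rwa [← conj_conj, conj_zpowers k]))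
  have n1 := mul_mem hm.1 hk
  have n2 : (m * k) • a = k • a := (mul_smul ..).trans hm.2
  generalize m * k = n at *
  have hH : zpowers h ≤ K ⊓ stabilizer G (k • a) ⊓ 𝐂[τ] := zpowers_le.2 ⟨⟨hh, h4⟩, hc⟩
  have c5 := (Nat.card_zpowers h).trans o
  have c10 := H.card10 hK hb tK ot h2
  have s5 : Syl 5 (zpowers h) (K ⊓ stabilizer G (k • a) ⊓ 𝐂[τ]) := Syl.mk' hH (IsPGroup.of_card (n := 1) c5) (by
    have := BG.card_mul_relIndex hH
    rw [c5, c10] at this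
    omega)
  have n3 : n ∈ 𝐍(zpowers h) := mem_normalizer_of_conj_le (s5.ge_of_normal (norm_of_half hH (by omega))
    (by
      rw [conj_zpowers, zpowers_le]
      exact ⟨⟨K.mul_mem (K.mul_mem n1 hh) (K.inv_mem n1), n2 ▸ conj_fix h3 n⟩,
        𝐂[τ].mul_mem (𝐂[τ].mul_mem c1 hc) (𝐂[τ].inv_mem c1)⟩)
    (PiGrp.of_card_prime (by rw [card_conj, c5]; norm_num) (by rw [card_conj, c5]; rfl)))
  refine ⟨n, n1, n2, inv_of_sq Nat.prime_five c5 n3 ?_ (fun e => hab ?_) (mem_zpowers h)⟩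
  · obtain ⟨j, hj⟩ : ∃ j, Odd j ∧ (n * n) ^ j = 1 := by
      have := (fj hK).n4 n1
      refine ⟨orderOf (n * n), Nat.not_even_iff_odd.1 fun e => this ?_, pow_orderOf_eq_one _⟩
      rw [← pow_two, orderOf_pow' _ two_ne_zero] at e
      rcases (Nat.dvd_prime Nat.prime_two).1 (Nat.gcd_dvd_right (orderOf n) 2) with e' | e'
      · rw [e', Nat.div_one] at e
        have := Nat.dvd_gcd e.two_dvd (dvd_refl 2)
        omega
      · have := Nat.gcd_dvd_left (orderOf n) 2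
        rw [e'] at e this
        rw [Nat.even_iff] at e
        omega
    exact cent_of_coprime Nat.prime_five c5 (mul_mem n3 n3) (hj.2 ▸ one_mem _)
      (Nat.Coprime.pow_right 2 (Nat.coprime_two_right.2 hj.1))
  · obtain ⟨i, e | e⟩ := ((fj hK).inv5 τ tK ot h hh o hc).2 n n1 c1 (cent_zpowers h ▸ e)
    · rw [← n2, e, pow_fix h3]
    · rw [← n2, e, mul_fix h1 (pow_fix h3 i)]

theorem split5 (hK : Blk K) (hn : τ ∈ 𝐍(K)) (ha : a ∈ pts U K) (hh : h ∈ 𝐍(K)) (o : orderOf h = 5) (hc : h ∈ 𝐂[τ]) :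
    ∃ k ∈ K, ∃ y ∈ 𝐂(K), k * y = h ∧ k ^ 5 = 1 ∧ y ^ 5 = 1 ∧ k ∈ 𝐂[τ] ∧ y ∈ 𝐂[τ] := by
  obtain ⟨k, hk, y, hy, rfl⟩ := mem_KC.1 (H.odd_KC hK ha hh (odd5 o))
  have e1 := hK.pow_part hk hy (o1 o)
  have e2 := hK.comm_part hk hy hn (mem_cent1_symm hc)
  exact ⟨k, hk, y, hy, rfl, e1.1, e1.2, mem_cent1_symm e2.1, mem_cent1_symm e2.2⟩

theorem f2 (o : orderOf τ = 2) (hab : a ≠ b) (h : {c | τ • c = c} = {a, b}) : False := by
  have h1 : τ • a = a := h.ge (.inl rfl)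
  have h2 : τ • b = b := h.ge (.inr rfl)
  have e1 := sgn_mod (X := (Set.univ : Set Ω)) H.perf (fun _ _ _ _ => trivial) trivial H.sq
  rw [Set.sep_univ, h, Set.ncard_pair hab, Set.ncard_univ] at e1
  have e2 := H.card_G a
  have e3 := (H.syl h1).not_dvd'
  rw [← BG.card_mul_relIndex (H.syl h1).le, Nat.card_zpowers, o] at e2
  have e4 : 8 ∣ Nat.card (⊤ : Subgroup G) := by
    rcases H.blk hab with hL | hL
    · have e := (SD.of_norm (zpowers_le.2 (H.norm_pair h1 h2)) (eq_bot_iff.2 fun x hx =>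
        ((mem_zp2 H.sq).1 hx.2).resolve_right fun e => H.fpf hL left_pt (e ▸ hx.1) o h1)).card
      refine Dvd.dvd.trans ?_ (card_dvd (le_top (a := U a ⊔ U b ⊔ zpowers τ)))
      rw [← e, hL.card, Nat.card_zpowers, o]
      norm_num
    · exact Dvd.dvd.trans (by rw [(fj hL).card]; norm_num) (card_dvd (le_top (a := U a ⊔ U b)))
  obtain ⟨m, hm⟩ : ∃ m, Nat.card Ω = 2 * (2 * m + 1) := ⟨Nat.card Ω / 4, by omega⟩
  rw [← e2, hm, show ∀ j, 2 * (2 * m + 1) * (2 * j) = 4 * ((2 * m + 1) * j) from fun j => by ring] at e4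
  exact Nat.prime_two.not_dvd_mul (m := 2 * m + 1) (by omega) e3 (Nat.dvd_of_mul_dvd_mul_left (by norm_num : 0 < 4) e4)

theorem j1_of (hL : Spor.IsoJ1 L) (ht : τ ∈ L) (o : orderOf τ = 2)
    (h : ∀ x ∈ 𝐂[τ], ∀ n, x ^ 2 ^ n = 1 → x ≠ 1 → ∃ g, g * τ * g⁻¹ = x) : False := by
  obtain ⟨T, hT⟩ := Syl.exists (p := 2) 𝐂[τ]
  have := H.simple
  exact H.not_j1 (j1_of_cls o hT (fun x hx => let ⟨n, e⟩ := pg_elt hT.pgroup hx; h x (hT.le hx) n e)
    (Dvd.dvd.trans (by rw [(fj hL).c120 τ ht o]; norm_num) (card_dvd (inf_le_right (a := L)))) H.five)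

end Tau

end Cfsg.Lib.E11
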