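import Cfsg.Agent.Lib.E11.J

/-! No element of order 5 of `C(τ)` centralises two fixed points of `τ`. -/

set_option autoImplicit false
set_option linter.unusedSectionVars false

namespace Cfsg.Lib.E11

open Cfsg Subgroup MulAction Cfsg.Lib.Transfer Cfsg.Lib.BG Cfsg.Lib.Small Cfsg.Lib.Perm Cfsg.Lib.FGS

variable {G Ω : Type*} [Group G] [Finite G] {A B C E K L M P Q S T V : Subgroup G} {g h k n r s t u v w x y z τ : G} {p : ℕ}

theorem ne5 (h : orderOf y = 5) : y ≠ 1 := fun e => by simp [e] at h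

theorem exists_ord_p [hp : Fact p.Prime] (hP : IsPGroup p P) (h : P ≠ ⊥) : ∃ x ∈ P, orderOf x = p :=
  exists_ord hp.out (pgroup_dvd_card hP h)

theorem norm_cent1 (hg : g ∈ 𝐍(zpowers y)) : g ∈ 𝐍(𝐂[y]) := cent_zpowers y ▸ norm_cent le_rfl hg

variable [MulAction G Ω] [Finite Ω] {U : Ω → Subgroup G} {a b c d : Ω} {X : Set Ω}

/-- A maximal block centralised by an element of order 5. -/
structure K5 (U : Ω → Subgroup G) (τ y : G) (a b : Ω) : Prop extends Tau U τ where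
  oy : orderOf y = 5
  yc : y ∈ 𝐂[τ]
  ab : a ≠ b
  ta : τ • a = a
  tb : τ • b = b
  ya : a ∈ pts U (Kx U y)
  yb : b ∈ pts U (Kx U y)
  max : ∀ z, orderOf z = 5 → z ∈ 𝐂(Kx U y) → Kx U y = Kx U z

theorem Tau.exK5 (H : Tau U τ) (o : orderOf y = 5) (hc : y ∈ 𝐂[τ]) (hab : a ≠ b) (h1 : τ • a = a) (h2 : τ • b = b)
    (h3 : y ∈ 𝐂(U a)) (h4 : y • b = b) : ∃ (y : G) (a b : Ω), K5 U τ y a b := by
  by_cases e : ∃ z c, orderOf z = 5 ∧ c ∈ pts U (Kx U z) ∧ Spor.IsoJ1 (Kx U z)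
  · clear hc
    obtain ⟨z, c, o, hc, hL⟩ := e
    obtain ⟨s, hs, o'⟩ := exists_ord Nat.prime_two (K := Kx U z ⊓ stabilizer G c) (by rw [(H.card2 hL hc).2]; norm_num)
    obtain ⟨g, rfl⟩ := H.conj_tau o' (c := c) hs.2
    have hL' := H.conj_Kx g z ▸ j1_conj hL g
    have hc' := H.conj_Kx g z ▸ H.smul_pts hc g
    have hs' : g * s * g⁻¹ ∈ Kx U (g * z * g⁻¹) := H.conj_Kx g z ▸ conj_mem_conj.2 hs.1
    have := fix_modEq Nat.prime_two (X := pts U (Kx U (g * z * g⁻¹))) (fun _ hg _ hx => H.smul_mem' hg hx) hs' (n := 1)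
      fun x _ => by rw [pow_one, pow_two, H.sq, one_smul]
    rw [(H.card2 hL' hc').1] at this
    obtain ⟨d, hd, e⟩ := Set.exists_ne_of_one_lt_ncard (s := {x ∈ pts U (Kx U (g * z * g⁻¹)) | (g * s * g⁻¹) • x = x}) (by
      have := (Set.ncard_pos (s := {x ∈ pts U (Kx U (g * z * g⁻¹)) | (g * s * g⁻¹) • x = x})).2
        ⟨_, hc', conj_fix hs.2 g⟩
      unfold Nat.ModEq at *
      omega) (g • c)
    exact ⟨_, _, _, H, (oconj ..).trans o, cc' cent_Kx hs', e.symm, conj_fix hs.2 g, hd.2, hc', hd.1, fun w ow hw =>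
      (H.blkK' (ne5 ow) (.inr hL') hc' hw).eq_of_ge hL' (H.le_Kx (.inr hL') hc' hw)⟩
  · have hL := H.blkK (ne5 o) h3 h4 hab
    have ha := mem_Kx.2 h3
    exact ⟨y, a, b, H, o, hc, hab, h1, h2, ha, mem_Kx.2 (H.a2' h3 h4), fun w ow hw =>
      hL.eq_of_le ((H.blkK' (ne5 ow) hL ha hw).resolve_right fun e' => e ⟨w, a, ow, pts_mono (H.le_Kx hL ha hw) ha, e'⟩)
        (H.le_Kx hL ha hw)⟩

namespace K5
variable (H : K5 U τ y a b)
include H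

theorem bl : Blk (Kx U y) := H.blkK (ne5 H.oy) (mem_Kx.1 H.ya) (H.cfix (mem_Kx.1 H.yb)) H.ab

theorem tn : τ ∈ 𝐍(Kx U y) := H.norm_Kx y (mem_cent1_symm H.yc)

theorem nrm5 (o : orderOf z = 5) (h1 : z ∈ 𝐂(Kx U y)) (h2 : n * z * n⁻¹ ∈ 𝐂(Kx U y)) : n ∈ 𝐍(Kx U y) :=
  norm_of_conj_eq (by rw [H.max z o h1, H.conj_Kx, ← H.max _ ((oconj ..).trans o) h2, H.max z o h1])

theorem not_cyclic (hP : Syl 5 P 𝐂(Kx U y)) (hy : y ∈ P) : ¬ IsCyclic P := fun hc => by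
  have := Fact.mk Nat.prime_five
  obtain ⟨h, hh, o, -, h1, -⟩ := H.ex0 H.bl H.tn H.ya H.yb H.ab H.ta H.tb
  have c5 := (Nat.card_zpowers h).trans o
  have y5 := (Nat.card_zpowers y).trans H.oy
  have hZ : zpowers h ≤ 𝐂(P) := zpowers_le.2 (cent_symm hP.le hh)
  have mem : ∀ x ∈ zpowers h ⊔ P, ∃ k ∈ zpowers h, ∃ z ∈ P, k * z = x := fun x =>
    (mem_sup_right_norm (norm_of_cent hZ)).1
  have hK : zpowers h ≤ Kx U y := zpowers_le.2 hh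
  have n1 : 𝐍(zpowers h ⊔ P) ≤ 𝐍(zpowers y) := fun n hn => by
    obtain ⟨k, hk, z, hz, e⟩ := mem _ (conj_mem_of_norm hn (mem_sup_right hy))
    have zc := cent_anti H.ya (hP.le hz)
    have := H.a2' (e ▸ H.cent_smul (mem_Kx.1 H.ya) n) (mul_fix (zpowers_le.2 (show h ∈ stabilizer G a from h1) hk) (H.cfix zc))
    have := H.cK H.bl H.ya (hK hk) ((Subgroup.mul_mem_cancel_right _ zc).1 this)
    obtain rfl : k = 1 := mem_bot.1 (disjoint_of_coprime (H := zpowers h) (K := U a) (by rw [c5, H.card]; norm_num) ▸ ⟨hk, this⟩)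
    rw [one_mul] at e
    exact norm_of_conj_eq (cyclic_eq_of_card hc (by rw [conj_zpowers, ← e]; exact zpowers_le.2 hz) (zpowers_le.2 hy)
      (card_conj ..))
  have n2 : 𝐍(zpowers y) ≤ 𝐍(Kx U y) := fun n hn => H.norm_span (norm_cent1 hn)
  have n3 : ∀ n ∈ 𝐍(zpowers y), n ∈ Kx U y ⊔ 𝐂(Kx U y) → n ∈ 𝐂[y] := fun n hn e => by
    obtain ⟨k, hk, z, hz, rfl⟩ := mem_KC.1 e
    have kc : k ∈ 𝐂(zpowers y) := cent_zpowers y ▸ span_le hk
    rw [← cent_zpowers]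
    refine mul_mem kc (cent_of_coprime Nat.prime_five y5 ((Subgroup.mul_mem_cancel_left _ (cent_le_norm _ kc)).1 hn)
      (pow_orderOf_eq_one z ▸ one_mem _) (Nat.Coprime.pow_right 2 (Nat.coprime_two_right.2
        ((H.oddC a).of_dvd_nat (ord_dvd (cent_anti H.ya hz))))))
  have n4 : 𝐍(zpowers y) ≤ 𝐂[y] := fun n hn => (H.nKC H.bl H.ya H.ta H.tn (n2 hn)).elim (n3 n hn) fun e =>
    (Subgroup.mul_mem_cancel_left _ (mem_cent1_symm H.yc)).1 (n3 _ (mul_mem (cent_le_norm _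
      (cent_zpowers y ▸ mem_cent1_symm H.yc)) hn) e)
  have pz : IsPGroup 5 (zpowers h) := IsPGroup.of_card (n := 1) c5
  have sH : Syl 5 (zpowers h) (Kx U y) := Syl.mk' hK pz (by
    have := BG.card_mul_relIndex hK
    rw [c5] at this
    rcases H.bl.card with e | e <;> omega)
  refine ne5 H.oy (abT (M := ⊤) (Syl.of_norm (Syl.of_max (le_inf le_top (le_norm _))
    (pgroup_sup pz hP.pgroup (norm_of_cent (cent_symm hZ))) fun R hR l1 l2 r hr => ?_))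
    (abelian_sup inferInstance (abelian_of_cyclic hc) hZ) (mem_sup_right hy) (inf_le_right.trans (n1.trans n4))
    (H.perf.symm ▸ mem_top y))
  obtain ⟨m, hm⟩ := pg_elt hR hr
  obtain ⟨k, hk, z, hz, rfl⟩ := mem_KC.1 (H.odd_KC H.bl H.ya (n2 (n1 (l2 hr).2))
    (Odd.of_dvd_nat (Odd.pow (by decide)) (orderOf_dvd_of_pow_eq_one hm)))
  have k1 : k ∈ zpowers h := sH.ge_of_norm_p' (zpowers_le.2 hk) (pg_zpowers (H.bl.pow_part hk hz hm).1)
    (zpowers_le.2 (mem_normalizer_of_conj_le (by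
      obtain ⟨k', hk', z', hz', e⟩ := mem _ (conj_mem_of_norm (l2 hr).2 (mem_sup_left (mem_zpowers h)))
      rw [show k * z * h * (k * z)⁻¹ = k * (z * h * z⁻¹) * k⁻¹ * 1 by group, conj_cc (cc' hz hh)] at e
      rw [conj_zpowers, zpowers_le, ← (H.bl.uniq (hK hk') (hP.le hz') (mul_mem (mul_mem hk hh) (inv_mem hk))
        (one_mem _) e).1]
      exact hk'))) (mem_zpowers k)
  refine mul_mem_sup k1 ?_
  rw [hP.eq_of_le_pgroup (le_inf (le_sup_right.trans l1) hP.le) inf_le_right (pgroup_of_le hR inf_le_left)]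
  exact ⟨(R.mul_mem_cancel_left (l1 (mem_sup_left k1))).1 hr, hz⟩

theorem c_le : 𝐂(U a) ≤ 𝐍(Kx U y) := by
  have := Fact.mk Nat.prime_five
  obtain ⟨P, hP, l⟩ := Syl.exists_ge (pg_zpowers (p := 5) (n := 1) (o1 H.oy)) (zpowers_le.2 (cent_Kx (U := U) (x := y)))
  obtain ⟨E, hE⟩ := exists_elem_of_le_rk (k := 2) (not_le.1 (mt (cyclic_of_rk_le_one (by norm_num) hP.pgroup)
    (H.not_cyclic hP (l (mem_zpowers y)))))
  refine (se (GW.odd_sol (H.oddC a)) inf_le_left (hE.mono (hP.le.trans (cent_anti H.ya))) (fun e he e1 =>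
    inf_le_inf_left _ ?_) fun Q hQ pQ => ?_).trans inf_le_right
  · exact H.max e (hE.orderOf_eq he e1) (hP.le (hE.le he)) ▸ H.norm_Kx e
  by_cases e : Q = ⊥
  · exact .inl (by rw [e]; simp)
  obtain ⟨z, hz, o⟩ := exists_ord_p pQ e
  have key : ∀ z ∈ Q, orderOf z = 5 → z ∈ 𝐂(Kx U y) := fun z hz o =>
    H.a3' H.bl H.ya (hQ hz).2 (hQ hz).1 (o1 o) (by norm_num)
  exact .inr fun n hn => ⟨hn.1, H.nrm5 o (key z hz o) (key _ (conj_mem_of_norm hn.2 hz) ((oconj ..).trans o))⟩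

theorem s1 (hc : c ∈ pts U (Kx U y)) (hg : g • a = c) : g ∈ 𝐍(Kx U y) := by
  obtain ⟨k, hk, e⟩ := H.trans H.bl hc H.ya
  have h1 : k * g * y * (k * g)⁻¹ ∈ 𝐂(U a) :=
    conj_mem_of_norm (norm_cent le_rfl (H.nrm (by rw [mul_smul, hg, e]))) (mem_Kx.1 H.ya)
  exact (Subgroup.mul_mem_cancel_left _ (le_norm _ hk)).1 (H.nrm5 H.oy cent_Kx
    (H.a3' H.bl H.ya (H.c_le h1) h1 (o1 ((oconj ..).trans H.oy)) (by norm_num)))

theorem s2 (hc : c ∈ pts U (Kx U y)) (hg : g • c = c) : g ∈ 𝐍(Kx U y) := by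
  obtain ⟨k, hk, rfl⟩ := H.trans H.bl H.ya hc
  exact (Subgroup.mul_mem_cancel_right _ (le_norm _ hk)).1 (H.s1 hc (by rw [mul_smul, hg]))

theorem s3 (hc : c ∈ pts U (Kx U y)) (hd : d ∉ pts U (Kx U y)) (hz : z ∈ 𝐂(U c ⊔ U d)) (h5 : z ^ 5 = 1) : z = 1 := by
  by_contra e
  have h1 := cent_anti le_sup_left hz
  exact hd (H.max z (ord5 h5 e) (H.a3' H.bl hc (H.s2 hc (H.cfix h1)) h1 h5 (by norm_num)) ▸
    mem_Kx.2 (cent_anti le_sup_right hz))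

theorem s4 (hc : τ • c = c) : c ∈ pts U (Kx U y) := by
  by_contra hne
  have ac : a ≠ c := fun e => hne (e ▸ H.ya)
  have hL := H.blk ac
  have tn := H.norm_pair H.ta hc
  obtain ⟨h, hh, o, ht, h1, h2⟩ := H.ex0 hL tn left_pt right_pt ac H.ta hc
  obtain ⟨d, hd, ad, td, h3, nd⟩ : ∃ d ∈ pts U (U a ⊔ U c), a ≠ d ∧ τ • d = d ∧ h • d = d ∧ d ∉ pts U (Kx U y) := by
    rcases id hL with e | e
    · exact ⟨c, right_pt, ac, hc, h2 e, hne⟩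
    · obtain ⟨d, hd, ad, td, h3⟩ := H.ex1 hL tn left_pt H.ta hh o ht h1
      exact ⟨d, hd, ad, td, h3, fun e' => hne (le_sup_right.trans ((H.nt1' e left_pt hd ad (H.tau2 e left_pt tn).1
        (H.tau2 e left_pt tn).2 H.ta td).ge.trans (sup_le H.ya e')))⟩
  have nc := H.nc hL left_pt hh o (by norm_num)
  obtain ⟨k, hk, z, hz, rfl, k5, -, kc, -⟩ := H.split5 H.bl H.tn H.ya (H.s2 H.ya h1) o ht
  have zc := cent_anti H.ya hz
  have k1 : k • a = a := by rwa [mul_smul, H.cfix zc] at h1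
  have nk : k ∉ 𝐂(U a) := fun e => nc (mul_mem e zc)
  have ok := ord5 k5 fun e => nk (e ▸ one_mem _)
  obtain ⟨e, he, ae, te, k2⟩ := H.ex1 H.bl H.tn H.ya H.ta hk ok kc k1
  have h4 : (k * z) • e = e := mul_fix k2 (H.czfix hz he)
  obtain ⟨s0, m0, a0, i0⟩ := H.arc H.bl H.tn he H.ya ae.symm te H.ta hk ok kc k2 k1
  obtain ⟨s1, -, a1, i1⟩ := H.arc hL tn left_pt hd ad H.ta td hh o ht h1 h3
  have ed : e ≠ d := fun e' => nd (e' ▸ he)
  obtain ⟨k', hk', z', hz', e', -, z5, -⟩ := H.split5 (H.blk ed) (H.norm_pair te td) left_pt (H.norm_pair h4 h3) o ht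
  rw [H.s3 he nd hz' z5, mul_one] at e'
  obtain ⟨s2, -, a2, i2⟩ := H.arc (H.blk ed) (H.norm_pair te td) right_pt left_pt ed.symm td te (e' ▸ hk') o ht h3 h4
  have := comm_mem_cent p11 (H.card a) (H.nrm (show (s0 * s2 * s1) • a = a by rw [mul_smul, mul_smul, a1, a2, a0]))
    (H.nrm h1)
  rw [show s0 * s2 * s1 * (k * z) * (s0 * s2 * s1)⁻¹ = s0 * (s2 * (s1 * (k * z) * s1⁻¹)⁻¹ * s2⁻¹)⁻¹ * s0⁻¹ by group,
    i1, inv_inv, i2, inv_inv, show s0 * (k * z) * s0⁻¹ = s0 * k * s0⁻¹ * (s0 * z * s0⁻¹) by group, i0,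
    conj_cc (cc hz m0)] at this
  have := pow_mem (inv_mem this) 3
  rw [show (k⁻¹ * z * (k * z)⁻¹)⁻¹ ^ 3 = k * k ^ 5 by group, k5, mul_one] at this
  exact nk this

theorem false : False := by
  by_cases e : τ = 1
  · obtain ⟨c, hc⟩ := H.ex_out H.bl
    exact hc (H.s4 (by rw [e, one_smul]))
  have o := ord2 H.sq e
  rcases H.bl with hL | hL
  · refine H.f2 o H.ab ?_
    rw [← H.fix2 hL H.ya H.yb H.ab H.ta H.tb fun e' => e (H.zsq' (cent_anti H.ya e') H.sq)]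
    exact Set.ext fun c => ⟨fun h => ⟨H.s4 h, h⟩, fun h => h.2⟩
  · have tK := (H.tau2 hL H.ya H.tn).1
    refine H.j1_of hL tK o fun x hx n hn x1 => ?_
    have xK := H.inK2 hL H.ya (H.s1 (H.s4 (fix_of_comm hx H.ta)) rfl) hn
    obtain ⟨k, -, e⟩ := (fj hL).one τ tK x xK o (ord2 ((fj hL).sq xK hn) x1)
    exact ⟨k, e⟩

end K5

namespace Tau
variable (H : Tau U τ)
include H

theorem k5 (h5 : y ^ 5 = 1) (hc : y ∈ 𝐂[τ]) (hab : a ≠ b) (h1 : τ • a = a) (h2 : τ • b = b) (h3 : y ∈ 𝐂(U a))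
    (h4 : y • b = b) : y = 1 := by
  by_contra e
  obtain ⟨_, _, _, h⟩ := H.exK5 (ord5 h5 e) hc hab h1 h2 h3 h4
  exact h.false

theorem inn (hab : a ≠ b) (h1 : τ • a = a) (h2 : τ • b = b) (o : orderOf h = 5) (hc : h ∈ 𝐂[τ]) (h3 : h • a = a)
    (h4 : h • b = b) : h ∈ U a ⊔ U b := by
  obtain ⟨k, hk, z, hz, rfl, -, z5, -, zc⟩ := H.split5 (H.blk hab) (H.norm_pair h1 h2) left_pt (H.norm_pair h3 h4) o hc
  rwa [H.k5 z5 zc hab h1 h2 (cent_anti le_sup_left hz) (H.czfix hz right_pt), mul_one]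

theorem arc' (hab : a ≠ b) (h1 : τ • a = a) (h2 : τ • b = b) (o : orderOf h = 5) (hc : h ∈ 𝐂[τ]) (h3 : h • a = a)
    (h4 : h • b = b) : ∃ n ∈ U a ⊔ U b, n • a = b ∧ n * h * n⁻¹ = h⁻¹ :=
  H.arc (H.blk hab) (H.norm_pair h1 h2) left_pt right_pt hab h1 h2 (H.inn hab h1 h2 o hc h3 h4) o hc h3 h4

theorem fh (hab : a ≠ b) (h1 : τ • a = a) (h2 : τ • b = b) (o : orderOf h = 5) (hc : h ∈ 𝐂[τ]) (h3 : h • a = a)
    (h4 : h • b = b) (h5 : τ • c = c) (h6 : h • c = c) : c = a ∨ c = b := by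
  by_contra! e
  obtain ⟨s1, -, a1, i1⟩ := H.arc' hab h1 h2 o hc h3 h4
  obtain ⟨s2, -, a2, i2⟩ := H.arc' e.2.symm h2 h5 o hc h4 h6
  obtain ⟨s3, -, a3, i3⟩ := H.arc' e.1 h5 h1 o hc h6 h3
  refine ne5 o (H.k5 (o1 o) hc hab h1 h2 (H.not_inv (g := s3 * s2 * s1) (by rw [mul_smul, mul_smul, a1, a2, a3]) h3 ?_
    (o1 o)) h4)
  rw [show s3 * s2 * s1 * h * (s3 * s2 * s1)⁻¹ = s3 * (s2 * (s1 * h * s1⁻¹)⁻¹ * s2⁻¹)⁻¹ * s3⁻¹ by group, i1, inv_inv,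
    i2, inv_inv, i3]

end Tau

end Cfsg.Lib.E11
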