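import Cfsg.Agent.Lib.E11.K

/-! The action of `C(τ)` on the fixed points of `τ`. -/

set_option autoImplicit false
set_option linter.unusedSectionVars false

namespace Cfsg.Lib.E11

open Cfsg Subgroup MulAction Cfsg.Lib.Transfer Cfsg.Lib.BG Cfsg.Lib.Small Cfsg.Lib.Perm Cfsg.Lib.FGS

variable {G Ω : Type*} [Group G] [Finite G] {A B C E K L M P Q S T V : Subgroup G} {g h k n r s t u v w x y z τ : G} {p : ℕ}

theorem sq_of_no4 {n : ℕ} (h : ∀ x ∈ K, x ^ 4 = 1 → x * x = 1) (hx : x ∈ K) (hn : x ^ 2 ^ n = 1) : x * x = 1 := by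
  induction n generalizing x with
  | zero => simp_all
  | succ k ih => exact h x hx (by
      have := ih (mul_mem hx hx) (by rw [← pow_two, ← pow_mul, ← pow_succ', hn])
      simpa [pow_succ, mul_assoc] using this)

variable [MulAction G Ω] [Finite Ω] {U : Ω → Subgroup G} {a b c d : Ω} {X : Set Ω}

theorem fixF : ∀ g ∈ 𝐂[τ], ∀ x ∈ {c : Ω | τ • c = c}, g • x ∈ {c : Ω | τ • c = c} := fun _ hg _ hx => fix_of_comm hg hx

theorem ex_ne_fix (h : ∀ g ∈ S, ∀ x ∈ X, g • x ∈ X) (ht : t ∈ S) (h2 : t * t = 1) (he : X.ncard % 2 = 0) (ha : a ∈ X)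
    (h1 : t • a = a) : ∃ b ∈ X, a ≠ b ∧ t • b = b := by
  have := fix_modEq Nat.prime_two h ht (n := 1) fun x _ => by rw [pow_one, pow_two, h2, one_smul]
  obtain ⟨b, hb, e⟩ := Set.exists_ne_of_one_lt_ncard (s := {x ∈ X | t • x = x}) (by
    have := (Set.ncard_pos (s := {x ∈ X | t • x = x})).2 ⟨a, ha, h1⟩
    unfold Nat.ModEq at *
    omega) a
  exact ⟨b, hb.1, e.symm, hb.2⟩

namespace Tau
variable (H : Tau U τ)
include H

theorem exF (h1 : τ • a = a) : ∃ b, a ≠ b ∧ τ • b = b :=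
  let ⟨b, _, e⟩ := ex_ne_fix (S := ⊤) (X := Set.univ) (fun _ _ _ _ => trivial) trivial H.sq
    (by rw [Set.ncard_univ, H.even]) trivial h1
  ⟨b, e⟩

theorem ex5' (hab : a ≠ b) (h1 : τ • a = a) (h2 : τ • b = b) : ∃ h ∈ U a ⊔ U b, ∃ c ∈ pts U (U a ⊔ U b),
    orderOf h = 5 ∧ h ∈ 𝐂[τ] ∧ h • a = a ∧ a ≠ c ∧ τ • c = c ∧ h • c = c := by
  obtain ⟨h, hh, o, hc, e, -⟩ := H.ex0 (H.blk hab) (H.norm_pair h1 h2) left_pt right_pt hab h1 h2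
  obtain ⟨c, e'⟩ := H.ex1 (H.blk hab) (H.norm_pair h1 h2) left_pt h1 hh o hc e
  exact ⟨h, hh, c, e'.1, o, hc, e, e'.2⟩

theorem f5 : {c : Ω | τ • c = c}.ncard % 5 = 2 := by
  obtain ⟨a, h1⟩ := H.ex
  obtain ⟨b, hab, h2⟩ := H.exF h1
  obtain ⟨h, -, c, -, o, hc, e1, ac, e2, e3⟩ := H.ex5' hab h1 h2
  have := fix_modEq Nat.prime_five (fixF (Ω := Ω)) hc (n := 1) fun x _ => by rw [pow_one, o1 o, one_smul]
  rw [show {x ∈ {c : Ω | τ • c = c} | h • x = x} = {a, c} from Set.ext fun x => ⟨fun e =>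
    H.fh ac h1 e2 o hc e1 e3 e.1 e.2, by rintro (rfl | rfl); exacts [⟨h1, e1⟩, ⟨e2, e3⟩]⟩, Set.ncard_pair ac] at this
  exact this.symm

theorem c5 (h1 : τ • a = a) (hc : y ∈ 𝐂[τ]) (hy : y ∈ 𝐂(U a)) (h5 : y ^ 5 = 1) : y = 1 := by
  by_contra e
  have := fix_modEq Nat.prime_five (fixF (Ω := Ω)) hc (n := 1) fun x _ => by rw [pow_one, h5, one_smul]
  rw [show {x ∈ {c : Ω | τ • c = c} | y • x = x} = {a} from Set.ext fun x => ⟨fun e' => by_contra fun e'' =>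
    e (H.k5 h5 hc (Ne.symm e'') h1 e'.1 hy e'.2), by rintro rfl; exact ⟨h1, H.cfix hy⟩⟩, Set.ncard_singleton] at this
  have := H.f5
  unfold Nat.ModEq at *
  omega

theorem syl5 (h1 : τ • a = a) (o : orderOf h = 5) (hc : h ∈ 𝐂[τ]) (h2 : h • a = a) :
    haveI := Fact.mk Nat.prime_five; Syl 5 (zpowers h) (𝐂[τ] ⊓ stabilizer G a) := by
  have := Fact.mk Nat.prime_five
  refine Syl.of_max (zpowers_le.2 ⟨hc, h2⟩) (pg_zpowers (n := 1) (o1 o)) fun Q hQ l1 l2 => ?_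
  have e1 := relIndex_cent_dvd p11 (H.card a) (l2.trans (inf_le_right.trans (H.stab a).le))
  have e2 := BG.card_mul_relIndex (inf_le_right (a := 𝐂(U a)) (b := Q))
  rw [inf_relIndex_right, show 𝐂(U a) ⊓ Q = ⊥ from by_contra fun e =>
    let ⟨y, hy, o⟩ := exists_ord_p (pgroup_of_le hQ inf_le_right) e
    ne5 o (H.c5 h1 (l2 hy.2).1 hy.1 (o1 o)), card_bot, one_mul] at e2
  obtain ⟨k, hk⟩ := hQ.exists_card_eq
  refine (eq_of_le_of_card_le l1 ?_).ge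
  rw [Nat.card_zpowers, o]
  rw [e2, hk] at e1
  rw [hk]
  rcases k with _ | _ | k
  · norm_num
  · norm_num
  · have := (Dvd.intro_left (5 ^ k) (by ring) : 25 ∣ 5 ^ (k + 1 + 1)).trans e1
    omega

theorem conj5 (hab : a ≠ b) (hac : a ≠ c) (h1 : τ • a = a) (h2 : τ • b = b) (h3 : τ • c = c) (o : orderOf h = 5)
    (hc : h ∈ 𝐂[τ]) (e1 : h • a = a) (e2 : h • b = b) (o' : orderOf k = 5) (hc' : k ∈ 𝐂[τ]) (e3 : k • a = a)
    (e4 : k • c = c) : ∃ g ∈ 𝐂[τ], g • a = a ∧ g • b = c := by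
  have := Fact.mk Nat.prime_five
  obtain ⟨g, hg, e⟩ := (H.syl5 h1 o hc e1).exists_conj_eq (H.syl5 h1 o' hc' e3)
  refine ⟨g, hg.1, hg.2, (H.fh hac h1 h3 o' hc' e3 e4 (fix_of_comm hg.1 h2) ?_).resolve_left
    fun e => hab (smul_left_cancel g (hg.2.trans e.symm))⟩
  exact (show zpowers _ ≤ stabilizer G (g • b) from zpowers_le.2 (conj_fix e2 g))
    (conj_zpowers g h ▸ e ▸ mem_zpowers k)

theorem same (hab : a ≠ b) (hcd : c ≠ d) (h1 : τ • a = a) (h2 : τ • b = b) (h3 : τ • c = c) (h4 : τ • d = d)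
    (hL : T1 (U a ⊔ U b)) : T1 (U c ⊔ U d) := by
  refine (H.blk hcd).resolve_right fun hK => ?_
  obtain ⟨x, hx, rfl⟩ := H.transF h1 h3
  have hL' := H.conj_pair x a b ▸ hL.conj x
  have ne : x • a ≠ x • b := fun e => hab (smul_left_cancel x e)
  have h5 := fix_of_comm hx h2
  obtain ⟨h, -, o, hc, e1, e2⟩ := H.ex0 (.inl hL') (H.norm_pair h3 h5) left_pt right_pt ne h3 h5
  obtain ⟨k, -, e, he, o', hc', e3, ne', e4, e5⟩ := H.ex5' hcd h3 h4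
  obtain ⟨g, -, g1, g2⟩ := H.conj5 ne ne' h3 h5 e4 o hc e1 (e2 hL') o' hc' e3 e5
  have := hL'.conj g
  obtain ⟨t1, t2⟩ := H.tau2 hK left_pt (H.norm_pair h3 h4)
  rw [H.conj_pair, g1, g2, H.nt1' hK left_pt he ne' t1 t2 h3 e4] at this
  exact this.not_j1 hK

theorem two_elt (h1 : τ • a = a) (hx : x ∈ 𝐂[τ]) (h2 : x • a = a) {n : ℕ} (hn : x ^ 2 ^ n = 1) : x ∈ zpowers τ :=
  (H.syl h1).ge_of_norm_p' (zpowers_le.2 h2) (pg_zpowers hn) (zpowers_le.2 (cent_le_norm _ (cent_zpowers τ ▸ hx)))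
    (mem_zpowers x)

theorem all1 (hab : a ≠ b) (h1 : τ • a = a) (h2 : τ • b = b) : T1 (U a ⊔ U b) := by
  refine (H.blk hab).resolve_right fun hK => ?_
  have all : ∀ {c d : Ω}, c ≠ d → τ • c = c → τ • d = d → Spor.IsoJ1 ↥(U c ⊔ U d) := fun hcd h3 h4 =>
    (H.blk hcd).resolve_left fun e => (H.same hcd hab h3 h4 h1 h2 e).not_j1 hK
  obtain ⟨tK, o⟩ := H.tau2 hK left_pt (H.norm_pair h1 h2)
  have inv : ∀ s ∈ 𝐂[τ], orderOf s = 2 → ∃ g, g * τ * g⁻¹ = s := fun s hs o' => by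
    by_cases e : s • a = a
    · obtain ⟨g, rfl⟩ := H.conj_tau o' e
      exact ⟨g⁻¹, by group⟩
    have hL := all (Ne.symm e) h1 (fix_of_comm hs h1)
    obtain ⟨k, -, e⟩ := (fj hL).one τ (H.tau2 hL left_pt (H.norm_pair h1 (fix_of_comm hs h1))).1 s
      (H.inK2 hL left_pt (H.norm_swap rfl (by rw [← mul_smul, sq2 o', one_smul])) (n := 1) (o1 o')) o o'
    exact ⟨k, e⟩
  refine H.j1_of hK tK o fun x hx n hn x1 => inv x hx (ord2 (sq_of_no4 (fun x hx h4 => by_contra fun e => ?_) hx hn) x1)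
  obtain ⟨g, hg⟩ := inv _ (mul_mem hx hx) (ord2 (by simpa [pow_succ, mul_assoc] using h4) e)
  have e1 : g⁻¹ * x * g * (g⁻¹ * x * g) = τ := by
    rw [show g⁻¹ * x * g * (g⁻¹ * x * g) = g⁻¹ * (x * x) * g by group, ← hg]; group
  have e2 : (g⁻¹ * x * g) ^ 2 ^ 2 = 1 := by
    rw [show (g⁻¹ * x * g) ^ 2 ^ 2 = g⁻¹ * x ^ 4 * g by simp [pow_succ, mul_assoc], h4]; group
  generalize g⁻¹ * x * g = y at *
  have yc : y ∈ 𝐂[τ] := e1 ▸ cmul (self_mem_cent1 y) (self_mem_cent1 y)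
  refine ne2 o (e1.symm.trans ?_)
  by_cases e : y • a = a
  · rcases (mem_zp2 H.sq).1 (H.two_elt h1 yc e e2) with rfl | rfl
    · exact mul_one 1
    · exact H.sq
  have hL := all (Ne.symm e) h1 (fix_of_comm yc h1)
  exact (fj hL).no4 (H.inK2 hL left_pt (H.norm_swap rfl (by rw [← mul_smul, e1, h1])) e2) e2

theorem twoF (hab : a ≠ b) (hcd : c ≠ d) (h1 : τ • a = a) (h2 : τ • b = b) (h3 : τ • c = c) (h4 : τ • d = d) :
    ∃ x ∈ 𝐂[τ], x • a = c ∧ x • b = d := by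
  obtain ⟨x, hx, rfl⟩ := H.transF h1 h3
  have ne : x • a ≠ x • b := fun e => hab (smul_left_cancel x e)
  have h5 := fix_of_comm hx h2
  obtain ⟨h, -, o, hc, e1, e2⟩ := H.ex0 (H.blk ne) (H.norm_pair h3 h5) left_pt right_pt ne h3 h5
  obtain ⟨k, -, o', hc', e3, e4⟩ := H.ex0 (H.blk hcd) (H.norm_pair h3 h4) left_pt right_pt hcd h3 h4
  obtain ⟨g, hg, g1, g2⟩ := H.conj5 ne hcd h3 h5 h4 o hc e1 (e2 (H.all1 ne h3 h5)) o' hc' e3 (e4 (H.all1 hcd h3 h4))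
  exact ⟨g * x, mul_mem hg hx, by rw [mul_smul, g1], by rw [mul_smul, g2]⟩

/-- Decomposition of the elements of `C(τ)` normalising the block through two fixed points. -/
theorem decX (h1 : τ • a = a) (h2 : τ • b = b) (hab : a ≠ b) (hx : x ∈ 𝐂[τ]) (hn : x ∈ 𝐍(U a ⊔ U b)) :
    ∃ e ∈ zpowers τ, ∃ k ∈ U a ⊔ U b, ∃ z ∈ 𝐂(U a ⊔ U b), k ∈ 𝐂[τ] ∧ z ∈ 𝐂[τ] ∧ x = e * (k * z) := by
  have tn := H.norm_pair h1 h2
  have key : ∀ y ∈ 𝐂[τ], y ∈ U a ⊔ U b ⊔ 𝐂(U a ⊔ U b) →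
      ∃ k ∈ U a ⊔ U b, ∃ z ∈ 𝐂(U a ⊔ U b), k ∈ 𝐂[τ] ∧ z ∈ 𝐂[τ] ∧ y = k * z := fun y hy e => by
    obtain ⟨k, hk, z, hz, rfl⟩ := mem_KC.1 e
    have := (H.blk hab).comm_part hk hz tn (mem_cent1_symm hy)
    exact ⟨k, hk, z, hz, mem_cent1_symm this.1, mem_cent1_symm this.2, rfl⟩
  rcases H.nKC (H.blk hab) left_pt h1 tn hn with e | e
  · obtain ⟨k, hk, z, hz, e1, e2, e3⟩ := key x hx e
    exact ⟨1, one_mem _, k, hk, z, hz, e1, e2, by rw [one_mul, e3]⟩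
  · obtain ⟨k, hk, z, hz, e1, e2, e3⟩ := key _ (mul_mem (self_mem_cent1 τ) hx) e
    exact ⟨τ, mem_zpowers τ, k, hk, z, hz, e1, e2, by rw [← e3, ← mul_assoc, H.sq, one_mul]⟩

theorem zfix (he : x ∈ zpowers τ) (h1 : τ • a = a) : x • a = a := zpowers_le.2 (show τ ∈ stabilizer G a from h1) he

theorem swapX (h1 : τ • a = a) (h2 : τ • b = b) (hab : a ≠ b) :
    ∃ s ∈ U a ⊔ U b, s ∈ 𝐂[τ] ∧ s • a = b ∧ s • b = a := by
  obtain ⟨x, hx, e1, e2⟩ := H.twoF hab hab.symm h1 h2 h2 h1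
  obtain ⟨e, he, k, hk, z, hz, c, -, rfl⟩ := H.decX h1 h2 hab hx (H.norm_swap e1 e2)
  rw [mul_smul, mul_smul, H.czfix hz left_pt, smul_eq_iff_eq_inv_smul, inv_fix (H.zfix he h2)] at e1
  rw [mul_smul, mul_smul, H.czfix hz right_pt, smul_eq_iff_eq_inv_smul, inv_fix (H.zfix he h1)] at e2
  exact ⟨k, hk, c, e1, e2⟩

theorem dec_ab (h1 : τ • a = a) (h2 : τ • b = b) (hab : a ≠ b) (hx : x ∈ 𝐂[τ]) (e1 : x • a = a) (e2 : x • b = b) :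
    ∃ e ∈ zpowers τ, ∃ k ∈ U a ⊔ U b, ∃ z ∈ 𝐂(U a ⊔ U b), k ∈ 𝐂[τ] ∧ z ∈ 𝐂[τ] ∧ x = e * (k * z) ∧
      k • a = a ∧ k • b = b ∧ k ^ 5 = 1 ∧ (orderOf z).Coprime 5 := by
  obtain ⟨e, he, k, hk, z, hz, c, c', rfl⟩ := H.decX h1 h2 hab hx (H.norm_pair e1 e2)
  rw [mul_smul, mul_smul, H.czfix hz left_pt, smul_eq_iff_eq_inv_smul, inv_fix (H.zfix he h1)] at e1
  rw [mul_smul, mul_smul, H.czfix hz right_pt, smul_eq_iff_eq_inv_smul, inv_fix (H.zfix he h2)] at e2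
  refine ⟨e, he, k, hk, z, hz, c, c', rfl, e1, e2, orderOf_dvd_iff_pow_eq_one.1 (H.card5 (H.all1 hab h1 h2) left_pt
    right_pt hab ▸ ord_dvd ⟨⟨hk, e1⟩, e2⟩), (Nat.prime_five.coprime_iff_not_dvd.2 fun e => ?_).symm⟩
  obtain ⟨y, hy, o⟩ := exists_ord Nat.prime_five (K := zpowers z) (by rwa [Nat.card_zpowers])
  exact ne5 o (H.c5 h1 (zpowers_le.2 c' hy) (zpowers_le.2 (cent_anti le_sup_left hz) hy) (o1 o))

theorem k_one (h1 : τ • a = a) (h2 : τ • b = b) (h3 : τ • c = c) (hab : a ≠ b) (hac : a ≠ c) (hbc : b ≠ c)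
    (kc : k ∈ 𝐂[τ]) (e1 : k • a = a) (e2 : k • b = b) (k5 : k ^ 5 = 1) (hz : (orderOf z).Coprime 5)
    (c' : k ∈ 𝐂[z]) (e3 : (k * z) • c = c) : k = 1 := by
  have := pow_fix e3 (orderOf z)
  rw [Commute.mul_pow (mem_cent1.1 c'), pow_orderOf_eq_one, mul_one] at this
  by_contra e
  have o := ord5 k5 e
  rcases H.fh hab h1 h2 ((Nat.Coprime.orderOf_pow (o ▸ hz.symm)).trans o) (pow_mem kc _) (pow_fix e1 _) (pow_fix e2 _)
    h3 this with e | e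
  · exact hac e.symm
  · exact hbc e.symm

theorem three' (o : orderOf τ = 2) (h1 : τ • a = a) (h2 : τ • b = b) (h3 : τ • c = c) (hab : a ≠ b) (hac : a ≠ c)
    (hbc : b ≠ c) (hx : x ∈ 𝐂[τ]) (e1 : x • a = a) (e2 : x • b = b) (e3 : x • c = c) : x ∈ zpowers τ := by
  obtain ⟨e, he, k, hk, z, hz, c1, c2, rfl, k1, k2, k5, co⟩ := H.dec_ab h1 h2 hab hx e1 e2
  rw [mul_smul, smul_eq_iff_eq_inv_smul, inv_fix (H.zfix he h3)] at e3
  obtain rfl := H.k_one h1 h2 h3 hab hac hbc c1 k1 k2 k5 co (cc hz hk) e3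
  rw [one_mul] at e3 ⊢
  by_cases z1 : z = 1
  · rwa [z1, mul_one]
  have hL := H.all1 hab h1 h2
  have le := H.le_Kx (.inl hL) left_pt hz
  have tn := H.norm_Kx z (mem_cent1_symm c2)
  rcases H.blkK' z1 (.inl hL) left_pt hz with e' | e'
  · rcases (H.fix2 hL left_pt right_pt hab h1 h2 fun e => ne2 o (H.zsq' (cent_anti le_sup_left e) H.sq)).le
      ⟨Blk.eq_of_le (.inl hL) e' le ▸ mem_Kx.2 (H.a2' (cent_anti le_sup_left hz) e3), h3⟩ with e | e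
    · exact (hac e.symm).elim
    · exact (hbc e.symm).elim
  · exact (H.nt1 e' hL le left_pt (H.tau2 e' (pts_mono le left_pt) tn).1 (H.norm_pair h1 h2) o h1).elim

end Tau

end Cfsg.Lib.E11
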