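import Cfsg.Agent.Lib.E11.L

/-! The case where `τ` is an involution. -/

set_option autoImplicit false
set_option linter.unusedSectionVars false

namespace Cfsg.Lib.E11

open Cfsg Subgroup MulAction Cfsg.Lib.Transfer Cfsg.Lib.BG Cfsg.Lib.Small Cfsg.Lib.Perm Cfsg.Lib.FGS

variable {G Ω : Type*} [Group G] [Finite G] {A B C E K L M P Q S T V : Subgroup G} {g h k n r s t u v w x y z τ : G} {p : ℕ}

theorem ab_of_sq (sq : ∀ v ∈ V, v * v = 1) : IsMulCommutative V := abelian_iff.2 fun a ha => mem_cent.2 fun b hb => by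
  rw [← mul_inv_eq_one, mul_inv_rev, inv_eq_of_mul_eq_one_right (sq a ha), inv_eq_of_mul_eq_one_right (sq b hb),
    sq (b * a) (mul_mem hb ha)]

theorem pow4 (h2 : t * t = 1) (h : x * x ∈ zpowers t) : x ^ 2 ^ 2 = 1 := by
  rw [show x ^ 2 ^ 2 = x * x * (x * x) by simp [pow_succ, mul_assoc]]
  rcases (mem_zp2 h2).1 h with e | e <;> simp [e, h2]

variable [MulAction G Ω] [Finite Ω] {U : Ω → Subgroup G} {a b c d : Ω} {X : Set Ω}

/-- The fixed points of `τ`. -/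
abbrev Fx (Ω : Type*) [MulAction G Ω] [Finite Ω] (τ : G) : SubMulAction 𝐂[τ] Ω := sub 𝐂[τ] {c : Ω | τ • c = c} fixF

/-- The group induced by `C(τ)` on the fixed points of `τ`. -/
abbrev piF (Ω : Type*) [MulAction G Ω] [Finite Ω] (τ : G) := (toPermHom 𝐂[τ] (Fx Ω τ)).rangeRestrict

theorem piF_surj (y : (toPermHom 𝐂[τ] (Fx Ω τ)).range) : ∃ x, piF Ω τ x = y := MonoidHom.rangeRestrict_surjective _ y

theorem piF_smul {x : 𝐂[τ]} {a b : Fx Ω τ} : piF Ω τ x • a = b ↔ x.1 • a.1 = b.1 := Subtype.ext_iff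

namespace Tau
variable (H : Tau U τ) (o : orderOf τ = 2)
include H o

theorem f12 : 12 ≤ {c : Ω | τ • c = c}.ncard := by
  have e1 := H.f5
  have e2 := H.fix_mod2 H.sq
  rw [Set.sep_univ, H.even] at e2
  have : {c : Ω | τ • c = c}.ncard ≠ 2 := fun e => let ⟨_, _, hab, e⟩ := Set.ncard_eq_two.1 e; H.f2 o hab e
  omega

theorem zt0 (hK : K ≤ 𝐂[τ]) (h : ∀ x ∈ 𝐂[τ], x ∈ K ∨ τ * x ∈ K) (hab : a ≠ b) (hcd : c ≠ d) (h1 : τ • a = a)
    (h2 : τ • b = b) (h3 : τ • c = c) (h4 : τ • d = d) : ∃ x ∈ K, x • a = c ∧ x • b = d := by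
  obtain ⟨x, hx, e1, e2⟩ := H.twoF hab hcd h1 h2 h3 h4
  exact (h x hx).elim (⟨x, ·, e1, e2⟩) (⟨_, ·, by rw [mul_smul, e1, h3], by rw [mul_smul, e2, h4]⟩)

theorem ker_of {x : 𝐂[τ]} (h : x.1 ∈ zpowers τ) : piF Ω τ x = 1 :=
  Subtype.ext (Equiv.ext fun a => Subtype.ext (zfix (x := x.1) (a := a.1) H h a.2))

theorem three_F {x : 𝐂[τ]} {a b c : Fx Ω τ} (h1 : a ≠ b) (h2 : b ≠ c) (h3 : a ≠ c) (e1 : piF Ω τ x • a = a)
    (e2 : piF Ω τ x • b = b) (e3 : piF Ω τ x • c = c) : x.1 ∈ zpowers τ :=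
  H.three' o a.2 b.2 c.2 (fun e => h1 (Subtype.ext e)) (fun e => h3 (Subtype.ext e)) (fun e => h2 (Subtype.ext e)) x.2
    (piF_smul.1 e1) (piF_smul.1 e2) (piF_smul.1 e3)

theorem ztF : ZT (toPermHom 𝐂[τ] (Fx Ω τ)).range (Fx Ω τ) := by
  refine ⟨fun a b c d h1 h2 => ?_, fun g a b c h1 h2 h3 e1 e2 e3 => ?_,
    le_trans (by norm_num) ((H.f12 o).trans (card_sub fixF).ge)⟩
  · obtain ⟨x, hx, e1, e2⟩ := H.twoF (fun e => h1 (Subtype.ext e)) (fun e => h2 (Subtype.ext e)) a.2 b.2 c.2 d.2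
    exact ⟨piF Ω τ ⟨x, hx⟩, piF_smul.2 e1, piF_smul.2 e2⟩
  · obtain ⟨x, rfl⟩ := piF_surj g
    exact H.ker_of o (H.three_F o h1 h2 h3 e1 e2 e3)

theorem of_ker {x : 𝐂[τ]} (h : piF Ω τ x = 1) : x.1 ∈ zpowers τ := by
  obtain ⟨a⟩ := (H.ztF o).nonempty
  obtain ⟨b, hb⟩ := (H.ztF o).exists_ne a
  obtain ⟨c, h1, h2⟩ := (H.ztF o).exists_third a b
  exact H.three_F o hb.symm h2.symm h1.symm (by rw [h, one_smul]) (by rw [h, one_smul]) (by rw [h, one_smul])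

theorem of_eq {x y : 𝐂[τ]} (h : piF Ω τ x = piF Ω τ y) : x.1 = y.1 ∨ x.1 = τ * y.1 := by
  rcases (mem_zp2 H.sq).1 (H.of_ker o (x := x * y⁻¹) (by rw [map_mul, map_inv, h, mul_inv_cancel])) with e | e
  · exact .inl (mul_inv_eq_one.1 e)
  · exact .inr (mul_inv_eq_iff_eq_mul.1 e)

theorem zassF : IsZassenhausGroup (toPermHom 𝐂[τ] (Fx Ω τ)).range (Fx Ω τ) := by
  have Z := H.ztF o
  obtain ⟨a⟩ := Z.nonempty
  obtain ⟨b, hb⟩ := Z.exists_ne a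
  have hab : a.1 ≠ b.1 := fun e => hb (Subtype.ext e.symm)
  have hL := H.all1 hab a.2 b.2
  obtain ⟨h, hh, o5, hc, e1, e2⟩ := H.ex0 (.inl hL) (H.norm_pair a.2 b.2) left_pt right_pt hab a.2 b.2
  obtain ⟨s, hs, sc, s1, s2⟩ := H.swapX a.2 b.2 hab
  have nc := H.nc (.inl hL) left_pt hh o5 (by norm_num)
  have f1 : piF Ω τ ⟨h, hc⟩ • a = a := piF_smul.2 e1
  have f2 : piF Ω τ ⟨h, hc⟩ • b = b := piF_smul.2 (e2 hL)
  refine ⟨inferInstance, Z.mt2, Z.three, ⟨piF Ω τ ⟨h, hc⟩, fun e => ?_, a, b, hb.symm, f1, f2⟩, fun N hN tr => ?_⟩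
  · rcases (mem_zp2 H.sq).1 (H.of_ker o e) with e | e
    · exact ne5 o5 e
    · rw [show h = τ from e, o] at o5
      omega
  by_contra! reg
  obtain ⟨⟨n, hn⟩, e⟩ := tr.exists_smul_eq a b
  change n • a = b at e
  have e3 : piF Ω τ ⟨h, hc⟩ * n * (piF Ω τ ⟨h, hc⟩)⁻¹ * n⁻¹ = 1 := by
    have := (eq_bot_iff_forall _).1 (reg b) ⟨_, mul_mem (hN.conj_mem n hn (piF Ω τ ⟨h, hc⟩)) (inv_mem hn)⟩ (by
      change (_ * n * _ * n⁻¹) • b = b
      rw [mul_smul, inv_smul_eq_iff.2 e.symm, mul_smul, inv_smul_eq_iff.2 f1.symm, mul_smul, e, f2])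
    exact congrArg Subtype.val this
  obtain ⟨x, rfl⟩ := piF_surj n
  have e4 : x.1 * h * x.1⁻¹ = h := by
    rcases H.of_eq o (x := x * ⟨h, hc⟩ * x⁻¹) (y := ⟨h, hc⟩) (by
      rw [map_mul, map_mul, map_inv, mul_inv_eq_iff_eq_mul, ← mul_inv_eq_iff_eq_mul.1 (mul_inv_eq_one.1 e3)]) with e | e
    · exact e
    have := congrArg (· ^ 5) e
    change (x.1 * h * x.1⁻¹) ^ 5 = (τ * h) ^ 5 at this
    rw [conj_pow, o1 o5, Commute.mul_pow (mem_cent1.1 hc).symm, o1 o5] at this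
    exact (ne2 o (by simpa [pow_succ, H.sq, mul_assoc] using this.symm)).elim
  refine nc (H.not_inv (g := s⁻¹ * x) (by rw [mul_smul, piF_smul.1 e, inv_smul_eq_iff, s1]) e1 ?_ (o1 o5))
  have := (H.swap1 hL left_pt right_pt hab hs s1 s2).2 h hh e1 (e2 hL)
  calc _ = s⁻¹ * (x.1 * h * x.1⁻¹) * s := by group
    _ = s⁻¹ * (s * h * s⁻¹)⁻¹ * s := by rw [e4, this, inv_inv]
    _ = _ := by group

theorem cardF : IsSimpleGroup (toPermHom 𝐂[τ] (Fx Ω τ)).range ∧ Nat.card (toPermHom 𝐂[τ] (Fx Ω τ)).range = 660 ∧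
    {c : Ω | τ • c = c}.ncard = 12 := by
  have Z := H.ztF o
  obtain ⟨a⟩ := Z.nonempty
  obtain ⟨b, hb⟩ := Z.exists_ne a
  have hab : a.1 ≠ b.1 := fun e => hb (Subtype.ext e.symm)
  have e0 := H.fix_mod2 H.sq
  rw [Set.sep_univ, H.even] at e0
  have e1 : Nat.card (Fx Ω τ) = _ := card_sub fixF
  have e2 := Z.card_zker a
  have e3 := large_of_odd (by rw [e1, Nat.even_iff, e0]) hb.symm _ _ (H.zassF o) rfl
  have odd : Odd (Nat.card (stab2 (toPermHom 𝐂[τ] (Fx Ω τ)).range a b)) := by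
    by_contra e
    obtain ⟨t, ht, o'⟩ := exists_ord Nat.prime_two (Nat.not_odd_iff_even.1 e).two_dvd
    obtain ⟨x, rfl⟩ := piF_surj t
    exact ne2 o' (H.ker_of o (H.two_elt a.2 x.2 (piF_smul.1 ht.1)
      (pow4 H.sq (H.of_ker o (x := x * x) (by rw [map_mul, sq2 o'])))))
  have e4 := (Z.card_of_large hb.symm (by omega)).resolve_left (by obtain ⟨k, hk⟩ := odd; omega)
  have := simple_of_card (H.zassF o) hb.symm e4
  have zo := ZO.of_simple Z hb.symm odd (stab2_ne_bot (H.zassF o) hb.symm)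
  obtain ⟨s, hs, sc, s1, s2⟩ := H.swapX a.2 b.2 hab
  have e5 : Nat.card (stab2 (toPermHom 𝐂[τ] (Fx Ω τ)).range a b) ∣ 5 := by
    have := Z.cyclic_of_ab hb.symm le_rfl (zo.abelian hb.symm)
    rw [← IsCyclic.exponent_eq_card]
    refine Monoid.exponent_dvd_of_forall_pow_eq_one fun ⟨g, hg⟩ => Subtype.ext ?_
    obtain ⟨x, rfl⟩ := piF_surj g
    obtain ⟨e, he, k, hk, z, hz, c1, c2, ex, -, -, k5, -⟩ := H.dec_ab a.2 b.2 hab x.2 (piF_smul.1 hg.1) (piF_smul.1 hg.2)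
    have := zo.inverts hb.symm (s := piF Ω τ ⟨s, sc⟩) (piF_smul.2 s1) (piF_smul.2 s2) (piF Ω τ ⟨z, c2⟩)
      ⟨piF_smul.2 (H.czfix hz left_pt), piF_smul.2 (H.czfix hz right_pt)⟩
    rw [← map_inv, ← map_mul, ← map_mul, show (⟨s, sc⟩ * ⟨z, c2⟩ * ⟨s, sc⟩⁻¹ : 𝐂[τ]) = ⟨z, c2⟩ from
      Subtype.ext (conj_cc (cc hz hs)), eq_inv_iff_mul_eq_one, ← map_mul] at this
    obtain rfl : z = 1 := H.zsq (cent_anti le_sup_left hz) (pow4 H.sq (H.of_ker o this))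
    change piF Ω τ x ^ 5 = 1
    rw [← map_pow]
    refine H.ker_of o ?_
    change x.1 ^ 5 ∈ _
    rw [ex, mul_one, Commute.mul_pow (mem_cent.1 (cent_zpowers τ ▸ c1) e he), k5, mul_one]
    exact pow_mem he _
  have e6 := H.f5
  have e7 := zo.three_le hb.symm
  have e8 := Z.card_eq hb.symm
  rcases (Nat.dvd_prime Nat.prime_five).1 e5 with e | e
  · omega
  rw [e] at e4 e8
  rw [← e4] at e8
  exact ⟨this, e8, by omega⟩

/-- `C(τ) = ⟨τ⟩ × K` with `K` of order 660. -/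
theorem exK : ∃ K, T1 K ∧ F11 K ∧ K ≤ 𝐂[τ] ∧ τ ∉ K ∧ ∀ x ∈ 𝐂[τ], x ∈ K ∨ τ * x ∈ K := by
  obtain ⟨hs, hc, h12⟩ := H.cardF o
  have F := (f11_zo (H.ztF o) hc ((card_sub fixF).trans h12)).2
  obtain ⟨a, h1⟩ := H.ex
  obtain ⟨b, hab, h2⟩ := H.exF h1
  obtain ⟨s, hs', sc, s1, s2⟩ := H.swapX h1 h2 hab
  have so := (H.swap1 (H.all1 hab h1 h2) left_pt right_pt hab hs' s1 s2).1
  have so' : orderOf (piF Ω τ ⟨s, sc⟩) = 2 := ord2 (by rw [← map_mul, show (⟨s, sc⟩ * ⟨s, sc⟩ : 𝐂[τ]) = 1 from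
    Subtype.ext (sq2 so), map_one]) fun e => hab ((H.zfix (H.of_ker o e) h1).symm.trans s1)
  obtain ⟨T, hT⟩ := Syl.exists (p := 2) 𝐂[τ]
  have ab : IsMulCommutative T := ab_of_sq fun x hx => by
    obtain ⟨n, hn⟩ := pg_elt hT.pgroup hx
    have xc := hT.le hx
    by_cases e : piF Ω τ ⟨x, xc⟩ = 1
    · rcases (mem_zp2 H.sq).1 (H.of_ker o e) with e | e
      · simp [show x = 1 from e]
      · simp [show x = τ from e, H.sq]
    obtain ⟨g, -, e⟩ := F.one _ trivial _ trivial so' (ord2 (sq_of_no4 F.no4 trivial (n := n) (by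
      rw [← map_pow, show (⟨x, xc⟩ ^ 2 ^ n : 𝐂[τ]) = 1 from Subtype.ext hn, map_one])) e)
    obtain ⟨g, rfl⟩ := piF_surj g
    rw [← map_inv, ← map_mul, ← map_mul] at e
    have e1 := sq2 ((oconj g.1 s).trans so)
    rcases H.of_eq o e.symm with e | e
    · exact (show x = _ from e) ▸ e1
    · exact (show x = _ from e) ▸ sq_mul H.sq e1 (mul_mem (mul_mem g.2 sc) (inv_mem g.2))
  have tK : τ ∉ ⁅𝐂[τ], 𝐂[τ]⁆ := fun e => ne2 o (abT hT ab (hT.ge_of_norm_p' (zpowers_le.2 (self_mem_cent1 τ))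
    (pg_inv H.sq) (norm_of_cent (cent_symm (cent_zpowers τ ▸ hT.le))) (mem_zpowers τ)) inf_le_left e)
  have le : ⁅𝐂[τ], 𝐂[τ]⁆ ≤ 𝐂[τ] := commutator_le_self _
  have k1 : ∀ x ∈ ⁅𝐂[τ], 𝐂[τ]⁆, x ∈ zpowers τ → x = 1 := fun x hx e =>
    ((mem_zp2 H.sq).1 e).resolve_right fun e => tK (e ▸ hx)
  have sur : Function.Surjective ((piF Ω τ).comp (inclusion le)) := fun y => by
    have : y ∈ map (piF Ω τ) ⁅(⊤ : Subgroup 𝐂[τ]), ⊤⁆ := by
      rw [map_commutator, map_top_of_surjective _ piF_surj, ← commutator_def, commutator_eq_top_of_simple (not_comm_of_card (by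
        rw [hc]; norm_num))]
      trivial
    obtain ⟨x, hx, rfl⟩ := this
    exact ⟨⟨x.1, map_subtype_commutator 𝐂[τ] ▸ mem_map_of_mem _ hx⟩, rfl⟩
  let e := MulEquiv.ofBijective _ ⟨(injective_iff_map_eq_one _).2 fun x e => Subtype.ext (k1 _ x.2 (H.of_ker o e)), sur⟩
  have dec : ∀ x ∈ 𝐂[τ], x ∈ ⁅𝐂[τ], 𝐂[τ]⁆ ∨ τ * x ∈ ⁅𝐂[τ], 𝐂[τ]⁆ := fun x hx => by
    obtain ⟨k, e⟩ := sur (piF Ω τ ⟨x, hx⟩)
    exact (H.of_eq o e).imp (fun e => (show k.1 = x from e) ▸ k.2) fun e => (show k.1 = τ * x from e) ▸ k.2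
  have := e.isSimpleGroup
  have c := (Nat.card_congr e.toEquiv).trans hc
  have h12' := (card_sub (S := ⁅𝐂[τ], 𝐂[τ]⁆) fun g hg => fixF (Ω := Ω) g (le hg)).trans h12
  refine ⟨_, ⟨this, c⟩, F11.of_top (f11_zo ⟨fun a b c d h1 h2 => ?_, fun g a b c h1 h2 h3 e1 e2 e3 => ?_,
    by rw [h12']; norm_num⟩ c h12').2, le, tK, dec⟩
  · obtain ⟨k, hk, e1, e2⟩ := H.zt0 o le dec (fun e => h1 (Subtype.ext e)) (fun e => h2 (Subtype.ext e)) a.2 b.2 c.2 d.2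
    exact ⟨⟨k, hk⟩, Subtype.ext e1, Subtype.ext e2⟩
  · exact Subtype.ext (k1 _ g.2 (H.three' o a.2 b.2 c.2 (fun e => h1 (Subtype.ext e)) (fun e => h3 (Subtype.ext e))
      (fun e => h2 (Subtype.ext e)) (le g.2) (congrArg Subtype.val e1) (congrArg Subtype.val e2)
      (congrArg Subtype.val e3)))

omit o in
theorem inL (hL : Blk L) (ha : a ∈ pts U L) (h2 : x * x = 1) (h : x ∈ L ⊔ 𝐂(L)) : x ∈ L := by
  obtain ⟨k, hk, z, hz, rfl⟩ := mem_KC.1 h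
  rwa [H.zsq' (cent_anti ha hz) (hL.sq_part hk hz h2).2, mul_one]

theorem v672 (h : ∀ x ∈ 𝐂[τ], (∃ g, g * τ * g⁻¹ = x) → ¬ ∃ g, g * τ * g⁻¹ = τ * x) : Nat.card Ω = 672 := by
  classical
  have h12 := (H.cardF o).2.2
  have fx : ∀ {a b : Ω}, a ≠ b → τ • a = a → τ • b = b → {x ∈ pts U (U a ⊔ U b) | τ • x = x} = {a, b} :=
    fun hab h1 h2 => H.fix2 (H.all1 hab h1 h2) left_pt right_pt hab h1 h2 fun e =>
      ne2 o (H.zsq' (cent_anti le_sup_left e) H.sq)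
  have := dcount (A := {c : Ω | τ • c = c}ᶜ) (B := {c : Ω | τ • c = c}.offDiag) (fun c q => c ∈ pts U (U q.1 ⊔ U q.2))
    (m := 2) (n := 10) (fun c hc => ?_) fun q hq => ?_
  · rw [← Set.Finite.coe_toFinset (Set.toFinite {c : Ω | τ • c = c}), ← Finset.coe_offDiag, Set.ncard_coe_finset,
      Finset.offDiag_card, ← Set.ncard_eq_toFinset_card, h12, Set.Finite.coe_toFinset] at this
    rw [← Set.ncard_add_ncard_compl {c : Ω | τ • c = c}, h12]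
    omega
  · have ne : c ≠ τ • c := fun e => hc e.symm
    have tn := H.norm_swap (g := τ) (a := c) rfl (by rw [← mul_smul, H.sq, one_smul])
    have two : ∀ {a}, a ∈ pts U (U c ⊔ U (τ • c)) → τ • a = a → ∃ b ∈ pts U (U c ⊔ U (τ • c)), a ≠ b ∧ τ • b = b :=
      fun ha e => ex_ne_fix (fun _ hg _ hx => H.smul_mem hg hx) tn H.sq (H.ncard_even (H.blk ne) left_pt) ha e
    have hL : T1 (U c ⊔ U (τ • c)) := (H.blk ne).resolve_right fun hL => by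
      have tL := (H.tau2 hL left_pt tn).1
      obtain ⟨a, ha, e, -⟩ := H.j1_fix hL left_pt tL o
      obtain ⟨b, hb, hab, e'⟩ := two ha e
      exact (H.nt1' hL ha hb hab tL o e e' ▸ H.all1 hab e e').not_j1 hL
    obtain ⟨a, ha, e⟩ : ∃ a ∈ pts U (U c ⊔ U (τ • c)), τ • a = a := by
      by_contra! e
      have tL := H.inL (.inl hL) left_pt H.sq (H.inner_fpf hL left_pt tn (by rw [H.sq]; exact one_mem _) e)
      obtain ⟨y, hy, f⟩ := (H.f11 hL left_pt).four τ tL o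
      obtain ⟨g, -, e1⟩ := (H.f11 hL left_pt).one τ tL y hy o f.orderOf_eq'
      obtain ⟨k, -, e2⟩ := (H.f11 hL left_pt).one τ tL _ (mul_mem tL hy) o f.mul_right.orderOf_eq'
      exact h y (mem_cent1.2 f.comm.symm) ⟨g, e1⟩ ⟨k, e2⟩
    obtain ⟨b, hb, hab, e'⟩ := two ha e
    have eL := H.pair_eq hL ha hb hab
    rw [← Set.ncard_pair (a := (a, b)) (b := (b, a)) fun e => hab (congrArg Prod.fst e)]
    congr 1
    ext ⟨a', b'⟩
    refine ⟨fun ⟨⟨h1, h2, h3⟩, h4⟩ => ?_, ?_⟩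
    · dsimp only at h1 h2 h3 h4
      have e1 := (H.pair_eq (H.all1 h3 h1 h2) h4 (H.smul_mem (H.norm_pair h1 h2) h4) ne).symm.trans eL.symm
      rcases (fx hab e e').le ⟨e1 ▸ left_pt, h1⟩ with e2 | e2 <;>
        rcases (fx hab e e').le ⟨e1 ▸ right_pt, h2⟩ with e3 | e3
      exacts [(h3 (e2.trans e3.symm)).elim, .inl (Prod.ext e2 e3), .inr (Prod.ext e2 e3), (h3 (e2.trans e3.symm)).elim]
    · have hc' : c ∈ pts U (U a ⊔ U b) := by rw [eL]; exact left_pt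
      rintro (e1 | e1) <;> rw [e1]
      exacts [⟨⟨e, e', hab⟩, hc'⟩, ⟨⟨e', e, hab.symm⟩, pts_mono (sup_comm _ _).le hc'⟩]
  · obtain ⟨h1, h2, h3⟩ := hq
    have := Set.ncard_sdiff_add_ncard_of_subset (Set.sep_subset (pts U (U q.1 ⊔ U q.2)) fun x => τ • x = x)
    rw [(H.card1 (H.all1 h3 h1 h2) left_pt).1, show ∀ X : Set Ω, X \ {x ∈ X | τ • x = x} =
      {a ∈ {c : Ω | τ • c = c}ᶜ | a ∈ X} from fun X => Set.ext fun x => by simp [and_comm]; tauto, fx h3 h1 h2,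
      Set.ncard_pair h3] at this
    omega

theorem false2 : False := by
  obtain ⟨K, hK, F, le, tK, dec⟩ := H.exK o
  obtain ⟨u, hu, v, hv, f⟩ := hK.ex_four F
  have hV := f.four_le_iff.2 ⟨hu, hv⟩
  have tc : τ ∈ 𝐂(f.four) := le_cent1_iff.1 (hV.trans le)
  obtain ⟨T, hT, l⟩ := Syl.exists_ge (pgroup_sup (GW.four_pgroup f) (pg_inv H.sq) (norm_of_cent (zpowers_le.2 tc)))
    (sup_le (hV.trans le) (zpowers_le.2 (self_mem_cent1 τ)))
  have lV := le_sup_left.trans l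
  have tT := l (mem_sup_right (mem_zpowers τ))
  have eV : f.four = T ⊓ K :=
    (hK.syl_four f hu hv).eq_of_le_pgroup (le_inf lV hV) inf_le_right (pgroup_of_le hT.pgroup inf_le_left)
  have cen : ∀ x ∈ T, x ∈ f.four ∨ τ * x ∈ f.four := fun x hx =>
    (dec x (hT.le hx)).imp (fun e => eV ▸ ⟨hx, e⟩) fun e => eV ▸ ⟨mul_mem tT hx, e⟩
  have o4 : ∀ y ∈ f.four, y ≠ 1 → orderOf y = 2 := fun y hy => ord2 (f.mul_self_of_mem hy)
  have tt : ∀ x, τ * (τ * x) = x := fun x => by rw [← mul_assoc, H.sq, one_mul]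
  have c1 : ∀ y ∈ K, orderOf y = 2 → ∀ x ∈ K, orderOf x = 2 → (∃ g, g * τ * g⁻¹ = y) → ∃ g, g * τ * g⁻¹ = x := by
    rintro _ hy o1 x hx o2 ⟨g, rfl⟩
    obtain ⟨k, -, rfl⟩ := F.one _ hy x hx o1 o2
    exact ⟨k * g, by group⟩
  have c2 : ∀ y ∈ K, orderOf y = 2 → ∀ x ∈ K, orderOf x = 2 → (∃ g, g * τ * g⁻¹ = τ * y) → ∃ g, g * τ * g⁻¹ = τ * x := by
    rintro y hy o1 x hx o2 ⟨g, e⟩
    obtain ⟨k, hk, rfl⟩ := F.one _ hy x hx o1 o2
    exact ⟨k * g, by rw [show k * g * τ * (k * g)⁻¹ = k * (g * τ * g⁻¹) * k⁻¹ by group, e, ← mul_assoc,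
      mem_cent1.1 (le hk)]; group⟩
  have jτ : ∃ g, g * τ * g⁻¹ = τ := ⟨1, by simp⟩
  obtain ⟨a, h1⟩ := H.ex
  by_cases j1 : ∃ g, g * τ * g⁻¹ = u <;> by_cases j2 : ∃ g, g * τ * g⁻¹ = τ * u
  · have := H.simple
    refine H.not_j1 (j1_of_cls o hT (fun x hx x1 => ?_) ?_ H.five)
    · rcases cen x hx with e | e
      · exact c1 u hu f.orderOf_eq x (hV e) (o4 x e x1) j1
      by_cases e1 : τ * x = 1
      · exact eq_of_mul1 H.sq e1 ▸ jτ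
      exact tt x ▸ c2 u hu f.orderOf_eq _ (hV e) (o4 _ e e1) j2
    · have e := (SD.of_norm (norm_of_cent (zpowers_le.2 (le_cent1_iff.1 le))) (eq_bot_iff.2 fun x hx =>
        ((mem_zp2 H.sq).1 hx.2).resolve_right fun e => tK (e ▸ hx.1))).card
      refine Dvd.dvd.trans ?_ (card_dvd (sup_le le (zpowers_le.2 (self_mem_cent1 τ))))
      rw [← e, hK.card, Nat.card_zpowers, o]
      norm_num
  · obtain ⟨g, e⟩ := id j1
    have TC : T ≤ 𝐂[u] := fun x hx => (cen x hx).elim (fun e => cc (abelian_cent (GW.four_abelian f) f.left_mem) e)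
      fun e => tt x ▸ mul_mem (cc' tc f.left_mem) (cc (abelian_cent (GW.four_abelian f) f.left_mem) e)
    obtain ⟨c, hc, e1⟩ := Syl.exists_conj_le (conj_cent1 g τ ▸ hT.conj g) hT.pgroup (e ▸ TC)
    have key : ∀ y ∈ f.four, y ≠ 1 → τ * (g⁻¹ * c * (τ * y) * (g⁻¹ * c)⁻¹) ∈ K := fun y hy y1 => by
      have : g⁻¹ * c * (τ * y) * (g⁻¹ * c)⁻¹ ∈ T := by
        simpa only [mul_assoc, mul_inv_rev, inv_inv] using mem_conj.1 (e1 (conj_mem_conj.2 (mul_mem tT (lV hy))))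
      refine hV ((cen _ this).resolve_left fun e2 => j2 (c2 y (hV hy) (o4 y hy y1) u hu f.orderOf_eq ?_))
      obtain ⟨k, e3⟩ := c1 u hu f.orderOf_eq _ (hV e2) ((oconj ..).trans (ord2 (sq_mul H.sq (f.mul_self_of_mem hy)
        (cc tc hy)) fun e => tK (eq_of_mul1 H.sq e ▸ hV hy))) j1
      exact ⟨(g⁻¹ * c)⁻¹ * k, by rw [show (g⁻¹ * c)⁻¹ * k * τ * ((g⁻¹ * c)⁻¹ * k)⁻¹ =
        (g⁻¹ * c)⁻¹ * (k * τ * k⁻¹) * (g⁻¹ * c) by group, e3]; group⟩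
    have := mul_mem (inv_mem (key v f.right_mem f.ne_one')) (key _ (mul_mem f.right_mem f.left_mem)
      fun e => f.ne (eq_of_mul1 f.sq' e))
    rw [show (τ * (g⁻¹ * c * (τ * v) * (g⁻¹ * c)⁻¹))⁻¹ * (τ * (g⁻¹ * c * (τ * (v * u)) * (g⁻¹ * c)⁻¹)) =
      g⁻¹ * (c * u * c⁻¹) * g by group, ← e, conj_cc hc] at this
    exact tK (by simpa [mul_assoc] using this)
  · have cls : ∀ x ∈ 𝐂[τ], (∃ g, g * τ * g⁻¹ = x) → τ * x ∈ K := fun x hx e => (dec x hx).resolve_left fun e' =>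
      j1 (c1 x e' (let ⟨g, e⟩ := e; e ▸ (oconj ..).trans o) u hu f.orderOf_eq e)
    obtain ⟨r, hr, r1, r2⟩ := F.rho u hu v hv f
    refine TL.false ⟨o, hT, lV, fun x hx => ⟨fun e => eV ▸ ⟨mul_mem tT hx, cls x (hT.le hx) e⟩, fun e => ?_⟩, le hr, r1,
      r2, fun x hx _ => cen x hx⟩ fun S => H.h8 (H.v672 o fun x hx e e' => tK ?_) ?_ (H.syl h1)
        (zpowers_le.2 (self_mem_cent1 τ)) hT
    · by_cases e1 : τ * x = 1
      · exact eq_of_mul1 H.sq e1 ▸ jτ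
      exact tt x ▸ c2 u hu f.orderOf_eq _ (hV e) (o4 _ e e1) j2
    · exact (Subgroup.mul_mem_cancel_right _ (tt x ▸ cls _ (mul_mem (self_mem_cent1 τ) hx) e')).1 (cls x hx e)
    · rw [← (H.cardF o).2.2]
      congr 1
      ext c
      exact mem_orb.trans ⟨by rintro ⟨g, hg, rfl⟩; exact fix_of_comm hg h1, H.transF h1⟩
  · obtain ⟨b, hab, h2⟩ := H.exF h1
    have hL := H.all1 hab h1 h2
    obtain ⟨s, hs, sc, s1, s2⟩ := H.swapX h1 h2 hab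
    have so := (H.swap1 hL left_pt right_pt hab hs s1 s2).1
    have sq := sq_mul H.sq (sq2 so) sc
    have o' : orderOf (τ * s) = 2 := ord2 sq fun e => hab (h1.symm.trans (eq_of_mul1 H.sq e ▸ s1))
    obtain ⟨c, -, e⟩ : ∃ c ∈ pts U (U a ⊔ U b), (τ * s) • c = c := by
      by_contra! e
      exact H.fpf hL left_pt ((Subgroup.mul_mem_cancel_right _ hs).1 (H.inL (.inl hL) left_pt sq (H.inner_fpf hL left_pt
        (mul_mem (H.norm_pair h1 h2) (le_norm _ hs)) (by rw [sq]; exact one_mem _) e))) o h1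
    obtain ⟨g, e⟩ := H.conj_tau o' e
    have j : ∃ g, g * τ * g⁻¹ = τ * s := ⟨g⁻¹, by simpa [mul_assoc] using congrArg (g⁻¹ * · * g) e.symm⟩
    exact (dec s sc).elim (fun e => j2 (c2 s e so u hu f.orderOf_eq j)) fun e => j1 (c1 _ e o' u hu f.orderOf_eq j)

end Tau

end Cfsg.Lib.E11
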