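import Cfsg.Agent.Lib.E11.M
import Cfsg.Agent.Lib.Coprime.Action

/-! A transfer lemma for a soluble group with an element of order 11 with small centraliser. -/

set_option autoImplicit false
set_option linter.unusedSectionVars false

namespace Cfsg.Lib.E11

open Cfsg Subgroup MulAction Cfsg.Lib.Transfer Cfsg.Lib.BG Cfsg.Lib.Small Cfsg.Lib.Perm Cfsg.Lib.FGS

universe u

variable {G : Type*} [Group G] [Finite G] {C M W Q : Subgroup G} {g h x y : G} {p : ℕ}

theorem card_cent_quo [W.Normal] (hW : W ≤ C) (y : G) :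
    Nat.card ↥(C.map (QuotientGroup.mk' W) ⊓ 𝐂[QuotientGroup.mk' W y]) ≤ Nat.card ↥(C ⊓ 𝐂[y]) := by
  set K := C ⊓ (𝐂[QuotientGroup.mk' W y]).comap (QuotientGroup.mk' W)
  have e1 := ncard_hcl_mul K y
  have e2 : (hcl K y).ncard ≤ Nat.card W := by
    rw [← Nat.card_coe_set_eq]
    refine Nat.card_le_card_of_injective (fun x => ⟨x.1 * y⁻¹, ?_⟩) fun a b e => Subtype.ext (by simpa using e)
    obtain ⟨k, hk, e⟩ := x.2
    rw [← QuotientGroup.ker_mk' W, ← e, MonoidHom.mem_ker, map_mul, map_mul, map_mul, mem_cent1.1 hk.2]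
    simp
  have e3 := BG.card_mul_relIndex (show (QuotientGroup.mk' W).ker ≤ K from fun x hx =>
    ⟨hW (QuotientGroup.ker_mk' W ▸ hx), mem_comap.2 (hx ▸ one_mem _)⟩)
  rw [relIndex_ker, QuotientGroup.ker_mk', ← e1] at e3
  refine (card_le_of_le ?_).trans ((Nat.le_of_mul_le_mul_left (e3.le.trans (Nat.mul_le_mul_right _ e2))
    Nat.card_pos).trans (card_le_of_le (inf_le_inf_right _ inf_le_left)))
  rintro _ ⟨⟨c, hc, rfl⟩, e⟩
  exact ⟨c, ⟨hc, e⟩, rfl⟩

/-- The conjugation action. -/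
def Cj (G : Type*) := G

instance instMulActionCj : MulAction G (Cj G) := MulAction.compHom G (MulAut.conj (G := G))

instance instFiniteCj : Finite (Cj G) := ‹Finite G›

theorem ab_of_le [Fact p.Prime] (hQ : IsPGroup p Q) (h : Nat.card Q ≤ p ^ 2) : IsMulCommutative Q := by
  obtain ⟨k, hk⟩ := hQ.exists_card_eq
  rw [hk, Nat.pow_le_pow_iff_right (Fact.out : p.Prime).one_lt] at h
  rcases h.eq_or_lt with rfl | h
  · exact IsPGroup.isMulCommutative_of_card_eq_prime_sq hk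
  · exact abelian_of_cyclic (isCyclic_of_card_dvd_prime (p := p) (hk ▸ (pow_dvd_pow p (by omega)).trans (pow_one p).dvd))

theorem cf_cent [C.Normal] (hc : (Nat.card C).Coprime 10) (h5 : h ^ 5 = 1) (hy : y ∈ W) (o : orderOf y = 11)
    (yh : y ∈ 𝐂[h]) (h1 : Nat.card ↥(C ⊓ 𝐂[y]) ≤ 121) (h2 : ¬ 121 ∣ Nat.card ↥(C ⊓ 𝐂[h])) [hW : W.Normal] (hWC : W ≤ C)
    (ab : IsMulCommutative W) (min : ∀ L : Subgroup G, L.Normal → L ≤ W → L = ⊥ ∨ L = W) : C ≤ 𝐂[y] := by
  have := Fact.mk p11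
  have y11 := (Nat.card_zpowers y).trans o
  have sW : hcl C y ⊆ W := by rintro _ ⟨c, -, rfl⟩; exact hW.conj_mem y hy c
  have line : ∀ x ∈ hcl C y, ∀ z ∈ hcl C y, z ∈ zpowers x → z = x := by
    rintro _ ⟨c, hc1, rfl⟩ _ ⟨d, hd, rfl⟩ e
    have : c⁻¹ * d ∈ 𝐂(zpowers y) := cent_of_coprime p11 y11 (mem_normalizer_of_conj_le (by
      rw [conj_zpowers, zpowers_le, ← conj_mem_conj (g := c), conj_zpowers]
      simpa [mul_assoc] using e)) (by rw [orderOf_dvd_iff_pow_eq_one.1 (ord_dvd (mul_mem (inv_mem hc1) hd))]; exact one_mem _) hc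
    calc _ = c * (c⁻¹ * d * y * (c⁻¹ * d)⁻¹) * c⁻¹ := by group
      _ = _ := by rw [conj_cc (cent_le_cent1 (mem_zpowers y) this)]
  have oc : ∀ x ∈ hcl C y, orderOf x = 11 := by rintro _ ⟨c, -, rfl⟩; exact (oconj ..).trans o
  have wc : W ≤ C ⊓ 𝐂[y] := le_inf hWC (le_cent1_iff.2 (abelian_cent ab hy))
  have e1 : (hcl C y).ncard * 10 + 1 ≤ Nat.card W := by
    have lt : ∀ x ∈ hcl C y, ∀ i : Fin 10, i.1 + 1 < orderOf x := fun x hx i => by rw [oc x hx]; omega
    have := Set.ncard_le_ncard_of_injOn (s := hcl C y ×ˢ (Set.univ : Set (Fin 10))) (t := (W : Set G) \ {1})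
      (fun q => q.1 ^ (q.2.1 + 1)) (fun q hq => ⟨pow_mem (sW hq.1) _, pow_ne_one_of_lt_orderOf (by omega) (lt _ hq.1 _)⟩)
      fun ⟨x, i⟩ hq ⟨z, j⟩ hq' e => by
        obtain rfl := line x hq.1 z hq'.1 (zpowers_le.2 (show z ^ (j.1 + 1) ∈ zpowers x from
          (show x ^ (i.1 + 1) = z ^ (j.1 + 1) from e) ▸ pow_mem (mem_zpowers x) _)
          (mem_zpowers_pow_iff.2 (Nat.Coprime.symm (oc z hq'.1 ▸ Nat.coprime_of_lt_prime (by omega) (by omega) p11))))
        exact Prod.ext rfl (Fin.ext (by simpa using pow_injOn_Iio_orderOf (lt z hq.1 i) (lt z hq.1 j) e))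
    rw [Set.ncard_prod, Set.ncard_univ, Nat.card_fin, Set.ncard_sdiff_singleton_of_mem W.one_mem] at this
    have : 0 < (W : Set G).ncard := Nat.card_pos (α := W)
    change _ ≤ (W : Set G).ncard
    omega
  have y0 : y ∈ hcl C y := ⟨1, one_mem _, by simp⟩
  have e2 : (hcl C y).ncard % 5 = 1 := by
    have fx : ∀ x ∈ hcl C y, h * x * h⁻¹ = x → x = y := fun x hx ex => line y y0 x hx (by_contra fun e => h2 (by
      have x11 := (Nat.card_zpowers x).trans (oc x hx)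
      have := (SD.of_norm (norm_of_cent (zpowers_le.2 (cent_zpowers x ▸ cc (abelian_cent ab (sW hx)) hy)))
        (inf_eq_bot_of_prime (x11 ▸ p11) fun e' => e (e' (mem_zpowers x)))).card
      rw [x11, y11] at this
      exact (show 121 ∣ _ from this.dvd).trans <| card_dvd (sup_le (zpowers_le.2 ⟨hWC (sW hx), mem_cent1_symm (mem_cent1.2
        (mul_inv_eq_iff_eq_mul.1 ex))⟩) (zpowers_le.2 ⟨hWC hy, yh⟩))))
    have iv : ∀ g ∈ 𝐂[y], ∀ x ∈ hcl C y, g * x * g⁻¹ ∈ hcl C y := by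
      rintro g hg _ ⟨c, hc, rfl⟩
      exact ⟨g * c * g⁻¹, Normal.conj_mem ‹_› c hc g, by
        calc _ = g * (c * (g⁻¹ * y * g⁻¹⁻¹) * c⁻¹) * g⁻¹ := by group
          _ = _ := by rw [conj_cc (inv_mem hg)]⟩
    have := fix_modEq (G := G) (Ω := Cj G) (X := @hcl G _ C y) Nat.prime_five iv (mem_cent1_symm yh) (n := 1)
      fun x _ => by rw [pow_one, h5, one_smul]
    have e : {x ∈ hcl C y | h * x * h⁻¹ = x}.ncard = 1 := Set.ncard_eq_one.2
      ⟨y, Set.eq_singleton_iff_unique_mem.2 ⟨⟨y0, conj_cc (mem_cent1_symm yh)⟩, fun x hx => fx x hx.1 hx.2⟩⟩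
    exact this.symm.trans (congrArg (· % 5) e)
  have e3 := ncard_hcl_mul C y
  have e4 := card_le_of_le wc
  have e5 : ¬ 2 ∣ (hcl C y).ncard := fun e => by
    have := Nat.Coprime.coprime_dvd_left (e.trans ⟨_, e3.symm⟩) hc
    norm_num at this
  rcases (by omega : (hcl C y).ncard = 1 ∨ (hcl C y).ncard = 11) with e | e
  · rw [e, one_mul] at e3
    exact (eq_of_le_of_card_le inf_le_left e3.ge).ge.trans inf_le_right
  have e6 : 11 ∣ Nat.card W := o ▸ ord_dvd hy
  have pC : IsPGroup 11 C := IsPGroup.of_card (n := 3) (by rw [e] at e3; omega)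
  rcases min (W ⊓ 𝐂(C)) inferInstance inf_le_left with e' | e'
  · exact (nil_meet_center pC.isNilpotent hWC (le_normalizer_of_normal) (ne_bot_of_mem hy (by
      rintro rfl; simp at o)) e').elim
  · exact le_cent1_iff.2 (e'.ge hy).2

theorem cf (n : ℕ) : ∀ {G : Type u} [Group G] [Finite G] [Group.IsSolvable G] {C : Subgroup G} [C.Normal] {h y : G},
    Nat.card G = n → (Nat.card C).Coprime 10 → h ^ 5 = 1 → C ⊔ zpowers h = ⊤ → y ∈ C → orderOf y = 11 → y ∈ 𝐂[h] →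
    Nat.card ↥(C ⊓ 𝐂[y]) ≤ 121 → ¬ 121 ∣ Nat.card ↥(C ⊓ 𝐂[h]) → y ∉ ⁅(⊤ : Subgroup G), (⊤ : Subgroup G)⁆ := by
  induction n using Nat.strong_induction_on with
  | _ n ih =>
  intro G _ _ _ C _ h y hn hc h5 hG hy o yh h1 h2 hd
  have := Fact.mk p11
  have y1 : y ≠ 1 := by rintro rfl; simp at o
  obtain ⟨W, hW, le, W1, min⟩ := exists_minimal_normal_le C (ne_bot_of_mem hy y1)
  have ab : IsMulCommutative W := abelian_iff_der.2 ((min _ inferInstance (commutator_le_self W)).resolve_right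
    (Group.IsSolvable.commutator_lt_of_ne_bot W1).ne)
  by_cases yW : y ∈ W
  · have cy := cf_cent hc h5 yW o yh h1 h2 le ab min
    rw [inf_of_le_left cy] at h1
    obtain ⟨Q, hQ, l⟩ := Syl.exists_ge (M := ⊤) (pg_zpowers (p := 11) (n := 1) (o1 o)) le_top
    refine y1 (abT hQ (ab_of_le hQ.pgroup (le_trans (Nat.le_of_dvd Nat.card_pos ?_) h1)) (l (mem_zpowers y))
      (inf_le_left.trans (hG.ge.trans (sup_le cy (zpowers_le.2 (mem_cent1_symm yh))))) hd)
    obtain ⟨k, hk⟩ := hQ.pgroup.exists_card_eq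
    refine Nat.Coprime.dvd_of_dvd_mul_right (hk ▸ Nat.Coprime.pow_left k (by norm_num : Nat.Coprime 11 5))
      (((card_dvd (hQ.le.trans hG.ge)).trans (Coprime.card_sup_dvd le_normalizer_of_normal)).trans (mul_dvd_mul_left _ ?_))
    rw [Nat.card_zpowers]
    exact orderOf_dvd_of_pow_eq_one h5
  have sur := QuotientGroup.mk'_surjective W
  refine ih _ ?_ (G := G ⧸ W) (C := C.map (QuotientGroup.mk' W)) (h := QuotientGroup.mk' W h) (y := QuotientGroup.mk' W y)
    rfl (hc.coprime_dvd_left (card_map_dvd ..)) (by rw [← map_pow, h5, map_one])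
    (by rw [← MonoidHom.map_zpowers, ← Subgroup.map_sup, hG, map_top_of_surjective _ sur]) (mem_map_of_mem _ hy)
    (((Nat.dvd_prime p11).1 (o ▸ orderOf_map_dvd _ y)).resolve_left fun e =>
      yW ((QuotientGroup.eq_one_iff y).1 (orderOf_eq_one_iff.1 e)))
    (mem_cent1.2 (by rw [← map_mul, ← map_mul, mem_cent1.1 yh])) ((card_cent_quo le y).trans h1) (fun e => h2 (e.trans ?_))
    (by rw [← map_top_of_surjective _ sur, ← map_commutator]; exact mem_map_of_mem _ hd)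
  · rw [← hn, card_eq_card_quotient_mul_card_subgroup W]
    exact lt_mul_of_one_lt_right Nat.card_pos (one_lt_card_iff_ne_bot _ |>.2 W1)
  · rw [← cent_zpowers, ← MonoidHom.map_zpowers, Coprime.centralizer_map_mk' ?_ (.inl inferInstance), cent_zpowers]
    · refine (card_dvd ?_).trans (card_map_dvd _ (QuotientGroup.mk' W))
      rintro _ ⟨⟨c, hc, rfl⟩, d, hd, e⟩
      exact ⟨d, ⟨(C.mul_mem_cancel_right (le (QuotientGroup.eq.1 e))).1 (by simpa using hc), hd⟩, e⟩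
    · rw [Nat.card_zpowers]
      exact (((hc.coprime_dvd_right (by norm_num : 5 ∣ 10)).coprime_dvd_left (card_dvd le)).coprime_dvd_right
        (orderOf_dvd_of_pow_eq_one h5)).symm

end Cfsg.Lib.E11
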