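import Cfsg.Agent.Lib.E11.O

/-! The case of point stabilisers of odd order. -/

set_option autoImplicit false
set_option linter.unusedSectionVars false

namespace Cfsg.Lib.E11

open Cfsg Subgroup MulAction Cfsg.Lib.Transfer Cfsg.Lib.BG Cfsg.Lib.Small Cfsg.Lib.Perm Cfsg.Lib.FGS

variable {G Ω : Type*} [Group G] [Finite G] {A B C E K L M P Q S T V : Subgroup G} {g h k n r s t u v w x y z : G} {p : ℕ}

theorem card_subOf_dvd (C : Subgroup G) (x : M) : Nat.card ↥(C.subgroupOf M ⊓ 𝐂[x]) ∣ Nat.card ↥(C ⊓ 𝐂[x.1]) :=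
  (card_dvd (show C.subgroupOf M ⊓ 𝐂[x] ≤ (C ⊓ 𝐂[x.1]).subgroupOf M from fun _ hy =>
    ⟨hy.1, mem_cent1.2 (congrArg Subtype.val (mem_cent1.1 hy.2))⟩)).trans
    (card_comap_dvd_of_injective _ _ M.subtype_injective)

theorem c1 : x ∈ 𝐂[(1 : G)] := mem_cent1.2 (by simp)

variable [MulAction G Ω] [Finite Ω] {U : Ω → Subgroup G} {a b c d : Ω} {X : Set Ω}

theorem Geo.eq_of_pg (H : Geo U) (hP : IsPGroup 11 P) (ha : U a ≤ P) (hb : U b ≤ P) : a = b := by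
  by_contra e
  have := Fact.mk p11
  obtain ⟨k, hk⟩ := (pgroup_of_le hP (sup_le ha hb)).exists_card_eq
  have : 2 ∣ 11 ^ k := by rcases (H.blk e).card with e | e <;> rw [← hk, e] <;> norm_num
  exact absurd (Nat.prime_two.dvd_of_dvd_pow this) (by norm_num)

theorem Geo.pg_cent (H : Geo U) (hP : IsPGroup 11 P) (ha : U a ≤ P) : P ≤ 𝐂(U a) := fun x hx => by
  obtain ⟨n, hn⟩ := pg_elt hP hx
  exact cent_of_coprime p11 (H.card a) (H.nrm (H.eq_of_pg hP (H.eqv x a ▸ conj_le_of_norm ha (le_norm P hx)) ha))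
    (hn ▸ one_mem _) (Nat.Coprime.pow_left n (by norm_num))

namespace Tau
variable (H : Tau U 1)
include H

theorem t1 (hab : a ≠ b) : T1 (U a ⊔ U b) := H.all1 hab (one_smul ..) (one_smul ..)

theorem two1 (hab : a ≠ b) (hcd : c ≠ d) : ∃ x : G, x • a = c ∧ x • b = d :=
  let ⟨x, _, e⟩ := H.twoF hab hcd (one_smul ..) (one_smul ..) (one_smul ..) (one_smul ..); ⟨x, e⟩

theorem fpf1 (o : orderOf s = 2) : s • a ≠ a := fun e =>
  ne2 o (by simpa using H.two_elt (one_smul ..) c1 e (n := 1) (o1 o))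

theorem oddM (a : Ω) : Odd (Nat.card (stabilizer G a)) := by
  by_contra e
  obtain ⟨t, ht, o⟩ := exists_ord Nat.prime_two (Nat.not_odd_iff_even.1 e).two_dvd
  exact H.fpf1 o ht

theorem cop10 (a : Ω) : (Nat.card 𝐂(U a)).Coprime 10 :=
  Nat.Coprime.mul_right (Nat.coprime_two_right.2 (H.oddC a)) (Nat.prime_five.coprime_iff_not_dvd.2 fun e =>
    let ⟨_, hy, o⟩ := exists_ord Nat.prime_five e; ne5 o (H.c5 (one_smul ..) c1 hy (o1 o))).symm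

theorem dec1 (hL : T1 L) (ha : a ∈ pts U L) (hx : x ∈ 𝐍(L)) : ∃ k ∈ L, ∃ z ∈ 𝐂(L), k * z = x :=
  mem_KC.1 ((H.nKC (.inl hL) ha (one_smul ..) (one_mem _) hx).elim id (by rw [one_mul]; exact id))

theorem kx1 (hL : T1 L) (ha : a ∈ pts U L) (hy : y ∈ 𝐂(L)) (y1 : y ≠ 1) : L = Kx U y := by
  have le := H.le_Kx (.inl hL) ha hy
  refine Blk.eq_of_le (.inl hL) ((H.blkK' y1 (.inl hL) ha hy).resolve_right fun e => ?_) le
  obtain ⟨u, hu, o⟩ := exists_ord Nat.prime_two (K := L) (by rw [hL.card]; norm_num)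
  obtain ⟨d, -, e, -⟩ := H.j1_fix e (pts_mono le ha) (le hu) o
  exact H.fpf1 o e

theorem cy1 (hL : T1 L) (ha : a ∈ pts U L) (hy : y ∈ 𝐂(L)) (y1 : y ≠ 1) : 𝐂[y] ≤ 𝐍(L) :=
  H.kx1 hL ha hy y1 ▸ H.norm_Kx y

theorem ti1 (hL : T1 L) (ha : a ∈ pts U L) (hK : T1 K) (hb : b ∈ pts U K) (hne : L ≠ K) (hy : y ∈ 𝐂(L)) (hy' : y ∈ 𝐂(K)) :
    y = 1 := by_contra fun y1 => hne ((H.kx1 hL ha hy y1).trans (H.kx1 hK hb hy' y1).symm)

theorem fh1 (hab : a ≠ b) (o : orderOf h = 5) (h3 : h • a = a) (h4 : h • b = b) (h6 : h • c = c) : c = a ∨ c = b :=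
  H.fh hab (one_smul ..) (one_smul ..) o c1 h3 h4 (one_smul ..) h6

theorem in5 (hL : T1 L) (ha : a ∈ pts U L) (hx : x ∈ 𝐍(L)) (h5 : x ^ 5 = 1) : x ∈ L := by
  obtain ⟨k, hk, z, hz, rfl⟩ := H.dec1 hL ha hx
  rwa [H.c5 (one_smul ..) c1 (cent_anti ha hz) (Blk.pow_part (.inl hL) hk hz h5).2, mul_one]

theorem pow5 (hg : g • a = a) : g ^ 5 ∈ 𝐂(U a) := by
  obtain ⟨m, hm⟩ := (H.oddM a).of_dvd_nat (ord_dvd (show g ∈ stabilizer G a from hg))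
  have := pow_mem (pow_mem_cent p11 (H.card a) (H.nrm hg)) (m + 1)
  rwa [← pow_mul, show (11 - 1) * (m + 1) = (2 * m + 1) * 5 + 5 by ring, pow_add, pow_mul, ← hm, pow_orderOf_eq_one,
    one_pow, one_mul] at this

theorem dec_ab1 (hab : a ≠ b) (e1 : x • a = a) (e2 : x • b = b) : ∃ k ∈ U a ⊔ U b, ∃ z ∈ 𝐂(U a ⊔ U b),
    x = k * z ∧ k • a = a ∧ k • b = b ∧ k ^ 5 = 1 := by
  obtain ⟨e, he, k, hk, z, hz, -, -, rfl, e1, e2, e3, -⟩ := H.dec_ab (one_smul ..) (one_smul ..) hab c1 e1 e2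
  exact ⟨k, hk, z, hz, by rw [show e = 1 by simpa using he, one_mul], e1, e2, e3⟩

theorem false_a1 (h : ∀ {a b : Ω}, a ≠ b → ∀ y ∈ 𝐂(U a ⊔ U b), y = 1) : False := by
  obtain ⟨a, b, hab⟩ := H.ex2
  have hL := H.t1 hab
  obtain ⟨c, hc⟩ := H.ex_out (.inl hL)
  have v : 12 < Nat.card Ω := by
    rw [← (H.card1 hL left_pt).1, ← Set.ncard_univ]
    exact Set.ncard_lt_ncard ⟨Set.subset_univ _, fun e => hc (e trivial)⟩
  have Z : ZT G Ω := ⟨fun _ _ _ _ => H.two1, fun g a b c h1 h2 h3 e1 e2 e3 => by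
    obtain ⟨k, -, z, hz, rfl, k1, k2, k5⟩ := H.dec_ab1 h1 e1 e2
    rw [h h1 z hz, mul_one] at e3 ⊢
    by_contra e
    exact (H.fh1 h1 (ord5 k5 e) k1 k2 e3).elim h3.symm h2.symm, by omega⟩
  obtain ⟨k, -, o, k1, k2⟩ := H.ex5 hL left_pt right_pt hab
  have := H.simple
  have := large_of_odd (Nat.even_iff.2 H.even) hab _ G ⟨Z.faithful, Z.mt2, Z.three, ⟨k, ne5 o, a, b, hab, k1, k2⟩,
    fun N hN tr => by
      rcases hN.eq_bot_or_eq_top with rfl | rfl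
      · obtain ⟨⟨n, hn⟩, e⟩ := tr.exists_smul_eq a b
        exact (hab (by rw [← e, show (⟨n, hn⟩ : (⊥ : Subgroup G)) = 1 from Subtype.ext hn, one_smul])).elim
      · exact ⟨a, ne_bot_of_mem (x := ⟨k, trivial⟩) k1 fun e => ne5 o (congrArg Subtype.val e)⟩⟩ rfl
  have : Nat.card (stab2 G a b) ≤ 5 := H.card5 hL left_pt right_pt hab ▸ card_le_of_le fun x hx => by
    obtain ⟨k, hk, z, hz, rfl, -⟩ := H.dec_ab1 hab hx.1 hx.2
    rw [h hab z hz, mul_one] at hx ⊢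
    exact ⟨⟨hk, hx.1⟩, hx.2⟩
  omega

theorem false_a2 (hL : T1 L) (ha : a ∈ pts U L) (hK : T1 K) (ha' : a ∈ pts U K) (hne : L ≠ K) (hy : y ∈ 𝐂(L))
    (o : orderOf y = 11) (yK : y ∈ 𝐍(K)) : False := by
  have := Fact.mk p11
  have y1 : y ≠ 1 := by rintro rfl; simp at o
  have yC := cent_anti ha hy
  have y11 := (Nat.card_zpowers y).trans o
  obtain ⟨u, hu, z, hz, e⟩ := H.a3 (.inl hK) ha' yK yC
  have z1 : z ≠ 1 := by
    rintro rfl
    exact y1 (Blk.eq_one (.inl hL) (e ▸ mul_mem (ha hu) (one_mem _)) hy)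
  have h1 : Nat.card ↥(𝐂(U a) ⊓ 𝐂[y]) ≤ 121 := by
    choose f f1 g g1 e1 using fun x : ↥(𝐂(U a) ⊓ 𝐂[y]) => H.a3 (.inl hL) ha (H.cy1 hL ha hy y1 x.2.2) x.2.1
    choose f' f2 g' g2 e2 using fun x : ↥(𝐂(U a) ⊓ 𝐂[y]) => H.a3 (.inl hK) ha' (H.cy1 hK ha' hz z1 (by
      rw [eq_inv_mul_iff_mul_eq.2 e.symm]
      exact cmul (cc' x.2.1 (inv_mem hu)) x.2.2)) x.2.1
    refine (Nat.card_le_card_of_injective (β := U a × U a) (fun x => (⟨f x, f1 x⟩, ⟨f' x, f2 x⟩)) fun x w e => ?_).trans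
      (by rw [Nat.card_prod, H.card])
    have e3 : f x = f w := congrArg (·.1.1) e
    have e4 : f' x = f' w := congrArg (·.2.1) e
    refine Subtype.ext (inv_mul_eq_one.1 (H.ti1 hL ha hK ha' hne ?_ ?_))
    · simpa [e1 x, e1 w, e3] using mul_mem (inv_mem (g1 x)) (g1 w)
    · simpa [e2 x, e2 w, e4] using mul_mem (inv_mem (g2 x)) (g2 w)
  have h2 : zpowers y = 𝐂(L) ⊓ 𝐂[y] := eq_of_le_of_card_le (zpowers_le.2 ⟨hy, self_mem_cent1 y⟩) (by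
    have e1 := (SD.of_norm (norm_of_cent (inf_le_left.trans (cent_anti ha) : 𝐂(L) ⊓ 𝐂[y] ≤ 𝐂(U a)))
      (eq_bot_iff.2 fun x hx => Blk.eq_one (.inl hL) (ha hx.1) hx.2.1)).card
    have e2 := card_le_of_le (sup_le (le_inf (H.le_cent a) (le_cent1_iff.2 yC)) (inf_le_inf_right 𝐂[y] (cent_anti ha)))
    rw [← e1, H.card] at e2
    omega)
  have sy : Syl 11 (zpowers y) 𝐂(L) := Syl.of_norm (Syl.of_max (le_inf (zpowers_le.2 hy) (le_norm _))
    (pg_zpowers (n := 1) (o1 o)) fun Q _ _ l x hx => h2 ▸ ⟨(l hx).1, cent_le_cent1 (mem_zpowers y) (cent_of_coprime p11 y11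
      (l hx).2 (pow_orderOf_eq_one x ▸ one_mem _) ((H.cop10 a).coprime_dvd_left (ord_dvd (cent_anti ha (l hx).1))))⟩)
  obtain ⟨b, hb, hab⟩ := H.exists_ne (.inl hL) ha
  obtain ⟨h, hh, o5, h3, h4⟩ := H.ex5 hL ha hb hab.symm
  have h5 : ¬ 121 ∣ Nat.card ↥(𝐂(U a) ⊓ 𝐂[h]) := fun e => sy.not_dvd' (by
    have := e.trans (card_dvd (show _ ≤ 𝐂(L) from fun x hx => H.pair_eq hL ha hb hab.symm ▸ H.a2 hab.symm hx.1
      ((H.fh1 hab.symm o5 h3 h4 (fix_of_comm hx.2 h4)).resolve_left fun e =>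
        hab (smul_left_cancel x (e.trans (H.cfix hx.1).symm)))))
    rw [← BG.card_mul_relIndex sy.le, y11] at this
    exact Nat.dvd_of_mul_dvd_mul_left (by norm_num : 0 < 11) this)
  have := GW.odd_sol (H.oddM a)
  have : (𝐂(U a).subgroupOf (stabilizer G a)).Normal := normal_subgroupOf_of_le_normalizer (H.stab a ▸ norm_cent le_rfl)
  refine cf _ (C := 𝐂(U a).subgroupOf (stabilizer G a)) (h := ⟨h, h3⟩) (y := ⟨y, H.cfix yC⟩) rfl
    ((H.cop10 a).coprime_dvd_left (card_comap_dvd_of_injective _ _ (subtype_injective _))) (Subtype.ext (o1 o5))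
    (eq_top_iff.2 fun g _ => ?_) yC ((orderOf_coe _).symm.trans o) (mem_cent1.2 (Subtype.ext (mem_cent1.1 (cc' hy hh))))
    ((Nat.le_of_dvd Nat.card_pos (card_subOf_dvd ..)).trans h1) (fun e => h5 (e.trans (card_subOf_dvd ..))) ?_
  · obtain ⟨i, hi⟩ := exists_pow_five (H.card a) (H.nrm h3) (o1 o5 ▸ one_mem _) (H.nc (.inl hL) ha hh o5 (by norm_num))
      (H.nrm g.2) (H.pow5 g.2)
    rw [← mul_inv_cancel_left (⟨h, h3⟩ ^ i) g]
    exact mul_mem (mem_sup_right (pow_mem (mem_zpowers _) i)) (mem_sup_left hi)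
  obtain ⟨P, hP, l⟩ := Syl.exists_ge (M := ⊤) (pgroup_sup (IsPGroup.of_card (n := 1) (H.card a)) sy.pgroup
    (norm_of_cent (zpowers_le.2 yC))) le_top
  obtain ⟨P, rfl⟩ := Syl.top_iff_sylow.1 hP
  have l1 := le_sup_left.trans l
  have := gruen_commutator_inf P (cent_symm (H.pg_cent P.2 l1)) ⟨l1, fun g e => by
    rw [← H.eqv] at e ⊢
    rw [H.eq_of_pg P.2 e l1]⟩
  have := (this.le ⟨commutator_def G ▸ H.perf.symm ▸ mem_top y, l (mem_sup_right (mem_zpowers y))⟩).1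
  rw [← H.stab, ← map_subtype_commutator] at this
  obtain ⟨x, hx, e⟩ := this
  exact (show x = ⟨y, H.cfix yC⟩ from Subtype.ext e) ▸ hx

end Tau

end Cfsg.Lib.E11
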