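import Cfsg.Agent.Lib.E11.P
import Cfsg.Agent.Lib.E11.N
import Cfsg.Agent.Lib.Frobenius.TIFN

/-! The end of the simple case. -/

set_option autoImplicit false
set_option linter.unusedSectionVars false

namespace Cfsg.Lib.E11

open Cfsg Subgroup MulAction Cfsg.Lib.Transfer Cfsg.Lib.BG Cfsg.Lib.Small Cfsg.Lib.Perm Cfsg.Lib.FGS

variable {G Ω : Type*} [Group G] [Finite G] {A B C E K L M P Q S T V : Subgroup G} {g h k n r s t u v w x y z τ : G} {p : ℕ}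
  [MulAction G Ω] [Finite Ω] {U : Ω → Subgroup G} {a b c d : Ω} {X : Set Ω}

namespace Tau
variable (H : Tau U 1)
include H

theorem nrm11 (hL : T1 L) (ha : a ∈ pts U L) (hP : IsPGroup 11 P) (le : P ≤ 𝐂(U a) ⊓ 𝐍(L)) (h : ¬ P ≤ U a)
    (h1 : n • a = a) (hn : n ∈ 𝐍(P)) : n ∈ 𝐍(L) := by
  have := Fact.mk p11
  obtain ⟨x, hx, x1⟩ := SetLike.not_le_iff_exists.1 h
  obtain ⟨u, hu, z, hz, rfl⟩ := H.a3 (.inl hL) ha (le hx).2 (le hx).1
  obtain ⟨k, hk⟩ := pg_elt hP hx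
  obtain ⟨w, hw, o⟩ := exists_ord_p (pg_zpowers (Blk.pow_part (.inl hL) (ha hu) hz hk).2)
    (zpowers_ne_bot.2 (by rintro rfl; exact x1 (by rwa [mul_one])))
  have e : n * z * n⁻¹ ∈ 𝐍(L) := (Subgroup.mul_mem_cancel_left _ (le_norm L (ha (conj_mem_of_norm (H.nrm h1) hu)))).1
    (by simpa [mul_assoc] using (le (conj_mem_of_norm hn hx)).2)
  exact norm_of_conj_eq (by_contra fun e' => H.false_a2 (hL.conj n) (h1 ▸ H.smul_pts ha n) hL ha e'
    (conj_centralizer n L ▸ conj_mem_conj.2 (zpowers_le.2 hz hw)) ((oconj ..).trans o)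
    (zpowers_le.2 e (conj_zpowers n z ▸ conj_mem_conj.2 hw)))

theorem false_a3 (hL : T1 L) (ha : a ∈ pts U L) (hy : y ∈ 𝐂(L)) (o : orderOf y = 11) : False := by
  have := Fact.mk p11
  have y1 : y ≠ 1 := by rintro rfl; simp at o
  have y11 := (Nat.card_zpowers y).trans o
  obtain ⟨S, hS, l⟩ := Syl.exists_ge (pg_zpowers (p := 11) (n := 1) (o1 o)) (zpowers_le.2 hy)
  have SC := hS.le.trans (cent_anti ha)
  have cyc : IsCyclic S := by
    by_contra e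
    obtain ⟨E, hE⟩ := exists_elem_of_le_rk (k := 2) (not_le.1 (mt (cyclic_of_rk_le_one (by norm_num) hS.pgroup) e))
    have := se (B := 𝐂(U a) ⊓ 𝐍(L)) (GW.odd_sol (H.oddC a)) inf_le_left (hE.mono SC) (fun e he e1 =>
      inf_le_inf_left _ (H.cy1 hL ha (hS.le (hE.le he)) e1)) fun Q hQ pQ => (em (Q ≤ U a)).imp cent_anti
        fun e n hn => ⟨hn.1, H.nrm11 hL ha pQ hQ e (H.cfix hn.1) hn.2⟩
    obtain ⟨b, hb, hab⟩ := H.exists_ne (.inl hL) ha
    obtain ⟨c, hc⟩ := H.ex_out (.inl hL)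
    obtain ⟨h, hh, o5, h3, -⟩ := H.ex5 hL ha hb hab.symm
    obtain ⟨g, g1, rfl⟩ := H.two1 hab.symm (show a ≠ c by rintro rfl; exact hc ha)
    obtain ⟨i, hi⟩ := exists_pow_five (H.card a) (H.nrm h3) (o1 o5 ▸ one_mem _) (H.nc (.inl hL) ha hh o5 (by norm_num))
      (H.nrm g1) (H.pow5 g1)
    exact hc (H.smul_mem ((Subgroup.mul_mem_cancel_left _ (inv_mem (pow_mem (le_norm L hh) i))).1 (this hi).2) hb)
  have pR := pgroup_sup (IsPGroup.of_card (n := 1) (H.card a)) hS.pgroup (norm_of_cent SC)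
  have nL : ∀ n ∈ 𝐍(U a ⊔ S), n ∈ 𝐍(L) := fun n hn => H.nrm11 hL ha pR (sup_le (le_inf (H.le_cent a) (ha.trans (le_norm L)))
    (le_inf SC (hS.le.trans (cent_le_norm L)))) (fun e => y1 (Blk.eq_one (.inl hL)
      (ha (e (mem_sup_right (l (mem_zpowers y))))) hy))
    (H.eq_of_pg pR (H.eqv n a ▸ conj_le_of_norm le_sup_left hn) le_sup_left) hn
  have eS : ∀ {Q : Subgroup G}, IsPGroup 11 Q → U a ⊔ S ≤ Q → S = Q ⊓ 𝐂(L) := fun hQ l =>
    hS.eq_of_le_pgroup (le_inf (le_sup_right.trans l) hS.le) inf_le_right (pgroup_of_le hQ inf_le_left)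
  refine y1 (abT (M := ⊤) (Syl.of_norm (Syl.of_max (le_inf le_top (le_norm _)) pR fun Q hQ l1 l2 x hx => ?_))
    (abelian_sup (abelian_iff.2 (H.le_cent a)) (abelian_of_cyclic cyc) (cent_symm SC)) (mem_sup_right (l (mem_zpowers y)))
    (fun n hn => ?_) (H.perf.symm ▸ mem_top y))
  · obtain ⟨u, hu, z, hz, rfl⟩ := H.a3 (.inl hL) ha (nL x (l2 hx).2) (H.pg_cent hQ (le_sup_left.trans l1) hx)
    exact mul_mem_sup hu (eS hQ l1 ▸ ⟨(Q.mul_mem_cancel_left (l1 (mem_sup_left hu))).1 hx, hz⟩)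
  · have e : n ∈ 𝐍(zpowers y) := norm_of_conj_eq (cyclic_eq_of_card cyc (conj_le_of_norm l (by
      rw [eS pR le_rfl]; exact norm_inf (zpowers_le.2 hn.2) (norm_cent (zpowers_le.2 (nL n hn.2))) (mem_zpowers n))) l
      (card_conj ..))
    obtain ⟨k, hk, z, hz, rfl⟩ := H.dec1 hL ha (nL n hn.2)
    have kc : k ∈ 𝐂(zpowers y) := cent_zpowers y ▸ cc hy hk
    rw [← cent_zpowers]
    exact mul_mem kc (cent_of_coprime p11 y11 ((Subgroup.mul_mem_cancel_left _ (cent_le_norm _ kc)).1 e)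
      (pow_orderOf_eq_one z ▸ one_mem _) ((H.cop10 a).coprime_dvd_left (ord_dvd (cent_anti ha hz))))

theorem ex_lam (hL : T1 L) (ha : a ∈ pts U L) (hy : y ∈ 𝐂(L)) (y1 : y ≠ 1) :
    ∃ lam : stabilizer G a →* ℂˣ, lam ≠ 1 ∧ ∀ m, m.1 ^ 5 = 1 → lam m = 1 := by
  obtain ⟨N, hN, e1, e2, -⟩ := Frobenius.wielandt (G := stabilizer G a) (H := 𝐍(L).subgroupOf _) (H₀ := L.subgroupOf _)
    (comap_mono (le_norm L)) (subOf_le_norm le_rfl _) fun g hg x hx e => by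
      obtain ⟨k, hk, z, hz, ex⟩ := H.dec1 hL ha (x := x.1) hx
      have zC := cent_anti ha hz
      have n11 : ¬ 11 ∣ orderOf z := fun e => let ⟨w, hw, o⟩ := exists_ord p11 (K := zpowers z) (by rwa [Nat.card_zpowers])
        H.false_a3 hL ha (zpowers_le.2 hz hw) o
      have k55 : k ^ 55 = 1 := orderOf_dvd_iff_pow_eq_one.1 ((H.card1 hL ha).2 ▸ ord_dvd (K := L ⊓ stabilizer G a)
        ⟨hk, (Subgroup.mul_mem_cancel_right _ (show z ∈ stabilizer G a from H.cfix zC)).1 (ex ▸ x.2)⟩)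
      have a' : a ∈ pts U (g.1⁻¹ ⋆ L) := by simpa only [inv_fix g.2] using H.smul_pts ha g.1⁻¹
      have x55 : x.1 ^ 55 = z ^ 55 := by rw [← ex, Commute.mul_pow (mem_cent1.1 (cc hz hk)), k55, one_mul]
      have := H.ti1 hL ha (hL.conj g.1⁻¹) a' (fun e => hg (inv_mem_iff.1 (norm_of_conj_eq e.symm))) (pow_mem hz 55)
        (H.a3' (.inl (hL.conj _)) a' (x55 ▸ pow_mem (conj_normalizer g.1⁻¹ L ▸ mem_conj.2 (by rw [inv_inv]; exact e)) 55) (pow_mem zC 55)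
          (n := orderOf z) (by rw [← pow_mul, mul_comm, pow_mul, pow_orderOf_eq_one, one_pow]) n11)
      have : z = 1 := orderOf_eq_one_iff.1 (Nat.eq_one_of_dvd_coprimes
        (Nat.Coprime.mul_right (((H.cop10 a).coprime_dvd_left (ord_dvd zC)).coprime_dvd_right (by norm_num : 5 ∣ 10))
          (p11.coprime_iff_not_dvd.2 n11).symm) dvd_rfl (orderOf_dvd_of_pow_eq_one this))
      change x.1 ∈ L
      rwa [← ex, this, mul_one]
  have := GW.odd_sol (H.oddM a)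
  have : Nontrivial (stabilizer G a ⧸ N) := QuotientGroup.nontrivial_iff.2 (by
    rintro rfl
    exact y1 (Blk.eq_one (.inl hL) (e2.le (show ⟨y, H.cfix (cent_anti ha hy)⟩ ∈ _ from ⟨trivial, cent_le_norm L hy⟩)) hy))
  obtain ⟨l, hl⟩ := Frobenius.exists_hom_ne_one_of_isSolvable (stabilizer G a ⧸ N)
  refine ⟨l.comp (QuotientGroup.mk' N), fun e => hl (MonoidHom.ext fun x => ?_), fun m hm => ?_⟩
  · obtain ⟨x, rfl⟩ := QuotientGroup.mk'_surjective N x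
    exact DFunLike.congr_fun e x
  · rw [MonoidHom.comp_apply, QuotientGroup.mk'_apply, (QuotientGroup.eq_one_iff m).2 ((e1 m).2 fun g hg =>
      H.in5 hL ha hg (by change (g.1 * m * g.1⁻¹) ^ 5 = 1; rw [conj_pow, hm]; simp)), map_one]

theorem false_a4 (hab : a ≠ b) (hy : y ∈ 𝐂(U a ⊔ U b)) (y1 : y ≠ 1) : False := by
  have := Fintype.ofFinite G
  have hL := H.t1 hab
  obtain ⟨lam, l1, l5⟩ := H.ex_lam hL left_pt hy y1
  obtain ⟨s, hs, s1, s2⟩ := H.ex_swap hL left_pt right_pt hab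
  have so := (H.swap1 hL left_pt right_pt hab hs s1 s2).1
  have : IsPretransitive G Ω := ⟨H.trans_all⟩
  obtain ⟨n, hn⟩ : ∃ n, Nat.card Ω = n + 1 := ⟨_, (Nat.succ_pred_eq_of_pos (Nat.card_pos_iff.2 ⟨⟨a⟩, ‹_›⟩)).symm⟩
  have fb : ∀ {m : G}, s⁻¹ * m * s ∈ stabilizer G a ↔ m • b = b := by
    intro m
    rw [mem_stabilizer_iff, mul_smul, mul_smul, s1, inv_smul_eq_iff, s1]
  have e1 := ncard_orbit (stabilizer G a) b
  rw [show orbit (stabilizer G a) b = Set.univ \ {a} from Set.ext fun c => mem_orb.trans ⟨by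
    rintro ⟨g, hg, rfl⟩
    exact ⟨trivial, fun e => hab (smul_left_cancel g (hg.trans (Eq.symm e)))⟩, fun e =>
      let ⟨g, e⟩ := H.two1 hab (Ne.symm e.2); ⟨g, e⟩⟩, Set.ncard_sdiff_singleton_of_mem (Set.mem_univ a), Set.ncard_univ, hn,
    Nat.add_sub_cancel] at e1
  have e5 := H.f5
  rw [show {c : Ω | (1 : G) • c = c} = Set.univ by simp, Set.ncard_univ] at e5
  have e11 := H.mod11 (a := a) (X := Set.univ) trivial fun _ _ _ _ => trivial
  rw [Set.ncard_univ] at e11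
  refine hecke (n := n) (sq2 so) (fun g hg => ?_) ((index_stabilizer_of_transitive G a).trans hn) (e1.symm.trans ?_)
    (fun x => H.fpf1 ((oconj ..).trans so)) H.perf lam l1 (fun m hm => ?_) (fun x g hm => l5 _ ?_) p11 (by omega)
    fun q hq qn => ?_
  · obtain ⟨c, c1, c2⟩ := H.two1 hab (Ne.symm hg)
    exact ⟨c, c1, s⁻¹ * c⁻¹ * g, by
      rw [mem_stabilizer_iff, mul_smul, mul_smul, ← c2, inv_smul_smul, inv_smul_eq_iff, s1], by group⟩
  · exact congrArg _ (Nat.card_congr ⟨fun x => ⟨⟨x.1, x.2.1⟩, fb.2 x.2.2⟩, fun x => ⟨x.1.1, x.1.2, fb.1 x.2⟩,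
      fun _ => rfl, fun _ => rfl⟩)
  · obtain ⟨k, hk, z, hz, e, k1, k2, k5⟩ := H.dec_ab1 hab m.2 (fb.1 hm)
    have zM : z ∈ stabilizer G a := H.czfix hz left_pt
    rw [show (⟨_, hm⟩ : stabilizer G a) = ⟨s⁻¹ * k * s, fb.2 k2⟩ * ⟨z, zM⟩ from Subtype.ext (by
        change s⁻¹ * m * s = s⁻¹ * k * s * z
        rw [e, mul_assoc, mul_assoc, mul_assoc, mul_assoc, mem_cent.1 hz s hs]), map_mul, l5 _ (by
          change (s⁻¹ * k * s) ^ 5 = 1
          rw [show s⁻¹ * k * s = s⁻¹ * k * s⁻¹⁻¹ by rw [inv_inv], conj_pow, k5]; simp),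
      show m = ⟨k, k1⟩ * ⟨z, zM⟩ from Subtype.ext e, map_mul, l5 ⟨k, k1⟩ k5]
  · have ot := (oconj g⁻¹ s).trans so
    have inv : g⁻¹ * s * g⁻¹⁻¹ * (g⁻¹ * (x * s * x⁻¹ * s) * g) * (g⁻¹ * s * g⁻¹⁻¹)⁻¹ = (g⁻¹ * (x * s * x⁻¹ * s) * g)⁻¹ := by
      simp [mul_assoc, inv_eq_of_mul_eq_one_right (sq2 so), ← mul_assoc s s, sq2 so]
    change (g⁻¹ * (x * s * x⁻¹ * s) * g) ^ 5 = 1
    generalize g⁻¹ * (x * s * x⁻¹ * s) * g = m at *
    generalize g⁻¹ * s * g⁻¹⁻¹ = t at *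
    have ne := (H.fpf1 (a := a) ot).symm
    obtain ⟨k, hk, z, hz, rfl, -, -, k5⟩ := H.dec_ab1 ne hm (by
      rw [← inv_smul_eq_iff.1 (show m⁻¹ • t • a = t • a by rw [← inv]; exact conj_fix hm t)])
    have tL := H.inL (.inl (H.t1 ne)) left_pt (sq2 ot) (mem_KC.2 (H.dec1 (H.t1 ne) left_pt
      (H.norm_swap rfl (by rw [← mul_smul, sq2 ot, one_smul]))))
    have := (Blk.uniq (H.blk ne) (mul_mem (mul_mem tL hk) (inv_mem tL)) hz (inv_mem hk) (inv_mem hz) (by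
      rw [mem_cent.1 (inv_mem hz) _ (inv_mem hk), ← mul_inv_rev, ← inv, mul_assoc _ _ z, mem_cent.1 hz _ (inv_mem tL)]
      group)).2
    rw [H.zsq' (cent_anti le_sup_left hz) (mul_eq_one_iff_eq_inv.2 this), mul_one, k5]
  have q5 : q ≠ 5 := by rintro rfl; omega
  have o5 : ∀ {x : G}, orderOf x = q → orderOf (x ^ 5) = q := fun o =>
    (Nat.Coprime.orderOf_pow (o ▸ (Nat.coprime_primes hq Nat.prime_five).2 q5)).trans o
  obtain ⟨u, hu, ou⟩ := exists_ord p11 (K := U a) (H.card a).symm.dvd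
  have ti : ∀ {x : G} {k : ℕ}, x ^ k ∈ U a → x ^ k ≠ 1 → ∀ y, y * x * y⁻¹ ∈ stabilizer G a → y ∈ stabilizer G a :=
    fun h1 h2 y e => inv_mem_iff.1 (H.semi h1 h2 (pow_fix (by simpa [mul_assoc] using conj_fix e y⁻¹) _)).symm
  constructor
  · have n0 : n ≠ 0 := by omega
    rw [← card_top, ← H.card_G a, ← e1, hn, Nat.factorization_mul n.succ_ne_zero (mul_ne_zero n0 Nat.card_pos.ne'),
      Nat.factorization_mul n0 Nat.card_pos.ne', Finsupp.add_apply, Finsupp.add_apply,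
      Nat.factorization_eq_zero_of_not_dvd (fun e => hq.not_dvd_one ((Nat.dvd_add_right qn).1 e)), zero_add,
      add_eq_left]
    refine Nat.factorization_eq_zero_of_not_dvd fun e => ?_
    obtain ⟨x, hx, o⟩ := exists_ord hq e
    obtain ⟨k, hk, z, hz, rfl, -, -, k5⟩ := H.dec_ab1 hab hx.1 hx.2
    have o' := o5 o
    rw [Commute.mul_pow (mem_cent1.1 (cc hz hk)), k5, one_mul] at o'
    have := fix_modEq hq (S := ⊤) (X := (Set.univ : Set Ω)) (fun _ _ _ _ => trivial) (mem_top (z ^ 5)) (n := 1)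
      fun _ _ => by rw [pow_one, o1 o', one_smul]
    rw [H.fixK (cent_anti le_sup_left (pow_mem hz 5)), ← H.kx1 hL left_pt (pow_mem hz 5) (fun e => hq.ne_one (by
      rw [← o', e, orderOf_one])), (H.card1 hL left_pt).1, Set.ncard_univ, hn] at this
    exact H.false_a3 hL left_pt (pow_mem hz 5) (o'.trans ((Nat.prime_dvd_prime_iff_eq hq p11).1
      ((Nat.ModEq.add_right_cancel' 1 this).dvd_iff dvd_rfl |>.2 qn)))
  by_cases q11 : q = 11
  · exact ⟨u, H.ufix hu, ou.symm.dvd, (q11.trans ou.symm).dvd, ti (k := 1) (pow_mem hu 1) (by rintro e; simp_all)⟩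
  obtain ⟨z, hz, o⟩ := exists_ord hq (K := stabilizer G a) (e1 ▸ qn.mul_right _)
  have cm : Commute u (z ^ 5) := mem_cent.1 (H.pow5 hz) u hu
  have co := (Nat.coprime_primes p11 hq).2 (Ne.symm q11)
  have := cm.orderOf_mul_eq_mul_orderOf_of_coprime (by rwa [ou, o5 o])
  have e : (u * z ^ 5) ^ q = u ^ q := by rw [cm.mul_pow, o1 (o5 o), mul_one]
  rw [ou, o5 o] at this
  exact ⟨_, mul_mem (H.ufix hu) (pow_mem hz 5), this ▸ dvd_mul_right .., this ▸ dvd_mul_left .., ti (k := q)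
    (e ▸ pow_mem hu q) fun e' => q11 ((Nat.prime_dvd_prime_iff_eq p11 hq).1 (ou ▸ orderOf_dvd_of_pow_eq_one (e ▸ e'))).symm⟩

end Tau

theorem Core.false (H : Core U) : False := by
  obtain ⟨τ, H⟩ := H.exists_tau
  by_cases e : τ = 1
  · subst e
    exact H.false_a1 fun hab y hy => by_contra (H.false_a4 hab hy)
  · exact H.false2 (ord2 H.sq e)

end Cfsg.Lib.E11
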