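import Cfsg.Agent.Lib.E11.Q

/-! The induction. -/

set_option autoImplicit false
set_option linter.unusedSectionVars false

namespace Cfsg.Lib.E11

open Cfsg Subgroup MulAction Cfsg.Lib.Transfer Cfsg.Lib.BG Cfsg.Lib.Small Cfsg.Lib.Perm Cfsg.Lib.FGS

universe u v

variable {G Ω : Type*} [Group G] [Finite G] {K L N : Subgroup G} [MulAction G Ω] [Finite Ω] {U : Ω → Subgroup G} {a b : Ω}

theorem le_span (U : Ω → Subgroup G) (a : Ω) : U a ≤ span U ⊤ := le_iSup₂_of_le (f := fun c (_ : c ∈ pts U ⊤) => U c) a (le_top (a := U a)) le_rfl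

namespace Geo
variable (H : Geo U)
include H

theorem ex_pair (hK : Blk K) (ha : a ∈ pts U K) : ∃ a b, a ≠ b ∧ U a ⊔ U b = K := by
  rcases hK with hK | hK
  · obtain ⟨b, hb, e⟩ := H.exists_ne (.inl hK) ha
    exact ⟨b, a, e, H.pair_eq hK hb ha e⟩
  obtain ⟨u, hu, o⟩ := exists_ord Nat.prime_two (K := K) (by rw [(fj hK).card]; norm_num)
  obtain ⟨c, hc, e, -⟩ := H.j1_fix hK ha hu o
  obtain ⟨d, hd, e1, e2⟩ := ex_ne_fix (fun _ hg _ hx => H.smul_mem' hg hx) hu (sq2 o) (H.ncard_even (.inr hK) ha) hc e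
  exact ⟨c, d, e1, H.nt1' hK hc hd e1 hu o e e2⟩

theorem eq_top [N.Normal] (hs : span U ⊤ = ⊤) (ha : U a ≤ N) : N = ⊤ :=
  eq_top_iff.2 (hs.ge.trans (span_mono fun b _ => let ⟨g, e⟩ := H.trans_all a b
    e ▸ H.smul_mem (le_normalizer_of_normal (mem_top g)) ha))

theorem central [hN : N.Normal] (hs : span U ⊤ = ⊤) (h : N ≠ ⊤) : (⊤ : Subgroup G) ≤ 𝐂(N) := by
  refine hs.ge.trans (iSup₂_le fun a _ => cent_of_norm_of_disjoint le_normalizer_of_normal (fun n hn => H.nrm ?_)
    (inf_eq_bot_of_prime (H.card a ▸ p11) fun e => h (H.eq_top hs e)))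
  by_contra e
  rcases (H.blk e).nml (L := N ⊓ (U (n • a) ⊔ U a)) ⟨inf_le_right, norm_inf le_normalizer_of_normal (le_norm _)⟩ with e' | e'
  · have e1 := (SD.of_norm le_normalizer_of_normal e').card
    have e2 := (card_dvd (show N ⊔ (U (n • a) ⊔ U a) ≤ N ⊔ U a from sup_le le_sup_left (sup_le (H.eqv n a ▸
      conj_le_of_norm le_sup_right (le_norm _ (mem_sup_left hn))) le_sup_right))).trans
        (Coprime.card_sup_dvd le_normalizer_of_normal)
    rw [← e1, H.card] at e2
    have := Nat.dvd_of_mul_dvd_mul_left Nat.card_pos e2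
    rcases (H.blk e).card with e | e <;> rw [e] at this <;> omega
  · exact h (H.eq_top hs (le_sup_right.trans (e'.ge.trans inf_le_left)))

theorem sub_geo (K : Subgroup G) : Geo fun c : sub (span U K) (pts U K) (fun _ hg _ hx => H.smul_mem' (span_le hg) hx) =>
    (U c.1).subgroupOf (span U K) := by
  have le : ∀ c : sub (span U K) (pts U K) (fun _ hg _ hx => H.smul_mem' (span_le hg) hx), U c.1 ≤ span U K :=
    fun c => pts_span.ge c.2
  refine ⟨fun c d e => Subtype.ext (H.inj ?_), fun g c => Subgroup.ext fun x => ?_, fun c =>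
    (Nat.card_congr (subgroupOfEquivOfLe (le c)).toEquiv).trans (H.card _), fun {c d} e => ?_⟩
  · rw [← inf_of_le_left (le c), ← inf_of_le_left (le d)]
    exact subgroupOf_inj.1 e
  · rw [mem_conj, mem_subgroupOf, mem_subgroupOf, show (g • c).1 = g.1 • c.1 from rfl, H.eqv, mem_conj]
    rfl
  · rw [← subgroupOf_sup (le c) (le d)]
    exact (H.blk fun e' => e (Subtype.ext e')).of_equiv (subgroupOfEquivOfLe (sup_le (le c) (le d))).symm

end Geo

theorem main (n : ℕ) : ∀ {G : Type u} [Group G] [Finite G] {Ω : Type v} [MulAction G Ω] [Finite Ω] {U : Ω → Subgroup G},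
    Nat.card G = n → Geo U → (∃ a b : Ω, a ≠ b) → span U ⊤ = ⊤ → Blk (⊤ : Subgroup G) := by
  induction n using Nat.strong_induction_on with
  | _ n ih =>
  intro G _ _ Ω _ _ U hn H ⟨a, b, hab⟩ hs
  by_cases h : ∃ N : Subgroup G, N.Normal ∧ N ≠ ⊥ ∧ N ≠ ⊤
  · obtain ⟨N, hN, h1, h2⟩ := h
    have cen := H.central hs h2
    let _ : MulAction (G ⧸ N) Ω := MulAction.compHom Ω (QuotientGroup.lift N (toPermHom G Ω) fun x hx =>
      Equiv.ext fun c => H.cfix (cent_symm (le_top.trans cen) hx))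
    have eqv : ∀ {a b : Ω}, a ≠ b → Nonempty (↥(U a ⊔ U b) ≃* ↥((U a).map (QuotientGroup.mk' N) ⊔ (U b).map (QuotientGroup.mk' N))) :=
      fun {a b} e => by
        rw [← Subgroup.map_sup]
        exact ⟨MulEquiv.ofBijective ((QuotientGroup.mk' N).subgroupMap _) ⟨(injective_iff_map_eq_one _).2 fun x hx =>
          Subtype.ext ((H.blk e).eq_one x.2 (cent_symm (le_top.trans cen) ((QuotientGroup.eq_one_iff _).1
            (congrArg Subtype.val hx)))), MonoidHom.subgroupMap_surjective _ _⟩⟩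
    have cd : ∀ a, Nat.card ((U a).map (QuotientGroup.mk' N)) = 11 := fun a =>
      ((Nat.dvd_prime p11).1 (H.card a ▸ card_map_dvd _ _)).resolve_left fun e => h2 (H.eq_top hs
        (((Subgroup.map_eq_bot_iff _).1 (card_eq_one.1 e)).trans (QuotientGroup.ker_mk' N).le))
    have H' : Geo fun a => (U a).map (QuotientGroup.mk' N) := ⟨fun a b e => by_contra fun e' => by
      have := Nat.card_congr (eqv e').some.toEquiv
      rw [show (U a).map _ = (U b).map _ from e, sup_idem, cd] at this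
      rcases (H.blk e').card with e | e <;> omega, fun g a => by
        obtain ⟨g, rfl⟩ := QuotientGroup.mk'_surjective N g
        rw [show QuotientGroup.mk' N g • a = g • a from rfl, H.eqv, map_map, map_map]
        congr 1, cd, fun e => (H.blk e).of_equiv (eqv e).some⟩
    obtain ⟨c, d, hcd, e⟩ := H'.ex_pair (ih _ (by
      rw [← hn, card_eq_card_quotient_mul_card_subgroup N]
      exact lt_mul_of_one_lt_right Nat.card_pos (one_lt_card_iff_ne_bot _ |>.2 h1)) rfl H' ⟨a, b, hab⟩ (by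
        refine eq_top_iff.2 ((map_top_of_surjective _ (QuotientGroup.mk'_surjective N)).ge.trans ((map_mono hs.ge).trans
          (map_le_iff_le_comap.2 (iSup₂_le fun c _ => map_le_iff_le_comap.1 ?_))))
        exact le_span (fun a => (U a).map (QuotientGroup.mk' N)) c)) (a := a) (le_top (a := (U a).map _))
    have : (U c ⊔ U d).Normal := normalizer_eq_top_iff.1 (eq_top_iff.2 fun g _ => by
      rw [← Subgroup.map_sup] at e
      obtain ⟨k, hk, e⟩ := e.ge (mem_top (QuotientGroup.mk' N g))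
      rw [← mul_inv_cancel_left k g]
      exact mul_mem (le_norm _ hk) (norm_of_cent (cent_symm (le_top.trans cen)) (QuotientGroup.eq.1 e)))
    exact H.eq_top hs (le_sup_left (a := U c) (b := U d)) ▸ H.blk hcd
  push Not at h
  have : Nontrivial G := Finite.one_lt_card_iff_nontrivial.1 (lt_of_lt_of_le (by rw [H.card]; omega) (card_le_card_group (U a)))
  refine by_contra fun e => Core.false ⟨H, ⟨fun N hN => or_iff_not_imp_left.2 (h N hN)⟩, fun {K a b} hK ha hb hab =>
    (ih _ ?_ rfl (H.sub_geo K) ⟨⟨a, ha⟩, ⟨b, hb⟩, fun e => hab (congrArg Subtype.val e)⟩ ?_).of_equiv topEquiv, e, a, b, hab⟩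
  · rw [← hn, ← card_top (G := G)]
    exact card_lt_of_lt (span_le.trans_lt hK.lt_top)
  · refine map_injective (subtype_injective _) (le_antisymm (map_mono le_top) ?_)
    rw [← MonoidHom.range_eq_map, range_subtype]
    refine iSup₂_le fun c hc => ?_
    rw [← map_subgroupOf_eq_of_le (show U c ≤ span U K from pts_span.ge hc)]
    exact map_mono (le_span (fun c : sub (span U K) (pts U K) (fun _ hg _ hx => H.smul_mem' (span_le hg) hx) =>
      (U c.1).subgroupOf (span U K)) ⟨c, hc⟩)

end Cfsg.Lib.E11
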